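import Mathlib
import Cfsg.Agent.Lib.Helper32.PGroupCenter
import Cfsg.Agent.Lib.Helper61.DihedralLift

set_option autoImplicit false

namespace Cfsg.Agent.Lib.Helper73

open scoped commutatorElement

universe u

section tau

variable {G : Type*} [Group G]

/-- For an abelian normal subgroup `A` and any `b`, the map `x ↦ x * b * x⁻¹ * b⁻¹` is a
homomorphism `A →* G`. -/
def tauHom (A : Subgroup G) [hAn : A.Normal] (hA : ∀ x ∈ A, ∀ y ∈ A, x * y = y * x) (b : G) :
    ↥A →* G :=
  MonoidHom.mk' (fun x => (x : G) * b * (x : G)⁻¹ * b⁻¹) (by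
    intro x y
    have hx' : b * (x : G)⁻¹ * b⁻¹ ∈ A := hAn.conj_mem _ (A.inv_mem x.2) b
    have hy' : b * (y : G)⁻¹ * b⁻¹ ∈ A := hAn.conj_mem _ (A.inv_mem y.2) b
    have e : (y : G) * (b * (y : G)⁻¹ * b⁻¹) * (b * (x : G)⁻¹ * b⁻¹)
        = (b * (x : G)⁻¹ * b⁻¹) * ((y : G) * (b * (y : G)⁻¹ * b⁻¹)) :=
      hA _ (A.mul_mem y.2 hy') _ hx'
    simp only [Subgroup.coe_mul]
    calc (x : G) * y * b * ((x : G) * y)⁻¹ * b⁻¹
        = x * ((y : G) * (b * (y : G)⁻¹ * b⁻¹) * (b * (x : G)⁻¹ * b⁻¹)) := by group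
      _ = x * ((b * (x : G)⁻¹ * b⁻¹) * ((y : G) * (b * (y : G)⁻¹ * b⁻¹))) := by rw [e]
      _ = (x : G) * b * (x : G)⁻¹ * b⁻¹ * ((y : G) * b * (y : G)⁻¹ * b⁻¹) := by group)

@[simp] theorem tauHom_apply (A : Subgroup G) [A.Normal] (hA : ∀ x ∈ A, ∀ y ∈ A, x * y = y * x)
    (b : G) (x : ↥A) : tauHom A hA b x = (x : G) * b * (x : G)⁻¹ * b⁻¹ := rfl

theorem tauHom_mem (A : Subgroup G) [hAn : A.Normal] (hA : ∀ x ∈ A, ∀ y ∈ A, x * y = y * x)
    (b : G) (x : ↥A) : tauHom A hA b x ∈ A := by
  rw [tauHom_apply]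
  have : (x : G) * b * (x : G)⁻¹ * b⁻¹ = (x : G) * (b * (x : G)⁻¹ * b⁻¹) := by group
  rw [this]
  exact A.mul_mem x.2 (hAn.conj_mem _ (A.inv_mem x.2) b)

/-- If `G = A ∪ bA` with `A` abelian normal of index two, then `G' ≤ range τ`. -/
theorem commutator_le_range_tauHom (A : Subgroup G) [hAn : A.Normal]
    (hA : ∀ x ∈ A, ∀ y ∈ A, x * y = y * x) (hidx : A.index = 2) (b : G) (hb : b ∉ A) :
    commutator G ≤ (tauHom A hA b).range := by
  -- notation
  have hτA : ∀ x : ↥A, tauHom A hA b x ∈ A := tauHom_mem A hA b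
  have hRA : (tauHom A hA b).range ≤ A := by
    rintro _ ⟨x, rfl⟩; exact hτA x
  -- conjugation by b maps the range into itself
  have hconjb : ∀ r ∈ (tauHom A hA b).range, b * r * b⁻¹ ∈ (tauHom A hA b).range := by
    rintro _ ⟨x, rfl⟩
    refine ⟨⟨b * (x : G) * b⁻¹, hAn.conj_mem _ x.2 b⟩, ?_⟩
    simp only [tauHom_apply]
    group
  have hconjb' : ∀ r ∈ (tauHom A hA b).range, b⁻¹ * r * b ∈ (tauHom A hA b).range := by
    rintro _ ⟨x, rfl⟩
    refine ⟨⟨b⁻¹ * (x : G) * b, by simpa using hAn.conj_mem _ x.2 b⁻¹⟩, ?_⟩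
    simp only [tauHom_apply]
    group
  have hconjA : ∀ m ∈ A, ∀ r ∈ (tauHom A hA b).range, m * r * m⁻¹ = r := by
    intro m hm r hr
    rw [hA m hm r (hRA hr), mul_inv_cancel_right]
  -- every element is in A or in bA
  have hsplit : ∀ g : G, g ∈ A ∨ b⁻¹ * g ∈ A := by
    intro g
    by_cases hg : g ∈ A
    · exact Or.inl hg
    · right
      rw [Subgroup.mul_mem_iff_of_index_two hidx]
      simp [hg, hb]
  have hnormal : (tauHom A hA b).range.Normal := by
    refine ⟨fun r hr g => ?_⟩
    rcases hsplit g with hg | hg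
    · rw [hconjA g hg r hr]; exact hr
    · have e : g * r * g⁻¹ = b * ((b⁻¹ * g) * r * (b⁻¹ * g)⁻¹) * b⁻¹ := by group
      rw [e, hconjA _ hg r hr]
      exact hconjb r hr
  -- the quotient is commutative
  rw [← Subgroup.Normal.quotient_commutative_iff_commutator_le]
  have hgen : Subgroup.closure ((A : Set G) ∪ {b}) = ⊤ := by
    rw [eq_top_iff]
    intro g _
    rcases hsplit g with hg | hg
    · exact Subgroup.subset_closure (Or.inl hg)
    · have : g = b * (b⁻¹ * g) := by group
      rw [this]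
      exact Subgroup.mul_mem _ (Subgroup.subset_closure (Or.inr rfl))
        (Subgroup.subset_closure (Or.inl hg))
  have hgen' : Subgroup.closure ((QuotientGroup.mk' (tauHom A hA b).range) '' ((A : Set G) ∪ {b}))
      = ⊤ := by
    rw [← MonoidHom.map_closure, hgen, ← MonoidHom.range_eq_map,
      MonoidHom.range_eq_top.2 (QuotientGroup.mk'_surjective _)]
  have hmb : ∀ m ∈ A, (QuotientGroup.mk' (tauHom A hA b).range m) *
      (QuotientGroup.mk' (tauHom A hA b).range b) =
      (QuotientGroup.mk' (tauHom A hA b).range b) * (QuotientGroup.mk' (tauHom A hA b).range m) := by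
    intro m hm
    rw [← map_mul, ← map_mul]
    apply (QuotientGroup.eq).2
    -- (m b)⁻¹ (b m) = b⁻¹ (m⁻¹ b m b⁻¹) b
    have e : (m * b)⁻¹ * (b * m) = b⁻¹ * (m⁻¹ * b * (m⁻¹)⁻¹ * b⁻¹) * b := by group
    rw [e]
    exact hconjb' _ ⟨⟨m⁻¹, A.inv_mem hm⟩, rfl⟩
  have hcomm : ∀ x ∈ ((QuotientGroup.mk' (tauHom A hA b).range) '' ((A : Set G) ∪ {b})),
      ∀ y ∈ ((QuotientGroup.mk' (tauHom A hA b).range) '' ((A : Set G) ∪ {b})), x * y = y * x := by
    rintro _ ⟨g, hg, rfl⟩ _ ⟨h, hh, rfl⟩
    rcases hg with hg | hg <;> rcases hh with hh | hh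
    · rw [← map_mul, ← map_mul, hA g hg h hh]
    · rw [Set.mem_singleton_iff] at hh; subst hh
      exact hmb g hg
    · rw [Set.mem_singleton_iff] at hg; subst hg
      exact (hmb h hh).symm
    · rw [Set.mem_singleton_iff] at hg hh; subst hg; subst hh; rfl
  have hc := Subgroup.isMulCommutative_closure hcomm
  rw [hgen'] at hc
  refine ⟨⟨fun x y => ?_⟩⟩
  have := (isMulCommutative_iff.1 hc) ⟨x, Subgroup.mem_top x⟩ ⟨y, Subgroup.mem_top y⟩
  exact congrArg Subtype.val this

end tau


section cyclicMax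

theorem commutator_eq_bot_of_comm {G : Type*} [Group G] (h : ∀ a b : G, a * b = b * a) :
    commutator G = ⊥ := by
  rw [eq_bot_iff, commutator_def, Subgroup.commutator_le]
  intro g₁ _ g₂ _
  rw [Subgroup.mem_bot, commutatorElement_eq_one_iff_mul_comm]
  exact h g₁ g₂

/-- A non-abelian group of order 8 has an element of order 4. -/
theorem exists_index_two_of_card_eight {G : Type*} [Group G] [Finite G] (h8 : Nat.card G = 8)
    (hna : commutator G ≠ ⊥) : ∃ a : G, (Subgroup.zpowers a).index = 2 := by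
  have hex : ∃ g : G, g ^ 2 ≠ 1 := by
    by_contra hcon
    push Not at hcon
    apply hna
    apply commutator_eq_bot_of_comm
    intro g₁ g₂
    have inv_eq : ∀ x : G, x⁻¹ = x := fun x => by
      rw [inv_eq_iff_mul_eq_one, ← pow_two]; exact hcon x
    calc g₁ * g₂ = (g₁ * g₂)⁻¹ := (inv_eq _).symm
      _ = g₂⁻¹ * g₁⁻¹ := mul_inv_rev _ _
      _ = g₂ * g₁ := by rw [inv_eq, inv_eq]
  obtain ⟨g, hg⟩ := hex
  have hdvd : orderOf g ∣ 8 := h8 ▸ orderOf_dvd_natCard g
  have hcases : orderOf g = 1 ∨ orderOf g = 2 ∨ orderOf g = 4 ∨ orderOf g = 8 := by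
    have h1 : orderOf g ∈ Nat.divisors 8 := Nat.mem_divisors.2 ⟨hdvd, by norm_num⟩
    have h8d : Nat.divisors 8 = {1, 2, 4, 8} := by decide
    rw [h8d] at h1
    simpa using h1
  rcases hcases with h | h | h | h
  · exfalso; apply hg; rw [orderOf_eq_one_iff.1 h, one_pow]
  · exfalso; apply hg; rw [← h]; exact pow_orderOf_eq_one g
  · refine ⟨g, ?_⟩
    have := (Subgroup.zpowers g).card_mul_index
    rw [Nat.card_zpowers, h, h8] at this
    omega
  · exfalso
    apply hna
    have hc : IsCyclic G := isCyclic_of_orderOf_eq_card g (by rw [h, h8])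
    have hcm : IsMulCommutative G := IsCyclic.isMulCommutative
    exact commutator_eq_bot_of_comm (isMulCommutative_iff.1 hcm)

theorem exists_zpowers_index_two_aux (n : ℕ) : ∀ (G : Type u) [Group G] [Finite G],
    Nat.card G = n → IsPGroup 2 G → (commutator G).index = 4 →
    ∃ a : G, (Subgroup.zpowers a).index = 2 := by
  induction n using Nat.strong_induction_on with
  | _ n ih =>
  intro G _ _ hn hG hidx
  have : Fact (Nat.Prime 2) := ⟨Nat.prime_two⟩
  by_cases hc : commutator G = ⊥
  · rw [hc, Subgroup.index_bot] at hidx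
    obtain ⟨a, ha⟩ := exists_prime_orderOf_dvd_card' (G := G) 2 (by rw [hidx]; norm_num)
    refine ⟨a, ?_⟩
    have := (Subgroup.zpowers a).card_mul_index
    rw [Nat.card_zpowers, ha, hidx] at this
    omega
  · have hcardc := (commutator G).card_mul_index
    rw [hidx] at hcardc
    have hc2 : 2 ≤ Nat.card (commutator G) := by
      have h1 : Nat.card (commutator G) ≠ 1 := fun h => hc (Subgroup.eq_bot_of_card_eq _ h)
      have h0 : 0 < Nat.card (commutator G) := Nat.card_pos
      omega
    by_cases h8 : Nat.card G = 8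
    · exact exists_index_two_of_card_eight h8 hc
    · obtain ⟨k, hk⟩ := (IsPGroup.iff_card).1 hG
      have hk4 : 4 ≤ k := by
        by_contra hlt
        push Not at hlt
        interval_cases k <;> simp at hk <;> omega
      have h16 : 16 ≤ Nat.card G := by
        rw [hk]
        calc 16 = 2 ^ 4 := by norm_num
          _ ≤ 2 ^ k := Nat.pow_le_pow_right (by norm_num) hk4
      have hc4 : 4 ≤ Nat.card (commutator G) := by omega
      -- a central involution in the commutator subgroup
      obtain ⟨x, hxc, hxz, hx1⟩ :=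
        Cfsg.Agent.Lib.Helper32.exists_ne_one_mem_normal_inf_center hG (commutator G) hc
      obtain ⟨j, hj⟩ := (IsPGroup.iff_orderOf.1 hG) x
      have hj0 : j ≠ 0 := by
        rintro rfl
        rw [pow_zero, orderOf_eq_one_iff] at hj
        exact hx1 hj
      obtain ⟨i, rfl⟩ := Nat.exists_eq_succ_of_ne_zero hj0
      obtain ⟨z, hz⟩ : ∃ z : G, z = x ^ (2 ^ i) := ⟨_, rfl⟩
      have hz1 : z ≠ 1 := by
        rw [hz]
        apply pow_ne_one_of_lt_orderOf (by positivity)
        rw [hj]
        exact Nat.pow_lt_pow_right (by norm_num) (Nat.lt_succ_self i)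
      have hzz : z * z = 1 := by
        rw [hz, ← pow_add, ← two_mul, ← pow_succ', ← hj]
        exact pow_orderOf_eq_one x
      have hzc : z ∈ commutator G := hz ▸ Subgroup.pow_mem _ hxc _
      have hzZ : z ∈ Subgroup.center G := hz ▸ Subgroup.pow_mem _ hxz _
      have hNle : Subgroup.zpowers z ≤ Subgroup.center G := Subgroup.zpowers_le.2 hzZ
      have hNn : (Subgroup.zpowers z).Normal := ⟨fun n hn g => by
        have := Subgroup.mem_center_iff.1 (hNle hn) g
        rw [this, mul_inv_cancel_right]; exact hn⟩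
      have hNcard : Nat.card (Subgroup.zpowers z) = 2 := by
        rw [Nat.card_zpowers]
        exact orderOf_eq_prime (by rw [pow_two]; exact hzz) hz1
      have hNcomm : Subgroup.zpowers z ≤ commutator G := Subgroup.zpowers_le.2 hzc
      have hsqN : ∀ u ∈ Subgroup.zpowers z, u * u = 1 := by
        rintro _ ⟨e, rfl⟩
        simp only []
        rw [← (Commute.refl z).mul_zpow, hzz, one_zpow]
      have hqcard : Nat.card (G ⧸ Subgroup.zpowers z) * 2 = Nat.card G := by
        rw [← hNcard]; exact (Subgroup.card_eq_card_quotient_mul_card_subgroup _).symm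
      have hqidx : (commutator (G ⧸ Subgroup.zpowers z)).index = 4 := by
        have e : commutator (G ⧸ Subgroup.zpowers z)
            = (commutator G).map (QuotientGroup.mk' (Subgroup.zpowers z)) := by
          rw [commutator_def, commutator_def, Subgroup.map_commutator, ← MonoidHom.range_eq_map,
            MonoidHom.range_eq_top.2 (QuotientGroup.mk'_surjective _)]
        rw [e, Subgroup.index_map_eq _ (QuotientGroup.mk'_surjective _)
          (by rw [QuotientGroup.ker_mk']; exact hNcomm), hidx]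
      obtain ⟨abar, habar⟩ := ih (Nat.card (G ⧸ Subgroup.zpowers z)) (by omega)
        (G ⧸ Subgroup.zpowers z) rfl (hG.to_quotient _) hqidx
      obtain ⟨a, rfl⟩ := QuotientGroup.mk_surjective abar
      obtain ⟨M, hM⟩ : ∃ M : Subgroup G, M = (Subgroup.zpowers
          (a : G ⧸ Subgroup.zpowers z)).comap (QuotientGroup.mk' (Subgroup.zpowers z)) := ⟨_, rfl⟩
      have hMidx : M.index = 2 := by
        rw [hM, Subgroup.index_comap_of_surjective _ (QuotientGroup.mk'_surjective _)]
        exact habar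
      have haM : a ∈ M := by
        rw [hM, Subgroup.mem_comap]
        exact Subgroup.mem_zpowers _
      have hNM : Subgroup.zpowers z ≤ M := by
        intro u hu
        rw [hM, Subgroup.mem_comap]
        have : (QuotientGroup.mk' (Subgroup.zpowers z)) u = 1 :=
          (QuotientGroup.eq_one_iff u).2 hu
        rw [this]; exact Subgroup.one_mem _
      have hrep : ∀ m ∈ M, ∃ i : ℤ, ∃ u ∈ Subgroup.zpowers z, m = a ^ i * u := by
        intro m hm
        rw [hM, Subgroup.mem_comap] at hm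
        obtain ⟨i, hi⟩ := hm
        refine ⟨i, (a ^ i)⁻¹ * m, ?_, by group⟩
        apply (QuotientGroup.eq).1
        rw [QuotientGroup.mk_zpow]
        exact hi
      by_cases hza : z ∈ Subgroup.zpowers a
      · refine ⟨a, ?_⟩
        have : Subgroup.zpowers a = M := by
          apply le_antisymm (Subgroup.zpowers_le.2 haM)
          intro m hm
          obtain ⟨i, u, hu, rfl⟩ := hrep m hm
          exact Subgroup.mul_mem _ (Subgroup.zpow_mem_zpowers a i)
            ((Subgroup.zpowers_le.2 hza) hu)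
        rw [this]; exact hMidx
      · exfalso
        obtain ⟨b, hb⟩ : ∃ b, b ∉ M := by
          by_contra h
          push Not at h
          have : M = ⊤ := eq_top_iff.2 fun x _ => h x
          rw [this, Subgroup.index_top] at hMidx
          omega
        have hMn : M.Normal := Subgroup.normal_of_index_eq_two hMidx
        have hcen : ∀ u ∈ Subgroup.zpowers z, ∀ g : G, Commute u g := fun u hu g =>
          (Subgroup.mem_center_iff.1 (hNle hu) g).symm
        have hMcomm : ∀ m ∈ M, ∀ m' ∈ M, m * m' = m' * m := by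
          intro m hm m' hm'
          obtain ⟨i, u, hu, rfl⟩ := hrep m hm
          obtain ⟨j, u', hu', rfl⟩ := hrep m' hm'
          have h1 : Commute (a ^ i) (a ^ j) := Commute.zpow_zpow_self a i j
          have h2 : Commute (a ^ i) u' := (hcen u' hu' _).symm
          have h3 : Commute u (a ^ j) := hcen u hu _
          have h4 : Commute u u' := hcen u hu _
          exact ((h1.mul_right h2).mul_left (h3.mul_right h4)).eq
        obtain ⟨c, hcdef⟩ : ∃ c : G, c = tauHom M hMcomm b ⟨a, haM⟩ := ⟨_, rfl⟩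
        have hcM : c ∈ M := hcdef ▸ tauHom_mem M hMcomm b _
        have hrange : (tauHom M hMcomm b).range ≤ Subgroup.zpowers c := by
          rintro _ ⟨m, rfl⟩
          obtain ⟨i, u, hu, hmu⟩ := hrep m m.2
          have hm : m = (⟨a, haM⟩ : ↥M) ^ i * ⟨u, hNM hu⟩ := by
            apply Subtype.ext
            rw [hmu]; simp
          have hτu : tauHom M hMcomm b ⟨u, hNM hu⟩ = 1 := by
            rw [tauHom_apply]
            show u * b * u⁻¹ * b⁻¹ = 1
            rw [(hcen u hu b).eq]; group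
          rw [hm, map_mul, map_zpow, hτu, mul_one, ← hcdef]
          exact Subgroup.zpow_mem_zpowers c i
        have hcomle : commutator G ≤ Subgroup.zpowers c :=
          (commutator_le_range_tauHom M hMcomm hMidx b hb).trans hrange
        obtain ⟨e, he⟩ : ∃ e : ℤ, c ^ e = z := hcomle hzc
        have hord4 : 4 ≤ orderOf c := by
          rw [← Nat.card_zpowers]
          exact hc4.trans (Subgroup.card_le_of_le hcomle)
        obtain ⟨r, hr⟩ := (IsPGroup.iff_orderOf.1 hG) c
        have hr2 : 2 ≤ r := by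
          by_contra hlt
          push Not at hlt
          have h2r : 2 ^ r ≤ 2 := by
            calc 2 ^ r ≤ 2 ^ 1 := Nat.pow_le_pow_right (by norm_num) (by omega)
              _ = 2 := by norm_num
          omega
        have h4dvd : (4 : ℤ) ∣ (orderOf c : ℤ) := by
          rw [hr]
          obtain ⟨r', rfl⟩ := Nat.exists_eq_add_of_le hr2
          exact ⟨2 ^ r', by push_cast; ring⟩
        have hc2e : c ^ (2 * e) = 1 := by
          rw [two_mul, zpow_add, he, hzz]
        have hdvd2e : (orderOf c : ℤ) ∣ 2 * e := orderOf_dvd_iff_zpow_eq_one.2 hc2e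
        have h2e : (2 : ℤ) ∣ e := by
          have : (4 : ℤ) ∣ 2 * e := h4dvd.trans hdvd2e
          omega
        obtain ⟨e', rfl⟩ := h2e
        obtain ⟨j, u, hu, hcu⟩ := hrep c hcM
        have hcc : c * c ∈ Subgroup.zpowers a := by
          have h1 : c * c = a ^ (j + j) * (u * u) := by
            rw [hcu, zpow_add]
            have := (hcen u hu (a ^ j)).eq
            calc a ^ j * u * (a ^ j * u) = a ^ j * (u * a ^ j) * u := by group
              _ = a ^ j * (a ^ j * u) * u := by rw [this]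
              _ = a ^ j * a ^ j * (u * u) := by group
          rw [h1, hsqN u hu, mul_one]
          exact Subgroup.zpow_mem_zpowers a _
        apply hza
        rw [← he, zpow_mul, zpow_two]
        exact Subgroup.zpow_mem _ hcc _

/-- **Taussky, first half.** A finite 2-group whose commutator subgroup has index four has a cyclic
subgroup of index two. -/
theorem exists_zpowers_index_two {G : Type u} [Group G] [Finite G] (hG : IsPGroup 2 G)
    (hidx : (commutator G).index = 4) : ∃ a : G, (Subgroup.zpowers a).index = 2 :=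
  exists_zpowers_index_two_aux _ G rfl hG hidx

end cyclicMax


section quaternion

open QuaternionGroup Cfsg.Agent.Lib.Helper61

variable {G : Type*} [Group G]

/-- The map from the quaternion group sending `a i` to `x ^ i` and `xa i` to `y * x ^ i`. -/
def quaternionFun (y x : G) (n : ℕ) : QuaternionGroup n → G
  | a i => x ^ (i.cast : ℤ)
  | xa i => y * x ^ (i.cast : ℤ)

theorem zpow_mul_of_conj {y x : G} (hyx : y * x * y⁻¹ = x⁻¹) (k : ℤ) :
    x ^ k * y = y * x ^ (-k) := by
  have h1 : y * x ^ (-k) * y⁻¹ = (y * x * y⁻¹) ^ (-k) := by rw [conj_zpow]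
  rw [hyx, inv_zpow, ← zpow_neg, neg_neg] at h1
  calc x ^ k * y = (y * x ^ (-k) * y⁻¹) * y := by rw [h1]
    _ = y * x ^ (-k) := by group

/-- The quaternion group of order `4n` maps to any group with elements `y`, `x` satisfying the
quaternion relations. -/
def quaternionLift (y x : G) (n : ℕ) (hx : x ^ (2 * n) = 1) (hy : y * y = x ^ n)
    (hyx : y * x * y⁻¹ = x⁻¹) : QuaternionGroup n →* G :=
  MonoidHom.mk' (quaternionFun y x n) (by
    intro u v
    have key := zpow_mul_of_conj hyx
    rcases u with i | i <;> rcases v with j | j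
    · show x ^ ((i + j : ZMod (2 * n)).cast : ℤ) = x ^ (i.cast : ℤ) * x ^ (j.cast : ℤ)
      rw [← zpow_add]
      apply zpow_eq_of_cast_eq hx
      simp
    · show y * x ^ ((j - i : ZMod (2 * n)).cast : ℤ) = x ^ (i.cast : ℤ) * (y * x ^ (j.cast : ℤ))
      rw [← mul_assoc, key, mul_assoc, ← zpow_add]
      congr 1
      apply zpow_eq_of_cast_eq hx
      simp [sub_eq_neg_add]
    · show y * x ^ ((i + j : ZMod (2 * n)).cast : ℤ) = (y * x ^ (i.cast : ℤ)) * x ^ (j.cast : ℤ)
      rw [mul_assoc, ← zpow_add]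
      congr 1
      apply zpow_eq_of_cast_eq hx
      simp
    · show x ^ (((n : ZMod (2 * n)) + j - i : ZMod (2 * n)).cast : ℤ)
          = (y * x ^ (i.cast : ℤ)) * (y * x ^ (j.cast : ℤ))
      rw [mul_assoc, ← mul_assoc (x ^ _) y, key, mul_assoc, ← mul_assoc y y, hy, ← zpow_natCast,
        ← zpow_add, ← zpow_add]
      apply zpow_eq_of_cast_eq hx
      simp only [Int.cast_add, Int.cast_neg, Int.cast_natCast, ZMod.intCast_cast, ZMod.cast_id',
        id_eq]
      ring)

theorem quaternionLift_a (y x : G) (n : ℕ) (hx : x ^ (2 * n) = 1) (hy : y * y = x ^ n)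
    (hyx : y * x * y⁻¹ = x⁻¹) (i : ZMod (2 * n)) :
    quaternionLift y x n hx hy hyx (a i) = x ^ (i.cast : ℤ) := rfl

theorem quaternionLift_xa (y x : G) (n : ℕ) (hx : x ^ (2 * n) = 1) (hy : y * y = x ^ n)
    (hyx : y * x * y⁻¹ = x⁻¹) (i : ZMod (2 * n)) :
    quaternionLift y x n hx hy hyx (xa i) = y * x ^ (i.cast : ℤ) := rfl

theorem quaternionLift_surjective (y x : G) (n : ℕ) (hx : x ^ (2 * n) = 1) (hy : y * y = x ^ n)
    (hyx : y * x * y⁻¹ = x⁻¹) (hgen : Subgroup.closure ({y, x} : Set G) = ⊤) :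
    Function.Surjective (quaternionLift y x n hx hy hyx) := by
  rw [← MonoidHom.range_eq_top, eq_top_iff, ← hgen, Subgroup.closure_le]
  intro g hg
  rcases hg with rfl | rfl
  · refine ⟨xa 0, ?_⟩
    rw [quaternionLift_xa]
    simp
  · refine ⟨a 1, ?_⟩
    rw [quaternionLift_a]
    have : g ^ (((1 : ZMod (2 * n)).cast : ℤ)) = g ^ (1 : ℤ) := by
      apply zpow_eq_of_cast_eq hx
      simp
    rw [this, zpow_one]

/-- A group of order `4n` generated by `y` and `x` satisfying the quaternion relations is the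
(generalized) quaternion group. -/
noncomputable def quaternionEquiv [Finite G] (y x : G) (n : ℕ) [NeZero n] (hx : x ^ (2 * n) = 1)
    (hy : y * y = x ^ n) (hyx : y * x * y⁻¹ = x⁻¹)
    (hgen : Subgroup.closure ({y, x} : Set G) = ⊤) (hcard : Nat.card G = 4 * n) :
    QuaternionGroup n ≃* G :=
  MulEquiv.ofBijective (quaternionLift y x n hx hy hyx)
    ((quaternionLift_surjective y x n hx hy hyx hgen).bijective_of_nat_card_le (by
      rw [hcard, Nat.card_eq_fintype_card, QuaternionGroup.card]))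

end quaternion


section classify

variable {G : Type*} [Group G]

theorem eq_pow_half_of_sq_eq_one {a x : G} {m : ℕ} (hm : orderOf a = 2 * m)
    (hx : x ∈ Subgroup.zpowers a) (hxx : x * x = 1) (hx1 : x ≠ 1) : x = a ^ m := by
  obtain ⟨i, rfl⟩ := hx
  simp only [] at hxx hx1 ⊢
  have h2i : a ^ (2 * i) = 1 := by rw [two_mul, zpow_add]; exact hxx
  have hdvd : ((2 * m : ℕ) : ℤ) ∣ 2 * i := by
    rw [← hm]; exact orderOf_dvd_iff_zpow_eq_one.2 h2i
  have hmi : (m : ℤ) ∣ i := by
    obtain ⟨t, ht⟩ := hdvd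
    refine ⟨t, ?_⟩
    push_cast at ht
    linarith
  obtain ⟨t, rfl⟩ := hmi
  have ham : (a ^ m) * (a ^ m) = 1 := by
    rw [← pow_add, ← two_mul, ← hm]; exact pow_orderOf_eq_one a
  rw [zpow_mul, zpow_natCast] at hx1 ⊢
  rcases Int.even_or_odd' t with ⟨t', ht | ht⟩
  · exfalso; apply hx1
    rw [ht, zpow_mul, zpow_two, ham, one_zpow]
  · rw [ht, zpow_add, zpow_mul, zpow_two, ham, one_zpow, one_mul, zpow_one]

theorem closure_pair_eq_top {a b : G} (ha : (Subgroup.zpowers a).index = 2)
    (hb : b ∉ Subgroup.zpowers a) : Subgroup.closure ({b, a} : Set G) = ⊤ := by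
  have hle : Subgroup.zpowers a ≤ Subgroup.closure ({b, a} : Set G) :=
    Subgroup.zpowers_le.2 (Subgroup.subset_closure (by simp))
  have hbH : b ∈ Subgroup.closure ({b, a} : Set G) := Subgroup.subset_closure (by simp)
  have h := Subgroup.relIndex_mul_index hle
  rw [ha] at h
  have h1 : (Subgroup.zpowers a).relIndex (Subgroup.closure ({b, a} : Set G)) ≠ 1 :=
    fun h' => hb (Subgroup.relIndex_eq_one.1 h' hbH)
  have h2 : (Subgroup.zpowers a).relIndex (Subgroup.closure ({b, a} : Set G)) ∣ 2 :=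
    Dvd.intro _ h
  have h3 : (Subgroup.zpowers a).relIndex (Subgroup.closure ({b, a} : Set G)) = 2 := by
    rcases (Nat.dvd_prime Nat.prime_two).1 h2 with h' | h'
    · exact absurd h' h1
    · exact h'
  rw [h3] at h
  have h4 : (Subgroup.closure ({b, a} : Set G)).index = 1 := by omega
  exact Subgroup.index_eq_one.1 h4

theorem comm_of_closure_pair {a b : G} (hgen : Subgroup.closure ({b, a} : Set G) = ⊤)
    (hab : a * b = b * a) : ∀ x y : G, x * y = y * x := by
  have hcomm : ∀ x ∈ ({b, a} : Set G), ∀ y ∈ ({b, a} : Set G), x * y = y * x := by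
    rintro x (rfl | rfl) y (rfl | rfl)
    · rfl
    · exact hab.symm
    · exact hab
    · rfl
  have hc := Subgroup.isMulCommutative_closure hcomm
  rw [hgen] at hc
  intro x y
  have := (isMulCommutative_iff.1 hc) ⟨x, Subgroup.mem_top x⟩ ⟨y, Subgroup.mem_top y⟩
  exact congrArg Subtype.val this

/-- Normal form of a non-abelian 2-group whose commutator subgroup has index four. -/
theorem exists_generators [Finite G] (hG : IsPGroup 2 G) (hidx : (commutator G).index = 4)
    (hna : commutator G ≠ ⊥) :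
    ∃ (a b : G) (m : ℕ), orderOf a = 2 * m ∧ Nat.card G = 4 * m ∧ 2 ≤ m ∧
      (Subgroup.zpowers a).index = 2 ∧ b ∉ Subgroup.zpowers a ∧
      ((b * a * b⁻¹ = a⁻¹ ∧ b * b = 1) ∨ (b * a * b⁻¹ = a⁻¹ ∧ b * b = a ^ m) ∨
       (b * a * b⁻¹ = a⁻¹ * a ^ m ∧ b * b = 1 ∧ 4 ≤ m)) := by
  have : Fact (Nat.Prime 2) := ⟨Nat.prime_two⟩
  obtain ⟨a, ha⟩ := exists_zpowers_index_two hG hidx
  have hcardA : Nat.card (Subgroup.zpowers a) * 2 = Nat.card G := by
    rw [← ha]; exact Subgroup.card_mul_index _
  have hcardc : Nat.card (commutator G) * 4 = Nat.card G := by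
    rw [← hidx]; exact Subgroup.card_mul_index _
  have hc2 : 2 ≤ Nat.card (commutator G) := by
    have h1 : Nat.card (commutator G) ≠ 1 := fun h => hna (Subgroup.eq_bot_of_card_eq _ h)
    have h0 : 0 < Nat.card (commutator G) := Nat.card_pos
    omega
  have hN : orderOf a * 2 = Nat.card G := by rw [← Nat.card_zpowers]; exact hcardA
  obtain ⟨m, hm_def⟩ : ∃ m, m = Nat.card (commutator G) := ⟨_, rfl⟩
  rw [← hm_def] at hcardc hc2
  have hm : orderOf a = 2 * m := by omega
  have hG4 : Nat.card G = 4 * m := by omega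
  have hAn : (Subgroup.zpowers a).Normal := Subgroup.normal_of_index_eq_two ha
  have hAcomm : ∀ x ∈ Subgroup.zpowers a, ∀ y ∈ Subgroup.zpowers a, x * y = y * x := by
    rintro _ ⟨i, rfl⟩ _ ⟨j, rfl⟩
    exact (Commute.zpow_zpow_self a i j).eq
  obtain ⟨b, hb⟩ : ∃ b, b ∉ Subgroup.zpowers a := by
    by_contra h
    push Not at h
    have : Subgroup.zpowers a = ⊤ := eq_top_iff.2 fun x _ => h x
    rw [this, Subgroup.index_top] at ha
    omega
  have hgen := closure_pair_eq_top ha hb
  have hcomle := commutator_le_range_tauHom (Subgroup.zpowers a) hAcomm ha b hb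
  have hker : Nat.card (tauHom (Subgroup.zpowers a) hAcomm b).ker ≤ 2 := by
    have h1 := (tauHom (Subgroup.zpowers a) hAcomm b).ker.card_mul_index
    rw [Subgroup.index_ker] at h1
    have h2 : m ≤ Nat.card (tauHom (Subgroup.zpowers a) hAcomm b).range := by
      rw [hm_def]; exact Subgroup.card_le_of_le hcomle
    have h3 : Nat.card ↥(Subgroup.zpowers a) = 2 * m := by rw [Nat.card_zpowers]; exact hm
    rw [h3] at h1
    by_contra hlt
    push Not at hlt
    have h4 : 3 * m ≤ Nat.card (tauHom (Subgroup.zpowers a) hAcomm b).ker *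
        Nat.card (tauHom (Subgroup.zpowers a) hAcomm b).range := Nat.mul_le_mul hlt h2
    omega
  have hsq : ∀ x ∈ Subgroup.zpowers a, x * b = b * x → x * x = 1 := by
    intro x hx hxb
    have hxk : (⟨x, hx⟩ : ↥(Subgroup.zpowers a)) ∈ (tauHom _ hAcomm b).ker := by
      rw [MonoidHom.mem_ker, tauHom_apply]
      show x * b * x⁻¹ * b⁻¹ = 1
      rw [hxb]; group
    have hpow : (⟨⟨x, hx⟩, hxk⟩ : (tauHom _ hAcomm b).ker) ^
        Nat.card (tauHom (Subgroup.zpowers a) hAcomm b).ker = 1 := pow_card_eq_one'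
    have hk0 : 0 < Nat.card (tauHom (Subgroup.zpowers a) hAcomm b).ker := Nat.card_pos
    have hx' : x ^ Nat.card (tauHom (Subgroup.zpowers a) hAcomm b).ker = 1 := by
      have h5 := congrArg Subtype.val (congrArg Subtype.val hpow)
      simpa using h5
    have hk12 : Nat.card (tauHom (Subgroup.zpowers a) hAcomm b).ker = 1 ∨
        Nat.card (tauHom (Subgroup.zpowers a) hAcomm b).ker = 2 := by omega
    rcases hk12 with h | h
    · rw [h, pow_one] at hx'
      rw [hx', one_mul]
    · rw [h, pow_two] at hx'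
      exact hx'
  have hbb : b * b ∈ Subgroup.zpowers a := by
    rw [Subgroup.mul_mem_iff_of_index_two ha]
  have hbab : b * a * b⁻¹ ∈ Subgroup.zpowers a := hAn.conj_mem a (Subgroup.mem_zpowers a) b
  obtain ⟨w, hw⟩ : ∃ w, w = a * (b * a * b⁻¹) := ⟨_, rfl⟩
  have hwA : w ∈ Subgroup.zpowers a := hw ▸ Subgroup.mul_mem _ (Subgroup.mem_zpowers a) hbab
  have hwb : w * b = b * w := by
    have h1 : (b * b) * a = a * (b * b) := hAcomm _ hbb _ (Subgroup.mem_zpowers a)
    have h2 : a * (b * a * b⁻¹) = (b * a * b⁻¹) * a := hAcomm _ (Subgroup.mem_zpowers a) _ hbab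
    have key : b * a * b * a = a * b * a * b := by
      calc b * a * b * a = (b * a * b⁻¹) * ((b * b) * a) := by group
        _ = (b * a * b⁻¹) * (a * (b * b)) := by rw [h1]
        _ = ((b * a * b⁻¹) * a) * (b * b) := by group
        _ = (a * (b * a * b⁻¹)) * (b * b) := by rw [h2]
        _ = a * b * a * b := by group
    calc w * b = (a * b * a * b) * b⁻¹ := by rw [hw]; group
      _ = (b * a * b * a) * b⁻¹ := by rw [key]
      _ = b * w := by rw [hw]; group
  have hww : w * w = 1 := hsq w hwA hwb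
  have hss : (b * b) * (b * b) = 1 := hsq (b * b) hbb (by group)
  have hconj : b * a * b⁻¹ = a⁻¹ * w := by rw [hw]; group
  by_cases hw1 : w = 1
  · by_cases hs1 : b * b = 1
    · exact ⟨a, b, m, hm, hG4, hc2, ha, hb, Or.inl ⟨by rw [hconj, hw1, mul_one], hs1⟩⟩
    · have := eq_pow_half_of_sq_eq_one hm hbb hss hs1
      exact ⟨a, b, m, hm, hG4, hc2, ha, hb,
        Or.inr (Or.inl ⟨by rw [hconj, hw1, mul_one], this⟩)⟩
  · have hwm : w = a ^ m := eq_pow_half_of_sq_eq_one hm hwA hww hw1
    have hm4 : 4 ≤ m := by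
      by_contra hlt
      push Not at hlt
      have h23 : m = 2 ∨ m = 3 := by omega
      rcases h23 with h | h
      · -- then b commutes with a
        apply hna
        apply commutator_eq_bot_of_comm
        apply comm_of_closure_pair hgen
        have h1 : b * a * b⁻¹ = a := by
          rw [hconj, hwm, h]
          group
        calc a * b = (b * a * b⁻¹) * b := by rw [h1]
          _ = b * a := by group
      · obtain ⟨r, hr⟩ := (IsPGroup.iff_orderOf.1 hG) a
        rw [hm, h] at hr
        have hr3 : r < 3 := by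
          by_contra h3
          push Not at h3
          have : 2 ^ 3 ≤ 2 ^ r := Nat.pow_le_pow_right (by norm_num) h3
          omega
        interval_cases r <;> omega
    by_cases hs1 : b * b = 1
    · exact ⟨a, b, m, hm, hG4, hc2, ha, hb, Or.inr (Or.inr ⟨by rw [hconj, hwm], hs1, hm4⟩)⟩
    · have hsm : b * b = a ^ m := eq_pow_half_of_sq_eq_one hm hbb hss hs1
      refine ⟨a, a * b, m, hm, hG4, hc2, ha, ?_, Or.inr (Or.inr ⟨?_, ?_, hm4⟩)⟩
      · intro h
        apply hb
        have := Subgroup.mul_mem _ (Subgroup.inv_mem _ (Subgroup.mem_zpowers a)) h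
        simpa using this
      · calc a * b * a * (a * b)⁻¹ = a * (b * a * b⁻¹) * a⁻¹ := by group
          _ = a * (a⁻¹ * w) * a⁻¹ := by rw [hconj]
          _ = w * a⁻¹ := by group
          _ = a⁻¹ * w := hAcomm _ hwA _ (Subgroup.inv_mem _ (Subgroup.mem_zpowers a))
          _ = a⁻¹ * a ^ m := by rw [hwm]
      · calc a * b * (a * b) = a * (b * a * b⁻¹) * (b * b) := by group
          _ = a * (a⁻¹ * w) * (b * b) := by rw [hconj]
          _ = w * (b * b) := by group
          _ = w * w := by rw [hsm, ← hwm]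
          _ = 1 := hww

/-- **Taussky's theorem.** A non-abelian finite 2-group whose commutator subgroup has index four is
dihedral, semidihedral or generalized quaternion. -/
theorem taussky [Finite G] (hG : IsPGroup 2 G) (hidx : (commutator G).index = 4)
    (hna : commutator G ≠ ⊥) :
    (∃ k : ℕ, Nonempty (G ≃* DihedralGroup (2 ^ (k + 2)))) ∨
    (∃ k : ℕ, Nat.card G = 2 ^ (k + 4) ∧ ∃ a b : G, orderOf a = 2 ^ (k + 3) ∧ orderOf b = 2 ∧
      b * a * b⁻¹ = a ^ (2 ^ (k + 2) - 1)) ∨
    (∃ k : ℕ, Nonempty (G ≃* QuaternionGroup (2 ^ (k + 1)))) := by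
  have : Fact (Nat.Prime 2) := ⟨Nat.prime_two⟩
  obtain ⟨a, b, m, hm, hG4, hm2, ha, hb, hcases⟩ := exists_generators hG hidx hna
  have hgen := closure_pair_eq_top ha hb
  -- m is a power of two
  obtain ⟨t, ht⟩ := (IsPGroup.iff_card).1 hG
  have ht3 : 3 ≤ t := by
    by_contra hlt
    push Not at hlt
    have : 2 ^ t ≤ 2 ^ 2 := Nat.pow_le_pow_right (by norm_num) (by omega)
    omega
  obtain ⟨j, rfl⟩ : ∃ j, t = j + 3 := ⟨t - 3, by omega⟩
  have hmj : m = 2 ^ (j + 1) := by
    have : 4 * m = 4 * 2 ^ (j + 1) := by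
      rw [← hG4, ht]; ring
    omega
  have hb1 : b ≠ 1 := fun h => hb (h ▸ Subgroup.one_mem _)
  rcases hcases with ⟨hconj, hbb⟩ | ⟨hconj, hbb⟩ | ⟨hconj, hbb, hm4⟩
  · left
    refine ⟨j, ?_⟩
    have hbinv : b⁻¹ = b := inv_eq_of_mul_eq_one_right hbb
    have hsx : b * a * b = a⁻¹ := by rw [← hconj, hbinv]
    obtain ⟨e⟩ : Nonempty (DihedralGroup (orderOf a) ≃* G) :=
      ⟨Cfsg.Agent.Lib.Helper61.dihedralEquiv b a hbb hsx hb hgen⟩
    have ho : orderOf a = 2 ^ (j + 2) := by rw [hm, hmj]; ring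
    rw [ho] at e
    exact ⟨e.symm⟩
  · right; right
    refine ⟨j, ?_⟩
    have hne : NeZero m := ⟨by omega⟩
    have hx : a ^ (2 * m) = 1 := by rw [← hm]; exact pow_orderOf_eq_one a
    obtain ⟨e⟩ : Nonempty (QuaternionGroup m ≃* G) :=
      ⟨quaternionEquiv b a m hx hbb hconj hgen hG4⟩
    rw [hmj] at e
    exact ⟨e.symm⟩
  · right; left
    obtain ⟨i, rfl⟩ : ∃ i, j = i + 1 := by
      refine ⟨j - 1, ?_⟩
      have : j ≠ 0 := by
        rintro rfl
        rw [hmj] at hm4
        norm_num at hm4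
      omega
    refine ⟨i, ?_, a, b, ?_, ?_, ?_⟩
    · rw [ht]
    · rw [hm, hmj]; ring
    · exact orderOf_eq_prime (by rw [pow_two]; exact hbb) hb1
    · rw [hconj, hmj]
      have e : (2:ℕ) ^ (i + 1 + 1) = 2 ^ (i + 2) := rfl
      obtain ⟨q, hq⟩ : ∃ q, 2 ^ (i + 2) = q + 1 :=
        ⟨2 ^ (i + 2) - 1, by have : 1 ≤ 2 ^ (i + 2) := Nat.one_le_two_pow; omega⟩
      rw [e, hq, Nat.add_sub_cancel, pow_succ', inv_mul_cancel_left]

end classify

end Cfsg.Agent.Lib.Helper73
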