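import Mathlib
import Cfsg.Prelude.Def_Local
import Cfsg.Prelude.Def_Transfer
import Cfsg.Agent.Lib.Helper76.PSolvable
import Cfsg.Agent.Lib.Helper54.PSolvExt

set_option autoImplicit false
set_option linter.style.haveILetI false

/-! Trs hive (S5156), leaf TRS-G5. -/

namespace Cfsg.Agent.Lib.Helper88.Trs

open Cfsg

variable {p : ℕ} [Fact p.Prime]

/-- the subgroup generated by the elements of `p`-power order is normal -/
theorem g5_normal {A : Type*} [Group A] :
    (Subgroup.closure {a : A | ∃ k : ℕ, orderOf a = p ^ k}).Normal := by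
  constructor
  intro n hn g
  induction hn using Subgroup.closure_induction with
  | mem x hx =>
    apply Subgroup.subset_closure
    obtain ⟨k, hk⟩ := hx
    refine ⟨k, ?_⟩
    have h1 : orderOf (g * x * g⁻¹) = orderOf x :=
      orderOf_injective (MulAut.conj g).toMonoidHom (MulAut.conj g).injective x
    rw [h1]
    exact hk
  | one => simp
  | mul a b _ _ iha ihb =>
    have : g * (a * b) * g⁻¹ = (g * a * g⁻¹) * (g * b * g⁻¹) := by group
    rw [this]; exact mul_mem iha ihb
  | inv a _ iha =>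
    have : g * a⁻¹ * g⁻¹ = (g * a * g⁻¹)⁻¹ := by group
    rw [this]; exact inv_mem iha

/-- a suitable `p'`-power of any element of a finite group has `p`-power order -/
theorem g5_exists_pow_ppow {A : Type*} [Group A] [Finite A] (a : A) :
    ∃ m : ℕ, ¬ p ∣ m ∧ ∃ k : ℕ, orderOf (a ^ m) = p ^ k := by
  have hp : p.Prime := Fact.out
  have hpos : 0 < orderOf a := orderOf_pos a
  obtain ⟨k, m, hm, hkm⟩ := Nat.exists_eq_pow_mul_and_not_dvd hpos.ne' p hp.ne_one
  have hm0 : m ≠ 0 := by
    rintro rfl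
    exact hm (dvd_zero p)
  refine ⟨m, hm, k, ?_⟩
  rw [orderOf_pow' a hm0, hkm, Nat.gcd_eq_right (Dvd.intro_left _ rfl)]
  exact Nat.mul_div_cancel _ (Nat.pos_of_ne_zero hm0)

/-- the quotient by a normal subgroup containing all `p`-power order elements has order prime to `p` -/
theorem g5_coprime_quotient {A : Type*} [Group A] [Finite A] (K : Subgroup A) [K.Normal]
    (hK : Subgroup.closure {a : A | ∃ k : ℕ, orderOf a = p ^ k} ≤ K) :
    (Nat.card (A ⧸ K)).Coprime p := by
  have hp : p.Prime := Fact.out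
  rw [Nat.coprime_comm, Nat.Prime.coprime_iff_not_dvd hp]
  intro hdvd
  obtain ⟨x, hx⟩ := exists_prime_orderOf_dvd_card' p hdvd
  obtain ⟨a, rfl⟩ := QuotientGroup.mk_surjective x
  obtain ⟨m, hm, k, hk⟩ := g5_exists_pow_ppow (p := p) a
  have h1 : ((a ^ m : A) : A ⧸ K) = 1 := by
    rw [QuotientGroup.eq_one_iff]
    exact hK (Subgroup.subset_closure ⟨k, hk⟩)
  rw [QuotientGroup.mk_pow] at h1
  have h2 : orderOf ((a : A) : A ⧸ K) ∣ m := orderOf_dvd_of_pow_eq_one h1
  rw [hx] at h2
  exact hm h2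

/-- **TRS-G5**: if the subgroup generated by the `p`-power order elements lies in a `p`-solvable subgroup then
`A` is `p`-solvable. -/
theorem isPSolvable_of_pElements_le {A : Type*} [Group A] [Finite A] (N : Subgroup A)
    (hN : IsPSolvable p ↥N) (h : Subgroup.closure {a : A | ∃ k : ℕ, orderOf a = p ^ k} ≤ N) :
    IsPSolvable p A := by
  haveI : (Subgroup.closure {a : A | ∃ k : ℕ, orderOf a = p ^ k}).Normal := g5_normal
  have h1 : IsPSolvable p (A ⧸ Subgroup.closure {a : A | ∃ k : ℕ, orderOf a = p ^ k}) :=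
    Cfsg.Agent.Lib.Helper54.isPSolvable_of_coprime p (g5_coprime_quotient _ le_rfl)
  have h2 : IsPSolvable p
      ↥((Subgroup.closure {a : A | ∃ k : ℕ, orderOf a = p ^ k}).subgroupOf N) :=
    Cfsg.Agent.Lib.Helper76.isPSolvable_subgroup _ hN
  have h3 : IsPSolvable p ↥(Subgroup.closure {a : A | ∃ k : ℕ, orderOf a = p ^ k}) :=
    Cfsg.Agent.Lib.Helper76.isPSolvable_of_mulEquiv (Subgroup.subgroupOfEquivOfLe h) h2
  exact Cfsg.Agent.Lib.Helper54.isPSolvable_ext p _ h3 h1

end Cfsg.Agent.Lib.Helper88.Trs
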