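import Mathlib
import Cfsg.Prelude.Def_Local
import Cfsg.Prelude.Def_Transfer
import Cfsg.Agent.Lib.Helper76.PSolvable
import Cfsg.Agent.Lib.Helper54.PSolvExt
import Cfsg.Agent.Lib.Helper47.Sylow

set_option autoImplicit false

/-! Trs hive (S5156), leaf TRS-G4. -/

namespace Cfsg.Agent.Lib.Helper88.Trs

open Cfsg

variable {p : ℕ} [Fact p.Prime]

/-- a suitable `p`-power of any element of a finite group has order prime to `p` -/
theorem g4_exists_pow_coprime {A : Type*} [Group A] [Finite A] (a : A) :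
    ∃ k : ℕ, (orderOf (a ^ p ^ k)).Coprime p := by
  have hp : p.Prime := Fact.out
  have hpos : 0 < orderOf a := orderOf_pos a
  obtain ⟨k, m, hm, hkm⟩ := Nat.exists_eq_pow_mul_and_not_dvd hpos.ne' p hp.ne_one
  refine ⟨k, ?_⟩
  have h1 : orderOf (a ^ p ^ k) = m := by
    rw [orderOf_pow' a (pow_ne_zero k hp.ne_zero), hkm, Nat.gcd_eq_right (Dvd.intro _ rfl)]
    exact Nat.mul_div_cancel_left m (pow_pos hp.pos k)
  rw [h1]
  exact ((Nat.Prime.coprime_iff_not_dvd hp).2 hm).symm

/-- `A ⧸ O^p(A)` is a `p`-group -/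
theorem g4_isPGroup_quotient {A : Type*} [Group A] [Finite A] (R : Subgroup A) [R.Normal]
    (hR : pResidual p A ≤ R) : IsPGroup p (A ⧸ R) := by
  intro x
  obtain ⟨a, rfl⟩ := QuotientGroup.mk_surjective x
  obtain ⟨k, hk⟩ := g4_exists_pow_coprime (p := p) a
  refine ⟨k, ?_⟩
  rw [← QuotientGroup.mk_pow, QuotientGroup.eq_one_iff]
  exact hR (Subgroup.subset_closure hk)

/-- **TRS-G4**: if `O^p(A)` lies in a `p`-solvable subgroup then `A` is `p`-solvable. -/
theorem isPSolvable_of_pResidual_le {A : Type*} [Group A] [Finite A] (N : Subgroup A)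
    (hN : IsPSolvable p ↥N) (h : pResidual p A ≤ N) : IsPSolvable p A := by
  haveI : (pResidual p A).Normal := Cfsg.Agent.Lib.Helper47.pResidual_normal p A
  have h1 : IsPSolvable p (A ⧸ pResidual p A) :=
    Cfsg.Agent.Lib.Helper54.isPSolvable_of_isPGroup p (g4_isPGroup_quotient _ le_rfl)
  have h2 : IsPSolvable p ↥((pResidual p A).subgroupOf N) :=
    Cfsg.Agent.Lib.Helper76.isPSolvable_subgroup _ hN
  have h3 : IsPSolvable p ↥(pResidual p A) :=
    Cfsg.Agent.Lib.Helper76.isPSolvable_of_mulEquiv (Subgroup.subgroupOfEquivOfLe h) h2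
  exact Cfsg.Agent.Lib.Helper54.isPSolvable_ext p (pResidual p A) h3 h1

end Cfsg.Agent.Lib.Helper88.Trs
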