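import Mathlib
import Cfsg.Agent.Lib.Helper15.HqArDefs

/-! # Hq hive (helper15), S5974: pure arithmetic leaf HQ-ARSUF `ar_suf` (helper73) -/

set_option autoImplicit false

namespace Cfsg.Agent.Lib.Helper15.Hq

/-- HQ-ARSUF: if the `r`-odd condition of S5974 holds, then EVERY admissible shape `2 d = e + s c`
has a good `j`. -/
theorem ar_suf (d m i c s e : ℕ) (hi : 0 < i) (hc : c = if Even i then i else 2 * i)
    (hme : Even m) (hm : 2 ≤ m) (hmd : m < d) (hn : 2 * d = e + s * c)
    (hval : e = 0 → (Odd i ∨ Even s)) (hR : RhsOdd d m i c) :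
    ∃ j : ℕ, j * c ≤ m ∧ j * c + e ≤ 2 * d ∧
      ((0 < m - j * c ∧ m - j * c < e) ∨ (m = j * c ∧ (Odd i ∨ Even j)) ∨
       (m - j * c = e ∧ ((Odd i ∨ Even s) ↔ (Odd i ∨ Even j)))) := by
  have hc0 : 0 < c := by
    rw [hc]; split_ifs <;> omega
  by_cases hsM : s < m / c
  · -- `j = s`
    have h1 : (s + 1) * c ≤ m / c * c := Nat.mul_le_mul_right c hsM
    have h2 : m / c * c ≤ m := Nat.div_mul_le_self m c
    have h3 : (s + 1) * c = s * c + c := by ring
    refine ⟨s, by omega, by omega, Or.inl ⟨by omega, by omega⟩⟩
  · have hMs : m / c ≤ s := Nat.le_of_not_lt hsM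
    obtain ⟨M, hMdef⟩ : ∃ M, m / c = M := ⟨_, rfl⟩
    obtain ⟨μ, hμdef⟩ : ∃ μ, m % c = μ := ⟨_, rfl⟩
    obtain ⟨k, hkdef⟩ : ∃ k, 2 * d % c = k := ⟨_, rfl⟩
    obtain ⟨N, hNdef⟩ : ∃ N, 2 * d / c = N := ⟨_, rfl⟩
    obtain ⟨t, htdef⟩ : ∃ t, e / c = t := ⟨_, rfl⟩
    have hm1 : M * c + μ = m := by rw [← hMdef, ← hμdef]; exact Nat.div_add_mod' m c
    have hμc : μ < c := by rw [← hμdef]; exact Nat.mod_lt _ hc0
    have hd1 : N * c + k = 2 * d := by
      rw [← hNdef, ← hkdef]; exact Nat.div_add_mod' (2 * d) c
    have hkc : k < c := by rw [← hkdef]; exact Nat.mod_lt _ hc0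
    have hke : e % c = k := by rw [← hkdef, hn, Nat.add_mul_mod_self_right]
    have he1 : t * c + k = e := by rw [← htdef, ← hke]; exact Nat.div_add_mod' e c
    have hNts : N = t + s := by
      rw [← hNdef, ← htdef, hn, Nat.add_mul_div_right _ _ hc0]
    have hNc : N * c = t * c + s * c := by rw [hNts, add_mul]
    have hMs' : M ≤ s := hMdef ▸ hMs
    have hMsc : M * c ≤ s * c := Nat.mul_le_mul_right c hMs'
    have ht0 : t = 0 → t * c = 0 := by intro h; rw [h, zero_mul]
    have ht1 : t = 1 → t * c = c := by intro h; rw [h, one_mul]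
    have ht2 : 2 ≤ t → 2 * c ≤ t * c := fun h => Nat.mul_le_mul_right c h
    have htpos : 1 ≤ t → c ≤ t * c := fun h => by
      have := Nat.mul_le_mul_right c h
      simpa using this
    rcases Nat.even_or_odd i with hie | hio
    · -- `i` even, `c = i`
      rw [if_pos hie] at hc
      subst hc
      have hnodd : ¬ Odd c := Nat.not_odd_iff_even.2 hie
      unfold RhsOdd at hR
      rw [hMdef, hμdef, hkdef, hNdef] at hR
      rcases hR with ⟨hodd, -⟩ | ⟨-, hX | ⟨hcm, hY⟩⟩
      · exact absurd hodd hnodd
      · -- `k = 0`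
        obtain ⟨hk0, hX2⟩ := hX
        -- if `e = 0` then `N` is even
        have hval' : e = 0 → N % 2 = 0 := by
          intro he0
          rcases hval he0 with h | h
          · exact absurd h hnodd
          · have hs2 : s % 2 = 0 := Nat.even_iff.1 h
            have ht : t = 0 := by
              rcases Nat.eq_zero_or_pos t with h0 | hpos
              · exact h0
              · have := htpos hpos
                omega
            omega
        have hX2' : N % 2 = 1 ∨ (μ = 0 ∧ M % 2 = 0) := by
          rcases hX2 with h | ⟨h1, h2⟩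
          · exact Or.inl (Nat.odd_iff.1 h)
          · exact Or.inr ⟨h1, Nat.even_iff.1 h2⟩
        by_cases hμ0 : μ = 0
        · by_cases hMe : M % 2 = 0
          · -- `j = M`, `m = M c`
            exact ⟨M, by omega, by omega,
              Or.inr (Or.inl ⟨by omega, Or.inr (Nat.even_iff.2 hMe)⟩)⟩
          · -- `M` odd, `N` odd, `j = M - 1`
            have hNo : N % 2 = 1 := by
              rcases hX2' with h | ⟨-, h⟩
              · exact h
              · exact absurd h hMe
            have hMpos : 1 ≤ M := by omega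
            have hM1 : (M - 1) * c + c = M * c := by
              rw [← Nat.succ_mul, Nat.succ_eq_add_one, Nat.sub_add_cancel hMpos]
            have hepos : e ≠ 0 := by
              intro he0
              have := hval' he0
              omega
            rcases (by omega : t = 0 ∨ t = 1 ∨ 2 ≤ t) with h | h | h
            · have := ht0 h
              omega
            · have h1c := ht1 h
              refine ⟨M - 1, by omega, by omega, Or.inr (Or.inr ⟨by omega, ?_⟩)⟩
              have hs2 : s % 2 = 0 := by omega
              have hj2 : (M - 1) % 2 = 0 := by omega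
              exact ⟨fun _ => Or.inr (Nat.even_iff.2 hj2), fun _ => Or.inr (Nat.even_iff.2 hs2)⟩
            · have h2c := ht2 h
              exact ⟨M - 1, by omega, by omega, Or.inl ⟨by omega, by omega⟩⟩
        · -- `μ > 0`, `j = M`
          have hepos : e ≠ 0 := by
            intro he0
            have h1 := hval' he0
            rcases hX2' with h | ⟨h, -⟩
            · omega
            · exact hμ0 h
          have htp : 1 ≤ t := by
            rcases Nat.eq_zero_or_pos t with h0 | hpos
            · have := ht0 h0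
              omega
            · exact hpos
          have := htpos htp
          exact ⟨M, by omega, by omega, Or.inl ⟨by omega, by omega⟩⟩
      · -- `c ≤ m`
        rcases hY with ⟨h1, h2⟩ | ⟨h1, h2, h3⟩ | ⟨h1, h2, h3⟩
        · -- `0 < μ < k`, `j = M`
          exact ⟨M, by omega, by omega, Or.inl ⟨by omega, by omega⟩⟩
        · -- `k = μ > 0`
          have hsum : 2 * d + m - 2 * k = (N + M) * c := by
            rw [add_mul]; omega
          rw [hsum, Nat.mul_div_cancel _ hc0] at h3
          have h3' : (N + M) % 2 = 0 := Nat.even_iff.1 h3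
          rcases Nat.eq_zero_or_pos t with h0 | hpos
          · have := ht0 h0
            refine ⟨M, by omega, by omega, Or.inr (Or.inr ⟨by omega, ?_⟩)⟩
            have hsN : s = N := by omega
            have hiff : Even s ↔ Even M := by
              rw [Nat.even_iff, Nat.even_iff]; omega
            exact or_congr Iff.rfl hiff
          · have := htpos hpos
            exact ⟨M, by omega, by omega, Or.inl ⟨by omega, by omega⟩⟩
        · -- `k > 0`, `μ = 0`, `M` even
          exact ⟨M, by omega, by omega, Or.inr (Or.inl ⟨by omega, Or.inr h3⟩)⟩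
    · -- `i` odd, `c = 2 i`
      have hnev : ¬ Even i := Nat.not_even_iff_odd.2 hio
      unfold RhsOdd at hR
      rw [hμdef, hkdef] at hR
      rcases hR with ⟨-, hcm, hle⟩ | ⟨hev, -⟩
      · by_cases hμ0 : μ = 0
        · exact ⟨M, by omega, by omega, Or.inr (Or.inl ⟨by omega, Or.inl hio⟩)⟩
        · by_cases hμe : μ < e
          · exact ⟨M, by omega, by omega, Or.inl ⟨by omega, by omega⟩⟩
          · exact ⟨M, by omega, by omega, Or.inr (Or.inr ⟨by omega,
              ⟨fun _ => Or.inl hio, fun _ => Or.inl hio⟩⟩)⟩
      · exact absurd hev hnev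

end Cfsg.Agent.Lib.Helper15.Hq
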