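import Cfsg.Agent.Lib.Helper37.D4O8Defs

/-! Do hive (helper37, S1082): leaf Do-REL2-22 `rel2_22` (helper73; generated from the `chevD4.commTerms` table). -/

set_option autoImplicit false
set_option linter.unusedSectionVars false
set_option linter.unusedVariables false
set_option maxHeartbeats 1600000

namespace Cfsg.Agent.Lib.Helper37.D4O8

open Matrix Module QuadraticMap
open Cfsg.Agent.Lib.Helper8 Cfsg.Agent.Lib.Helper13 Cfsg.Agent.Lib.Helper37

variable {F : Type*} [Field F]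

theorem rel2_22_0 (t u : F) :
    (Xn 0 u)⁻¹ * (Xn 22 t)⁻¹ * Xn 0 u * Xn 22 t = wprod (Cfsg.Lie.chevD4.commWord F 22 0 t u) := by
  have h : Cfsg.Lie.chevD4.commTerms 22 0 = [(9, 1, 1, 1)] := by decide
  unfold wprod Cfsg.Lie.ChevalleyDatum.commWord
  rw [h]
  simp only [List.map_cons, List.map_nil, List.prod_cons, List.prod_nil, mul_one]
  rw [Xn_of_lt (by norm_num : 0 < 24), Xn_of_lt (by norm_num : 22 < 24), Xn_of_lt (by norm_num : 9 < 24),
    X_inv, X_inv]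
  apply reflElt_ext
  intro x
  simp only [act_mul]
  have e0 : ∀ (t : F) y, act (Q8 F) (X ⟨0, by norm_num⟩ t) y = act (Q8 F) (X 0 t) y := fun _ _ => rfl
  have e9 : ∀ (t : F) y, act (Q8 F) (X ⟨9, by norm_num⟩ t) y = act (Q8 F) (X 9 t) y := fun _ _ => rfl
  have e22 : ∀ (t : F) y, act (Q8 F) (X ⟨22, by norm_num⟩ t) y = act (Q8 F) (X 22 t) y := fun _ _ => rfl
  simp only [e0, e9, e22, act_X0, act_X9, act_X22]
  apply ext8 <;> simp <;> ring

theorem rel2_22_2 (t u : F) :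
    (Xn 2 u)⁻¹ * (Xn 22 t)⁻¹ * Xn 2 u * Xn 22 t = wprod (Cfsg.Lie.chevD4.commWord F 22 2 t u) := by
  have h : Cfsg.Lie.chevD4.commTerms 22 2 = [(12, 1, 1, 1)] := by decide
  unfold wprod Cfsg.Lie.ChevalleyDatum.commWord
  rw [h]
  simp only [List.map_cons, List.map_nil, List.prod_cons, List.prod_nil, mul_one]
  rw [Xn_of_lt (by norm_num : 2 < 24), Xn_of_lt (by norm_num : 22 < 24), Xn_of_lt (by norm_num : 12 < 24),
    X_inv, X_inv]
  apply reflElt_ext
  intro x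
  simp only [act_mul]
  have e2 : ∀ (t : F) y, act (Q8 F) (X ⟨2, by norm_num⟩ t) y = act (Q8 F) (X 2 t) y := fun _ _ => rfl
  have e12 : ∀ (t : F) y, act (Q8 F) (X ⟨12, by norm_num⟩ t) y = act (Q8 F) (X 12 t) y := fun _ _ => rfl
  have e22 : ∀ (t : F) y, act (Q8 F) (X ⟨22, by norm_num⟩ t) y = act (Q8 F) (X 22 t) y := fun _ _ => rfl
  simp only [e2, e12, e22, act_X2, act_X12, act_X22]
  apply ext8 <;> simp <;> ring

theorem rel2_22_3 (t u : F) :
    (Xn 3 u)⁻¹ * (Xn 22 t)⁻¹ * Xn 3 u * Xn 22 t = wprod (Cfsg.Lie.chevD4.commWord F 22 3 t u) := by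
  have h : Cfsg.Lie.chevD4.commTerms 22 3 = [(13, 1, 1, 1)] := by decide
  unfold wprod Cfsg.Lie.ChevalleyDatum.commWord
  rw [h]
  simp only [List.map_cons, List.map_nil, List.prod_cons, List.prod_nil, mul_one]
  rw [Xn_of_lt (by norm_num : 3 < 24), Xn_of_lt (by norm_num : 22 < 24), Xn_of_lt (by norm_num : 13 < 24),
    X_inv, X_inv]
  apply reflElt_ext
  intro x
  simp only [act_mul]
  have e3 : ∀ (t : F) y, act (Q8 F) (X ⟨3, by norm_num⟩ t) y = act (Q8 F) (X 3 t) y := fun _ _ => rfl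
  have e13 : ∀ (t : F) y, act (Q8 F) (X ⟨13, by norm_num⟩ t) y = act (Q8 F) (X 13 t) y := fun _ _ => rfl
  have e22 : ∀ (t : F) y, act (Q8 F) (X ⟨22, by norm_num⟩ t) y = act (Q8 F) (X 22 t) y := fun _ _ => rfl
  simp only [e3, e13, e22, act_X3, act_X13, act_X22]
  apply ext8 <;> simp <;> ring

theorem rel2_22_4 (t u : F) :
    (Xn 4 u)⁻¹ * (Xn 22 t)⁻¹ * Xn 4 u * Xn 22 t = wprod (Cfsg.Lie.chevD4.commWord F 22 4 t u) := by
  have h : Cfsg.Lie.chevD4.commTerms 22 4 = [] := by decide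
  unfold wprod Cfsg.Lie.ChevalleyDatum.commWord
  rw [h]
  simp only [List.map_nil, List.prod_nil]
  rw [Xn_of_lt (by norm_num : 4 < 24), Xn_of_lt (by norm_num : 22 < 24), X_inv, X_inv]
  apply reflElt_ext
  intro x
  simp only [act_mul, act_one]
  have e4 : ∀ (t : F) y, act (Q8 F) (X ⟨4, by norm_num⟩ t) y = act (Q8 F) (X 4 t) y := fun _ _ => rfl
  have e22 : ∀ (t : F) y, act (Q8 F) (X ⟨22, by norm_num⟩ t) y = act (Q8 F) (X 22 t) y := fun _ _ => rfl
  simp only [e4, e22, act_X4, act_X22]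
  apply ext8 <;> simp <;> ring

theorem rel2_22_5 (t u : F) :
    (Xn 5 u)⁻¹ * (Xn 22 t)⁻¹ * Xn 5 u * Xn 22 t = wprod (Cfsg.Lie.chevD4.commWord F 22 5 t u) := by
  have h : Cfsg.Lie.chevD4.commTerms 22 5 = [(17, 1, 1, 1)] := by decide
  unfold wprod Cfsg.Lie.ChevalleyDatum.commWord
  rw [h]
  simp only [List.map_cons, List.map_nil, List.prod_cons, List.prod_nil, mul_one]
  rw [Xn_of_lt (by norm_num : 5 < 24), Xn_of_lt (by norm_num : 22 < 24), Xn_of_lt (by norm_num : 17 < 24),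
    X_inv, X_inv]
  apply reflElt_ext
  intro x
  simp only [act_mul]
  have e5 : ∀ (t : F) y, act (Q8 F) (X ⟨5, by norm_num⟩ t) y = act (Q8 F) (X 5 t) y := fun _ _ => rfl
  have e17 : ∀ (t : F) y, act (Q8 F) (X ⟨17, by norm_num⟩ t) y = act (Q8 F) (X 17 t) y := fun _ _ => rfl
  have e22 : ∀ (t : F) y, act (Q8 F) (X ⟨22, by norm_num⟩ t) y = act (Q8 F) (X 22 t) y := fun _ _ => rfl
  simp only [e5, e17, e22, act_X5, act_X17, act_X22]
  apply ext8 <;> simp <;> ring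

theorem rel2_22_6 (t u : F) :
    (Xn 6 u)⁻¹ * (Xn 22 t)⁻¹ * Xn 6 u * Xn 22 t = wprod (Cfsg.Lie.chevD4.commWord F 22 6 t u) := by
  have h : Cfsg.Lie.chevD4.commTerms 22 6 = [(18, -1, 1, 1)] := by decide
  unfold wprod Cfsg.Lie.ChevalleyDatum.commWord
  rw [h]
  simp only [List.map_cons, List.map_nil, List.prod_cons, List.prod_nil, mul_one]
  rw [Xn_of_lt (by norm_num : 6 < 24), Xn_of_lt (by norm_num : 22 < 24), Xn_of_lt (by norm_num : 18 < 24),
    X_inv, X_inv]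
  apply reflElt_ext
  intro x
  simp only [act_mul]
  have e6 : ∀ (t : F) y, act (Q8 F) (X ⟨6, by norm_num⟩ t) y = act (Q8 F) (X 6 t) y := fun _ _ => rfl
  have e18 : ∀ (t : F) y, act (Q8 F) (X ⟨18, by norm_num⟩ t) y = act (Q8 F) (X 18 t) y := fun _ _ => rfl
  have e22 : ∀ (t : F) y, act (Q8 F) (X ⟨22, by norm_num⟩ t) y = act (Q8 F) (X 22 t) y := fun _ _ => rfl
  simp only [e6, e18, e22, act_X6, act_X18, act_X22]
  apply ext8 <;> simp <;> ring

theorem rel2_22_7 (t u : F) :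
    (Xn 7 u)⁻¹ * (Xn 22 t)⁻¹ * Xn 7 u * Xn 22 t = wprod (Cfsg.Lie.chevD4.commWord F 22 7 t u) := by
  have h : Cfsg.Lie.chevD4.commTerms 22 7 = [] := by decide
  unfold wprod Cfsg.Lie.ChevalleyDatum.commWord
  rw [h]
  simp only [List.map_nil, List.prod_nil]
  rw [Xn_of_lt (by norm_num : 7 < 24), Xn_of_lt (by norm_num : 22 < 24), X_inv, X_inv]
  apply reflElt_ext
  intro x
  simp only [act_mul, act_one]
  have e7 : ∀ (t : F) y, act (Q8 F) (X ⟨7, by norm_num⟩ t) y = act (Q8 F) (X 7 t) y := fun _ _ => rfl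
  have e22 : ∀ (t : F) y, act (Q8 F) (X ⟨22, by norm_num⟩ t) y = act (Q8 F) (X 22 t) y := fun _ _ => rfl
  simp only [e7, e22, act_X7, act_X22]
  apply ext8 <;> simp <;> ring

theorem rel2_22_8 (t u : F) :
    (Xn 8 u)⁻¹ * (Xn 22 t)⁻¹ * Xn 8 u * Xn 22 t = wprod (Cfsg.Lie.chevD4.commWord F 22 8 t u) := by
  have h : Cfsg.Lie.chevD4.commTerms 22 8 = [] := by decide
  unfold wprod Cfsg.Lie.ChevalleyDatum.commWord
  rw [h]
  simp only [List.map_nil, List.prod_nil]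
  rw [Xn_of_lt (by norm_num : 8 < 24), Xn_of_lt (by norm_num : 22 < 24), X_inv, X_inv]
  apply reflElt_ext
  intro x
  simp only [act_mul, act_one]
  have e8 : ∀ (t : F) y, act (Q8 F) (X ⟨8, by norm_num⟩ t) y = act (Q8 F) (X 8 t) y := fun _ _ => rfl
  have e22 : ∀ (t : F) y, act (Q8 F) (X ⟨22, by norm_num⟩ t) y = act (Q8 F) (X 22 t) y := fun _ _ => rfl
  simp only [e8, e22, act_X8, act_X22]
  apply ext8 <;> simp <;> ring

theorem rel2_22_9 (t u : F) :
    (Xn 9 u)⁻¹ * (Xn 22 t)⁻¹ * Xn 9 u * Xn 22 t = wprod (Cfsg.Lie.chevD4.commWord F 22 9 t u) := by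
  have h : Cfsg.Lie.chevD4.commTerms 22 9 = [] := by decide
  unfold wprod Cfsg.Lie.ChevalleyDatum.commWord
  rw [h]
  simp only [List.map_nil, List.prod_nil]
  rw [Xn_of_lt (by norm_num : 9 < 24), Xn_of_lt (by norm_num : 22 < 24), X_inv, X_inv]
  apply reflElt_ext
  intro x
  simp only [act_mul, act_one]
  have e9 : ∀ (t : F) y, act (Q8 F) (X ⟨9, by norm_num⟩ t) y = act (Q8 F) (X 9 t) y := fun _ _ => rfl
  have e22 : ∀ (t : F) y, act (Q8 F) (X ⟨22, by norm_num⟩ t) y = act (Q8 F) (X 22 t) y := fun _ _ => rfl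
  simp only [e9, e22, act_X9, act_X22]
  apply ext8 <;> simp <;> ring

theorem rel2_22_10 (t u : F) :
    (Xn 10 u)⁻¹ * (Xn 22 t)⁻¹ * Xn 10 u * Xn 22 t = wprod (Cfsg.Lie.chevD4.commWord F 22 10 t u) := by
  have h : Cfsg.Lie.chevD4.commTerms 22 10 = [(20, -1, 1, 1)] := by decide
  unfold wprod Cfsg.Lie.ChevalleyDatum.commWord
  rw [h]
  simp only [List.map_cons, List.map_nil, List.prod_cons, List.prod_nil, mul_one]
  rw [Xn_of_lt (by norm_num : 10 < 24), Xn_of_lt (by norm_num : 22 < 24), Xn_of_lt (by norm_num : 20 < 24),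
    X_inv, X_inv]
  apply reflElt_ext
  intro x
  simp only [act_mul]
  have e10 : ∀ (t : F) y, act (Q8 F) (X ⟨10, by norm_num⟩ t) y = act (Q8 F) (X 10 t) y := fun _ _ => rfl
  have e20 : ∀ (t : F) y, act (Q8 F) (X ⟨20, by norm_num⟩ t) y = act (Q8 F) (X 20 t) y := fun _ _ => rfl
  have e22 : ∀ (t : F) y, act (Q8 F) (X ⟨22, by norm_num⟩ t) y = act (Q8 F) (X 22 t) y := fun _ _ => rfl
  simp only [e10, e20, e22, act_X10, act_X20, act_X22]
  apply ext8 <;> simp <;> ring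

theorem rel2_22_11 (t u : F) :
    (Xn 11 u)⁻¹ * (Xn 22 t)⁻¹ * Xn 11 u * Xn 22 t = wprod (Cfsg.Lie.chevD4.commWord F 22 11 t u) := by
  have h : Cfsg.Lie.chevD4.commTerms 22 11 = [(21, -1, 1, 1)] := by decide
  unfold wprod Cfsg.Lie.ChevalleyDatum.commWord
  rw [h]
  simp only [List.map_cons, List.map_nil, List.prod_cons, List.prod_nil, mul_one]
  rw [Xn_of_lt (by norm_num : 11 < 24), Xn_of_lt (by norm_num : 22 < 24), Xn_of_lt (by norm_num : 21 < 24),
    X_inv, X_inv]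
  apply reflElt_ext
  intro x
  simp only [act_mul]
  have e11 : ∀ (t : F) y, act (Q8 F) (X ⟨11, by norm_num⟩ t) y = act (Q8 F) (X 11 t) y := fun _ _ => rfl
  have e21 : ∀ (t : F) y, act (Q8 F) (X ⟨21, by norm_num⟩ t) y = act (Q8 F) (X 21 t) y := fun _ _ => rfl
  have e22 : ∀ (t : F) y, act (Q8 F) (X ⟨22, by norm_num⟩ t) y = act (Q8 F) (X 22 t) y := fun _ _ => rfl
  simp only [e11, e21, e22, act_X11, act_X21, act_X22]
  apply ext8 <;> simp <;> ring

theorem rel2_22_12 (t u : F) :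
    (Xn 12 u)⁻¹ * (Xn 22 t)⁻¹ * Xn 12 u * Xn 22 t = wprod (Cfsg.Lie.chevD4.commWord F 22 12 t u) := by
  have h : Cfsg.Lie.chevD4.commTerms 22 12 = [] := by decide
  unfold wprod Cfsg.Lie.ChevalleyDatum.commWord
  rw [h]
  simp only [List.map_nil, List.prod_nil]
  rw [Xn_of_lt (by norm_num : 12 < 24), Xn_of_lt (by norm_num : 22 < 24), X_inv, X_inv]
  apply reflElt_ext
  intro x
  simp only [act_mul, act_one]
  have e12 : ∀ (t : F) y, act (Q8 F) (X ⟨12, by norm_num⟩ t) y = act (Q8 F) (X 12 t) y := fun _ _ => rfl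
  have e22 : ∀ (t : F) y, act (Q8 F) (X ⟨22, by norm_num⟩ t) y = act (Q8 F) (X 22 t) y := fun _ _ => rfl
  simp only [e12, e22, act_X12, act_X22]
  apply ext8 <;> simp <;> ring

theorem rel2_22_13 (t u : F) :
    (Xn 13 u)⁻¹ * (Xn 22 t)⁻¹ * Xn 13 u * Xn 22 t = wprod (Cfsg.Lie.chevD4.commWord F 22 13 t u) := by
  have h : Cfsg.Lie.chevD4.commTerms 22 13 = [] := by decide
  unfold wprod Cfsg.Lie.ChevalleyDatum.commWord
  rw [h]
  simp only [List.map_nil, List.prod_nil]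
  rw [Xn_of_lt (by norm_num : 13 < 24), Xn_of_lt (by norm_num : 22 < 24), X_inv, X_inv]
  apply reflElt_ext
  intro x
  simp only [act_mul, act_one]
  have e13 : ∀ (t : F) y, act (Q8 F) (X ⟨13, by norm_num⟩ t) y = act (Q8 F) (X 13 t) y := fun _ _ => rfl
  have e22 : ∀ (t : F) y, act (Q8 F) (X ⟨22, by norm_num⟩ t) y = act (Q8 F) (X 22 t) y := fun _ _ => rfl
  simp only [e13, e22, act_X13, act_X22]
  apply ext8 <;> simp <;> ring

theorem rel2_22_14 (t u : F) :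
    (Xn 14 u)⁻¹ * (Xn 22 t)⁻¹ * Xn 14 u * Xn 22 t = wprod (Cfsg.Lie.chevD4.commWord F 22 14 t u) := by
  have h : Cfsg.Lie.chevD4.commTerms 22 14 = [(23, -1, 1, 1)] := by decide
  unfold wprod Cfsg.Lie.ChevalleyDatum.commWord
  rw [h]
  simp only [List.map_cons, List.map_nil, List.prod_cons, List.prod_nil, mul_one]
  rw [Xn_of_lt (by norm_num : 14 < 24), Xn_of_lt (by norm_num : 22 < 24), Xn_of_lt (by norm_num : 23 < 24),
    X_inv, X_inv]
  apply reflElt_ext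
  intro x
  simp only [act_mul]
  have e14 : ∀ (t : F) y, act (Q8 F) (X ⟨14, by norm_num⟩ t) y = act (Q8 F) (X 14 t) y := fun _ _ => rfl
  have e22 : ∀ (t : F) y, act (Q8 F) (X ⟨22, by norm_num⟩ t) y = act (Q8 F) (X 22 t) y := fun _ _ => rfl
  have e23 : ∀ (t : F) y, act (Q8 F) (X ⟨23, by norm_num⟩ t) y = act (Q8 F) (X 23 t) y := fun _ _ => rfl
  simp only [e14, e22, e23, act_X14, act_X22, act_X23]
  apply ext8 <;> simp <;> ring

theorem rel2_22_15 (t u : F) :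
    (Xn 15 u)⁻¹ * (Xn 22 t)⁻¹ * Xn 15 u * Xn 22 t = wprod (Cfsg.Lie.chevD4.commWord F 22 15 t u) := by
  have h : Cfsg.Lie.chevD4.commTerms 22 15 = [] := by decide
  unfold wprod Cfsg.Lie.ChevalleyDatum.commWord
  rw [h]
  simp only [List.map_nil, List.prod_nil]
  rw [Xn_of_lt (by norm_num : 15 < 24), Xn_of_lt (by norm_num : 22 < 24), X_inv, X_inv]
  apply reflElt_ext
  intro x
  simp only [act_mul, act_one]
  have e15 : ∀ (t : F) y, act (Q8 F) (X ⟨15, by norm_num⟩ t) y = act (Q8 F) (X 15 t) y := fun _ _ => rfl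
  have e22 : ∀ (t : F) y, act (Q8 F) (X ⟨22, by norm_num⟩ t) y = act (Q8 F) (X 22 t) y := fun _ _ => rfl
  simp only [e15, e22, act_X15, act_X22]
  apply ext8 <;> simp <;> ring

theorem rel2_22_16 (t u : F) :
    (Xn 16 u)⁻¹ * (Xn 22 t)⁻¹ * Xn 16 u * Xn 22 t = wprod (Cfsg.Lie.chevD4.commWord F 22 16 t u) := by
  have h : Cfsg.Lie.chevD4.commTerms 22 16 = [] := by decide
  unfold wprod Cfsg.Lie.ChevalleyDatum.commWord
  rw [h]
  simp only [List.map_nil, List.prod_nil]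
  rw [Xn_of_lt (by norm_num : 16 < 24), Xn_of_lt (by norm_num : 22 < 24), X_inv, X_inv]
  apply reflElt_ext
  intro x
  simp only [act_mul, act_one]
  have e16 : ∀ (t : F) y, act (Q8 F) (X ⟨16, by norm_num⟩ t) y = act (Q8 F) (X 16 t) y := fun _ _ => rfl
  have e22 : ∀ (t : F) y, act (Q8 F) (X ⟨22, by norm_num⟩ t) y = act (Q8 F) (X 22 t) y := fun _ _ => rfl
  simp only [e16, e22, act_X16, act_X22]
  apply ext8 <;> simp <;> ring

theorem rel2_22_17 (t u : F) :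
    (Xn 17 u)⁻¹ * (Xn 22 t)⁻¹ * Xn 17 u * Xn 22 t = wprod (Cfsg.Lie.chevD4.commWord F 22 17 t u) := by
  have h : Cfsg.Lie.chevD4.commTerms 22 17 = [] := by decide
  unfold wprod Cfsg.Lie.ChevalleyDatum.commWord
  rw [h]
  simp only [List.map_nil, List.prod_nil]
  rw [Xn_of_lt (by norm_num : 17 < 24), Xn_of_lt (by norm_num : 22 < 24), X_inv, X_inv]
  apply reflElt_ext
  intro x
  simp only [act_mul, act_one]
  have e17 : ∀ (t : F) y, act (Q8 F) (X ⟨17, by norm_num⟩ t) y = act (Q8 F) (X 17 t) y := fun _ _ => rfl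
  have e22 : ∀ (t : F) y, act (Q8 F) (X ⟨22, by norm_num⟩ t) y = act (Q8 F) (X 22 t) y := fun _ _ => rfl
  simp only [e17, e22, act_X17, act_X22]
  apply ext8 <;> simp <;> ring

theorem rel2_22_18 (t u : F) :
    (Xn 18 u)⁻¹ * (Xn 22 t)⁻¹ * Xn 18 u * Xn 22 t = wprod (Cfsg.Lie.chevD4.commWord F 22 18 t u) := by
  have h : Cfsg.Lie.chevD4.commTerms 22 18 = [] := by decide
  unfold wprod Cfsg.Lie.ChevalleyDatum.commWord
  rw [h]
  simp only [List.map_nil, List.prod_nil]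
  rw [Xn_of_lt (by norm_num : 18 < 24), Xn_of_lt (by norm_num : 22 < 24), X_inv, X_inv]
  apply reflElt_ext
  intro x
  simp only [act_mul, act_one]
  have e18 : ∀ (t : F) y, act (Q8 F) (X ⟨18, by norm_num⟩ t) y = act (Q8 F) (X 18 t) y := fun _ _ => rfl
  have e22 : ∀ (t : F) y, act (Q8 F) (X ⟨22, by norm_num⟩ t) y = act (Q8 F) (X 22 t) y := fun _ _ => rfl
  simp only [e18, e22, act_X18, act_X22]
  apply ext8 <;> simp <;> ring

theorem rel2_22_19 (t u : F) :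
    (Xn 19 u)⁻¹ * (Xn 22 t)⁻¹ * Xn 19 u * Xn 22 t = wprod (Cfsg.Lie.chevD4.commWord F 22 19 t u) := by
  have h : Cfsg.Lie.chevD4.commTerms 22 19 = [] := by decide
  unfold wprod Cfsg.Lie.ChevalleyDatum.commWord
  rw [h]
  simp only [List.map_nil, List.prod_nil]
  rw [Xn_of_lt (by norm_num : 19 < 24), Xn_of_lt (by norm_num : 22 < 24), X_inv, X_inv]
  apply reflElt_ext
  intro x
  simp only [act_mul, act_one]
  have e19 : ∀ (t : F) y, act (Q8 F) (X ⟨19, by norm_num⟩ t) y = act (Q8 F) (X 19 t) y := fun _ _ => rfl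
  have e22 : ∀ (t : F) y, act (Q8 F) (X ⟨22, by norm_num⟩ t) y = act (Q8 F) (X 22 t) y := fun _ _ => rfl
  simp only [e19, e22, act_X19, act_X22]
  apply ext8 <;> simp <;> ring

theorem rel2_22_20 (t u : F) :
    (Xn 20 u)⁻¹ * (Xn 22 t)⁻¹ * Xn 20 u * Xn 22 t = wprod (Cfsg.Lie.chevD4.commWord F 22 20 t u) := by
  have h : Cfsg.Lie.chevD4.commTerms 22 20 = [] := by decide
  unfold wprod Cfsg.Lie.ChevalleyDatum.commWord
  rw [h]
  simp only [List.map_nil, List.prod_nil]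
  rw [Xn_of_lt (by norm_num : 20 < 24), Xn_of_lt (by norm_num : 22 < 24), X_inv, X_inv]
  apply reflElt_ext
  intro x
  simp only [act_mul, act_one]
  have e20 : ∀ (t : F) y, act (Q8 F) (X ⟨20, by norm_num⟩ t) y = act (Q8 F) (X 20 t) y := fun _ _ => rfl
  have e22 : ∀ (t : F) y, act (Q8 F) (X ⟨22, by norm_num⟩ t) y = act (Q8 F) (X 22 t) y := fun _ _ => rfl
  simp only [e20, e22, act_X20, act_X22]
  apply ext8 <;> simp <;> ring

theorem rel2_22_21 (t u : F) :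
    (Xn 21 u)⁻¹ * (Xn 22 t)⁻¹ * Xn 21 u * Xn 22 t = wprod (Cfsg.Lie.chevD4.commWord F 22 21 t u) := by
  have h : Cfsg.Lie.chevD4.commTerms 22 21 = [] := by decide
  unfold wprod Cfsg.Lie.ChevalleyDatum.commWord
  rw [h]
  simp only [List.map_nil, List.prod_nil]
  rw [Xn_of_lt (by norm_num : 21 < 24), Xn_of_lt (by norm_num : 22 < 24), X_inv, X_inv]
  apply reflElt_ext
  intro x
  simp only [act_mul, act_one]
  have e21 : ∀ (t : F) y, act (Q8 F) (X ⟨21, by norm_num⟩ t) y = act (Q8 F) (X 21 t) y := fun _ _ => rfl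
  have e22 : ∀ (t : F) y, act (Q8 F) (X ⟨22, by norm_num⟩ t) y = act (Q8 F) (X 22 t) y := fun _ _ => rfl
  simp only [e21, e22, act_X21, act_X22]
  apply ext8 <;> simp <;> ring

theorem rel2_22_23 (t u : F) :
    (Xn 23 u)⁻¹ * (Xn 22 t)⁻¹ * Xn 23 u * Xn 22 t = wprod (Cfsg.Lie.chevD4.commWord F 22 23 t u) := by
  have h : Cfsg.Lie.chevD4.commTerms 22 23 = [] := by decide
  unfold wprod Cfsg.Lie.ChevalleyDatum.commWord
  rw [h]
  simp only [List.map_nil, List.prod_nil]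
  rw [Xn_of_lt (by norm_num : 23 < 24), Xn_of_lt (by norm_num : 22 < 24), X_inv, X_inv]
  apply reflElt_ext
  intro x
  simp only [act_mul, act_one]
  have e22 : ∀ (t : F) y, act (Q8 F) (X ⟨22, by norm_num⟩ t) y = act (Q8 F) (X 22 t) y := fun _ _ => rfl
  have e23 : ∀ (t : F) y, act (Q8 F) (X ⟨23, by norm_num⟩ t) y = act (Q8 F) (X 23 t) y := fun _ _ => rfl
  simp only [e22, e23, act_X22, act_X23]
  apply ext8 <;> simp <;> ring

/-- **Do-REL2-22** -/
theorem rel2_22 (s : ℕ) (hs : s < 24) (h1 : s ≠ 22) (h2 : s ≠ 1) (t u : F) :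
    (Xn s u)⁻¹ * (Xn 22 t)⁻¹ * Xn s u * Xn 22 t = wprod (Cfsg.Lie.chevD4.commWord F 22 s t u) := by
  interval_cases s
  · exact rel2_22_0 t u
  · exact absurd rfl h2
  · exact rel2_22_2 t u
  · exact rel2_22_3 t u
  · exact rel2_22_4 t u
  · exact rel2_22_5 t u
  · exact rel2_22_6 t u
  · exact rel2_22_7 t u
  · exact rel2_22_8 t u
  · exact rel2_22_9 t u
  · exact rel2_22_10 t u
  · exact rel2_22_11 t u
  · exact rel2_22_12 t u
  · exact rel2_22_13 t u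
  · exact rel2_22_14 t u
  · exact rel2_22_15 t u
  · exact rel2_22_16 t u
  · exact rel2_22_17 t u
  · exact rel2_22_18 t u
  · exact rel2_22_19 t u
  · exact rel2_22_20 t u
  · exact rel2_22_21 t u
  · exact absurd rfl h1
  · exact rel2_22_23 t u

end Cfsg.Agent.Lib.Helper37.D4O8
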