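import Cfsg.Agent.Lib.Helper41.StnDefs

/-! # Stn hive (S2401, helper41), sub-hive BINJ (helper73): definitions (no proofs) -/

set_option autoImplicit false

namespace Cfsg.Agent.Lib.Helper41.Stn

open Matrix

variable {K : Type*} [Field K] {n : ℕ}

/-- the column element `∏_{i<c} x_{ic}(t i)` (factors in the order of `List.finRange n`) -/
noncomputable def colElt (c : Fin n) (t : Fin n → K) : St K n :=
  ((List.finRange n).map (fun i => if i < c then xx i c (t i) else 1)).prod

/-- the column subgroup generated by the `x_{ic}(t)`, `i < c` -/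
def Ucol (K : Type*) [Field K] (n : ℕ) (c : Fin n) : Subgroup (St K n) :=
  Subgroup.closure {g | ∃ (i : Fin n) (t : K), i < c ∧ g = xx i c t}

/-- the level subgroup generated by the `x_{ij}(t)`, `i < j`, `j < m` -/
def Ulev (K : Type*) [Field K] (n : ℕ) (m : ℕ) : Subgroup (St K n) :=
  Subgroup.closure {g | ∃ (i j : Fin n) (t : K), i < j ∧ j.val < m ∧ g = xx i j t}

/-- the star element `∏_{i ≠ l} h_{il}(t i)` (factors in the order of `List.finRange n`) -/
noncomputable def starElt (l : Fin n) (t : Fin n → K) : St K n :=
  ((List.finRange n).map (fun i => if i ≠ l then hh i l (t i) else 1)).prod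

/-- the diagonal of the image of `starElt l t` -/
def starDiag (l : Fin n) (t : Fin n → K) (a : Fin n) : K :=
  if a = l then ∏ i, (if i ≠ l then (t i)⁻¹ else 1) else t a

end Cfsg.Agent.Lib.Helper41.Stn
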