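import Mathlib
import Cfsg.Agent.Lib.Helper2.PGroup
import Cfsg.Agent.Lib.Helper32.PGroupCenter
import Cfsg.Agent.Lib.Helper73.CyclicMax

set_option autoImplicit false

namespace Cfsg.Agent.Lib.Helper73

open scoped commutatorElement

/-- A normal subgroup of order two is central. -/
theorem le_center_of_normal_card_two {G : Type*} [Group G] (N : Subgroup G) [hNn : N.Normal]
    (hN : Nat.card N = 2) : N ≤ Subgroup.center G := by
  intro n hn
  rw [Subgroup.mem_center_iff]
  intro g
  rw [Nat.card_eq_two_iff' (1 : N)] at hN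
  obtain ⟨y, hy, hyu⟩ := hN
  by_cases h1 : n = 1
  · rw [h1]; simp
  · have hc : g * n * g⁻¹ ∈ N := hNn.conj_mem n hn g
    have hc1 : g * n * g⁻¹ ≠ 1 := by
      intro h
      apply h1
      have : n = g⁻¹ * (g * n * g⁻¹) * g := by group
      rw [this, h]; group
    have e1 : (⟨n, hn⟩ : N) = y := hyu _ (fun h' => h1 (congrArg Subtype.val h'))
    have e2 : (⟨g * n * g⁻¹, hc⟩ : N) = y := hyu _ (fun h' => hc1 (congrArg Subtype.val h'))
    have e3 : g * n * g⁻¹ = n := congrArg Subtype.val (e2.trans e1.symm)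
    calc g * n = (g * n * g⁻¹) * g := by group
      _ = n * g := by rw [e3]

/-- In a finite `p`-group, a nontrivial normal subgroup `D` contains a normal subgroup `K` of `G`
with `|D : K| = p`. -/
theorem exists_normal_relIndex_prime {G : Type*} [Group G] [Finite G] {p : ℕ} [hp : Fact p.Prime]
    (hG : IsPGroup p G) (D : Subgroup G) [hD : D.Normal] (hD1 : D ≠ ⊥) :
    ∃ K : Subgroup G, K.Normal ∧ K ≤ D ∧ K.relIndex D = p := by
  classical
  obtain ⟨K, ⟨hKn, hKlt⟩, hKmax⟩ := Set.exists_max_image {K : Subgroup G | K.Normal ∧ K < D}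
    (fun K => Nat.card K) (Set.toFinite _) ⟨⊥, inferInstance, bot_lt_iff_ne_bot.2 hD1⟩
  refine ⟨K, hKn, hKlt.le, ?_⟩
  have hπs : Function.Surjective (QuotientGroup.mk' K) := QuotientGroup.mk'_surjective K
  have hQ : IsPGroup p (G ⧸ K) := hG.to_quotient K
  have hNn : (D.map (QuotientGroup.mk' K)).Normal := hD.map _ hπs
  have hN1 : D.map (QuotientGroup.mk' K) ≠ ⊥ := by
    rw [Ne, Subgroup.map_eq_bot_iff, QuotientGroup.ker_mk']
    exact fun h => hKlt.ne' (le_antisymm h hKlt.le)
  obtain ⟨z, hzN, hzc, hz1⟩ :=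
    Cfsg.Agent.Lib.Helper32.exists_ne_one_mem_normal_inf_center hQ (D.map (QuotientGroup.mk' K)) hN1
  obtain ⟨k, hk⟩ := (IsPGroup.iff_orderOf.1 hQ) z
  have hk0 : k ≠ 0 := by
    rintro rfl
    rw [pow_zero, orderOf_eq_one_iff] at hk
    exact hz1 hk
  obtain ⟨j, rfl⟩ : ∃ j, k = j + 1 := ⟨k - 1, by omega⟩
  obtain ⟨w, hw⟩ : ∃ w, w = z ^ (p ^ j) := ⟨_, rfl⟩
  have hwo : orderOf w = p := by
    rw [hw, orderOf_pow_of_dvd (pow_ne_zero _ hp.out.ne_zero) (by rw [hk]; exact pow_dvd_pow p (by omega)),
      hk, pow_succ, Nat.mul_div_cancel_left _ (pow_pos hp.out.pos j)]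
  have hwN : w ∈ D.map (QuotientGroup.mk' K) := hw ▸ Subgroup.pow_mem _ hzN _
  have hwc : w ∈ Subgroup.center (G ⧸ K) := hw ▸ Subgroup.pow_mem _ hzc _
  have hZc : Subgroup.zpowers w ≤ Subgroup.center (G ⧸ K) := by
    rw [Subgroup.zpowers_le]; exact hwc
  have hZN : Subgroup.zpowers w ≤ D.map (QuotientGroup.mk' K) := by
    rw [Subgroup.zpowers_le]; exact hwN
  have hZn : (Subgroup.zpowers w).Normal := by
    refine ⟨fun x hx g => ?_⟩
    have := Subgroup.mem_center_iff.1 (hZc hx) g
    have e : g * x * g⁻¹ = x := by rw [this, mul_assoc, mul_inv_cancel, mul_one]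
    rw [e]; exact hx
  have hZcard : Nat.card (Subgroup.zpowers w) = p := by rw [Nat.card_zpowers, hwo]
  obtain ⟨K', hK'⟩ : ∃ K', K' = (Subgroup.zpowers w).comap (QuotientGroup.mk' K) := ⟨_, rfl⟩
  have hK'n : K'.Normal := hK' ▸ hZn.comap _
  have hKK' : K ≤ K' := by
    rw [hK']
    intro x hx
    rw [Subgroup.mem_comap]
    have : QuotientGroup.mk' K x = 1 := (QuotientGroup.eq_one_iff x).2 hx
    rw [this]; exact Subgroup.one_mem _
  have hK'D : K' ≤ D := by
    rw [hK']
    calc (Subgroup.zpowers w).comap (QuotientGroup.mk' K)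
        ≤ (D.map (QuotientGroup.mk' K)).comap (QuotientGroup.mk' K) := Subgroup.comap_mono hZN
      _ = D ⊔ (QuotientGroup.mk' K).ker := Subgroup.comap_map_eq _ _
      _ = D := by rw [QuotientGroup.ker_mk']; exact sup_eq_left.2 hKlt.le
  have hmapK' : K'.map (QuotientGroup.mk' K) = Subgroup.zpowers w := by
    rw [hK']; exact Subgroup.map_comap_eq_self_of_surjective hπs _
  have hK'eq : K' = D := by
    by_contra hne
    have hlt : K' < D := lt_of_le_of_ne hK'D hne
    have hle := hKmax K' ⟨hK'n, hlt⟩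
    have hKeq : K = K' := Subgroup.eq_of_le_of_card_ge hKK' hle
    have : Subgroup.zpowers w = ⊥ := by
      rw [← hmapK', ← hKeq, Subgroup.map_eq_bot_iff, QuotientGroup.ker_mk']
    rw [this, Subgroup.card_bot] at hZcard
    exact hp.out.one_lt.ne hZcard
  have h1 := Subgroup.relIndex_comap (⊥ : Subgroup (G ⧸ K)) (QuotientGroup.mk' K) K'
  rw [MonoidHom.comap_bot, QuotientGroup.ker_mk', hmapK', Subgroup.relIndex_bot_left, hZcard,
    hK'eq] at h1
  exact h1

/-- A nonabelian finite `p`-group has commutator quotient of order divisible by `p ^ 2`. -/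
theorem sq_dvd_index_commutator {G : Type*} [Group G] [Finite G] {p : ℕ} [hp : Fact p.Prime]
    (hG : IsPGroup p G) (hD1 : commutator G ≠ ⊥) : p ^ 2 ∣ (commutator G).index := by
  obtain ⟨K, hKn, hKD, hKrel⟩ := exists_normal_relIndex_prime hG (commutator G) hD1
  have hidx := Subgroup.relIndex_mul_index hKD
  rw [hKrel] at hidx
  obtain ⟨j, hj⟩ : ∃ j, (commutator G).index = p ^ j := by
    obtain ⟨n, hn⟩ := (IsPGroup.iff_card).1 hG
    have hdvd : (commutator G).index ∣ p ^ n := hn ▸ Subgroup.index_dvd_card _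
    obtain ⟨j, -, hj⟩ := (Nat.dvd_prime_pow hp.out).1 hdvd
    exact ⟨j, hj⟩
  by_contra hnd
  have hj2 : j < 2 := by
    by_contra h
    push Not at h
    exact hnd (hj ▸ pow_dvd_pow p h)
  have hcomm : IsMulCommutative (G ⧸ K) := by
    have hcard : Nat.card (G ⧸ K) = p * p ^ j := by
      rw [← hj, hidx]; exact (Subgroup.index_eq_card K).symm
    interval_cases j
    · have : Nat.card (G ⧸ K) = p := by rw [hcard]; simp
      have hc : IsCyclic (G ⧸ K) := isCyclic_of_prime_card this
      exact IsCyclic.isMulCommutative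
    · have : Nat.card (G ⧸ K) = p ^ 2 := by rw [hcard]; ring
      exact IsPGroup.isMulCommutative_of_card_eq_prime_sq this
  have hle : commutator G ≤ K := Subgroup.Normal.quotient_commutative_iff_commutator_le.1 hcomm
  have := Subgroup.relIndex_eq_one.2 hle
  rw [hKrel] at this
  exact hp.out.one_lt.ne' this

/-- Every elementary abelian quotient of `G` has order at most `4`. -/
def QuotRankTwo (G : Type*) [Group G] : Prop :=
  ∀ N : Subgroup G, N.Normal → (∀ g : G, g ^ 2 ∈ N) → N.index ≤ 4

/-- Commutator quotient of order four and nonabelian. -/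
def MC (G : Type*) [Group G] : Prop :=
  (commutator G).index = 4 ∧ commutator G ≠ ⊥

theorem MC.congr {G G' : Type*} [Group G] [Group G'] (e : G ≃* G') (h : MC G) : MC G' := by
  have hmap : (commutator G).map (e : G →* G') = commutator G' := by
    rw [commutator_def, Subgroup.map_commutator, Subgroup.map_top_of_surjective _ e.surjective,
      ← commutator_def]
  constructor
  · rw [← hmap, Subgroup.index_map_equiv]; exact h.1
  · rw [← hmap, Ne, Subgroup.map_eq_bot_iff_of_injective _ e.injective]; exact h.2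

/-- A nonabelian group of order eight has commutator quotient of order four. -/
theorem MC_of_card_eight {G : Type*} [Group G] [Finite G] (h8 : Nat.card G = 8)
    (hna : ∃ a b : G, a * b ≠ b * a) : MC G := by
  have : Fact (Nat.Prime 2) := ⟨Nat.prime_two⟩
  have hG : IsPGroup 2 G := IsPGroup.of_card (n := 3) (by rw [h8]; norm_num)
  have hD1 : commutator G ≠ ⊥ := by
    intro h
    obtain ⟨a, b, hab⟩ := hna
    have hm : ⁅a, b⁆ ∈ commutator G :=
      Subgroup.commutator_mem_commutator (Subgroup.mem_top a) (Subgroup.mem_top b)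
    rw [h, Subgroup.mem_bot, commutatorElement_eq_one_iff_commute] at hm
    exact hab hm.eq
  refine ⟨?_, hD1⟩
  have h4 := sq_dvd_index_commutator hG hD1
  have hci := Subgroup.card_mul_index (commutator G)
  rw [h8] at hci
  have hc2 : 2 ≤ Nat.card (commutator G) := by
    have : Nontrivial (commutator G) := (Subgroup.nontrivial_iff_ne_bot _).2 hD1
    exact Finite.one_lt_card
  obtain ⟨c, hc⟩ := h4
  have hc0 : c ≠ 0 := by
    rintro rfl
    rw [hc] at hci
    simp at hci
  have : c = 1 := by
    by_contra hc1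
    have : 2 ≤ c := by omega
    rw [hc] at hci
    nlinarith
  rw [hc, this]; norm_num

theorem MC_dihedral_four : MC (DihedralGroup 4) := by
  apply MC_of_card_eight
  · rw [DihedralGroup.nat_card]
  · exact ⟨DihedralGroup.r (1 : ZMod 4), DihedralGroup.sr 0, by decide⟩

theorem MC_quaternion_two : MC (QuaternionGroup 2) := by
  apply MC_of_card_eight
  · rw [Nat.card_eq_fintype_card, QuaternionGroup.card]
  · exact ⟨QuaternionGroup.a (1 : ZMod (2 * 2)), QuaternionGroup.xa 0, by decide⟩

/-- The key step: a `2`-group `G` all of whose elementary abelian quotients have order at most four,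
with a maximal subgroup `M` such that `|M : M'| = 4` and `M` nonabelian, satisfies `|G : G'| = 4`. -/
theorem MC_step {G : Type*} [Group G] [Finite G] (hG : IsPGroup 2 G) (hr : QuotRankTwo G)
    (M : Subgroup G) (hM : M.index = 2) (hMC : MC ↥M) : MC G := by
  have : Fact (Nat.Prime 2) := ⟨Nat.prime_two⟩
  obtain ⟨hMc, hMn⟩ := hMC
  have hMnorm : M.Normal := Subgroup.normal_of_index_eq_two hM
  have hM' : (commutator ↥M).map M.subtype = ⁅M, M⁆ := Subgroup.map_subtype_commutator M
  have hM'le : ⁅M, M⁆ ≤ commutator G := Subgroup.commutator_mono le_top le_top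
  have hDleM : commutator G ≤ M := by
    have hc : IsCyclic (G ⧸ M) := isCyclic_of_prime_card (p := 2) (by rw [← Subgroup.index_eq_card]; exact hM)
    have : IsMulCommutative (G ⧸ M) := IsCyclic.isMulCommutative
    exact Subgroup.Normal.quotient_commutative_iff_commutator_le.1 this
  have hrel : (⁅M, M⁆).relIndex M = 4 := by
    rw [← hMc, ← hM']
    unfold Subgroup.relIndex Subgroup.subgroupOf
    rw [Subgroup.comap_map_eq_self_of_injective M.subtype_injective]
  have h1 := Subgroup.relIndex_mul_relIndex ⁅M, M⁆ (commutator G) M hM'le hDleM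
  rw [hrel] at h1
  have h2 := Subgroup.relIndex_mul_index hDleM
  rw [hM] at h2
  have hD1 : commutator G ≠ ⊥ := by
    intro h
    apply hMn
    have : ⁅M, M⁆ = ⊥ := le_bot_iff.1 (h ▸ hM'le)
    rw [← hM', Subgroup.map_eq_bot_iff_of_injective _ M.subtype_injective] at this
    exact this
  refine ⟨?_, hD1⟩
  have h4 := sq_dvd_index_commutator hG hD1
  obtain ⟨k, hk2, hk⟩ := (Nat.dvd_prime_pow Nat.prime_two).1
    (show (commutator G).relIndex M ∣ 2 ^ 2 from Dvd.intro_left _ h1)
  interval_cases k
  · -- relIndex = 1 : index 2, impossible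
    rw [hk] at h2
    rw [← h2] at h4
    norm_num at h4
  · rw [hk] at h2
    rw [← h2]; norm_num
  · -- relIndex = 4 : G' = M'
    exfalso
    rw [hk] at h1
    have hrel1 : (⁅M, M⁆).relIndex (commutator G) = 1 := by omega
    have hDM' : commutator G ≤ ⁅M, M⁆ := Subgroup.relIndex_eq_one.1 hrel1
    obtain ⟨K, hKn, hKD, hKrel⟩ := exists_normal_relIndex_prime hG (commutator G) hD1
    have hπs : Function.Surjective (QuotientGroup.mk' K) := QuotientGroup.mk'_surjective K
    -- the commutator subgroup of the quotient has order two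
    have hmapD : (commutator G).map (QuotientGroup.mk' K) = commutator (G ⧸ K) := by
      rw [commutator_def, Subgroup.map_commutator, Subgroup.map_top_of_surjective _ hπs,
        ← commutator_def]
    have hNcard : Nat.card (commutator (G ⧸ K)) = 2 := by
      have h3 := Subgroup.relIndex_comap (⊥ : Subgroup (G ⧸ K)) (QuotientGroup.mk' K) (commutator G)
      rw [MonoidHom.comap_bot, QuotientGroup.ker_mk', hmapD, Subgroup.relIndex_bot_left, hKrel] at h3
      exact h3.symm
    have hNc : commutator (G ⧸ K) ≤ Subgroup.center (G ⧸ K) :=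
      le_center_of_normal_card_two _ hNcard
    have hsq : ∀ q : G ⧸ K, q ^ 2 ∈ Subgroup.center (G ⧸ K) := by
      intro q
      rw [Subgroup.mem_center_iff]
      intro r
      have hc : ⁅q, r⁆ ∈ commutator (G ⧸ K) :=
        Subgroup.commutator_mem_commutator (Subgroup.mem_top q) (Subgroup.mem_top r)
      have hcomm : Commute ⁅q, r⁆ q := (Subgroup.mem_center_iff.1 (hNc hc) q).symm
      have hc2 : ⁅q, r⁆ ^ 2 = 1 := by
        have h5 : (⟨⁅q, r⁆, hc⟩ : commutator (G ⧸ K)) ^ Nat.card (commutator (G ⧸ K)) = 1 :=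
          pow_card_eq_one'
        rw [hNcard] at h5
        have h6 := congrArg Subtype.val h5
        simpa using h6
      have h7 := Cfsg.Agent.Lib.Helper2.commutator_pow_left q r hcomm 2
      rw [hc2, commutatorElement_eq_one_iff_commute] at h7
      exact h7.eq.symm
    -- the subgroup C
    obtain ⟨C, hCdef⟩ : ∃ C, C = (Subgroup.center (G ⧸ K)).comap (QuotientGroup.mk' K) ⊓ M :=
      ⟨_, rfl⟩
    have hCn : C.Normal := by
      rw [hCdef]
      have : ((Subgroup.center (G ⧸ K)).comap (QuotientGroup.mk' K)).Normal :=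
        Subgroup.Normal.comap inferInstance _
      infer_instance
    have hCsq : ∀ g : G, g ^ 2 ∈ C := by
      intro g
      rw [hCdef]
      refine Subgroup.mem_inf.2 ⟨?_, Subgroup.sq_mem_of_index_two hM g⟩
      rw [Subgroup.mem_comap, map_pow]
      exact hsq _
    have hCidx : C.index ≤ 4 := hr C hCn hCsq
    have hCM : C ≤ M := hCdef ▸ inf_le_right
    have hCrel := Subgroup.relIndex_mul_index hCM
    rw [hM] at hCrel
    have hCrel2 : C.relIndex M ≤ 2 := by omega
    have hkey : ∀ c ∈ C, ∀ g : G, Commute (QuotientGroup.mk' K c) (QuotientGroup.mk' K g) := by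
      intro c hc g
      rw [hCdef] at hc
      have := Subgroup.mem_center_iff.1 (Subgroup.mem_comap.1 hc.1) (QuotientGroup.mk' K g)
      exact this.symm
    have hMK : ⁅M, M⁆ ≤ K := by
      rw [Subgroup.commutator_le]
      intro m₁ hm₁ m₂ hm₂
      rw [← QuotientGroup.eq_one_iff, ← QuotientGroup.mk'_apply, map_commutatorElement,
        commutatorElement_eq_one_iff_commute]
      by_cases h1 : m₁ ∈ C
      · exact hkey m₁ h1 m₂
      by_cases h2 : m₂ ∈ C
      · exact (hkey m₂ h2 m₁).symm
      have hidx2 : (C.subgroupOf M).index = 2 := by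
        have h0 : C.relIndex M ≠ 0 := by
          intro h
          rw [h] at hCrel
          have := Subgroup.index_ne_zero_of_finite (H := C)
          omega
        have h1' : C.relIndex M ≠ 1 := by
          intro h
          exact h1 (Subgroup.relIndex_eq_one.1 h hm₁)
        show C.relIndex M = 2
        omega
      have hmem : (⟨m₁, hm₁⟩ : ↥M)⁻¹ * ⟨m₂, hm₂⟩ ∈ C.subgroupOf M := by
        rw [Subgroup.mul_mem_iff_of_index_two hidx2, Subgroup.inv_mem_iff]
        constructor
        · intro h; exact absurd (Subgroup.mem_subgroupOf.1 h) h1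
        · intro h; exact absurd (Subgroup.mem_subgroupOf.1 h) h2
      have hc : m₁⁻¹ * m₂ ∈ C := Subgroup.mem_subgroupOf.1 hmem
      have hm₂eq : m₂ = m₁ * (m₁⁻¹ * m₂) := by group
      rw [hm₂eq, map_mul]
      exact (Commute.refl _).mul_right (hkey _ hc m₁).symm
    have hle : commutator G ≤ K := hDM'.trans hMK
    have := Subgroup.relIndex_eq_one.2 hle
    rw [hKrel] at this
    norm_num at this

/-- Going up a chain of subgroups: if `H ≤ M` and `H` is nonabelian with `|H : H'| = 4` then so
is `M`, provided all sections of `S` have rank at most two. -/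
theorem MC_of_le {S : Type*} [Group S] [Finite S] (hS : IsPGroup 2 S)
    (hr : ∀ M : Subgroup S, QuotRankTwo ↥M) (H : Subgroup S) (hH : MC ↥H) :
    ∀ (n : ℕ) (M : Subgroup S), Nat.card M = n → H ≤ M → MC ↥M := by
  have : Fact (Nat.Prime 2) := ⟨Nat.prime_two⟩
  intro n
  induction n using Nat.strong_induction_on with
  | _ n ih =>
    intro M hcard hHM
    rcases eq_top_or_exists_le_coatom (H.subgroupOf M) with h | ⟨C, hC, hHC⟩
    · have hMH : M ≤ H := Subgroup.subgroupOf_eq_top.1 h
      have hEq : H = M := le_antisymm hHM hMH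
      rw [← hEq]; exact hH
    · have hMp : IsPGroup 2 ↥M := hS.to_subgroup M
      have hCn := Cfsg.Agent.Lib.Helper2.coatom_normal hMp C hC
      have hCi : C.index = 2 := by
        rw [Subgroup.index_eq_card]
        exact Cfsg.Agent.Lib.Helper2.coatom_card_quotient hMp C hC
      have hlt : Nat.card (C.map M.subtype) < n := by
        rw [← Nat.card_congr (C.equivMapOfInjective M.subtype M.subtype_injective).toEquiv, ← hcard]
        have := Subgroup.card_mul_index C
        rw [hCi] at this
        have hpos : 0 < Nat.card C := Nat.card_pos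
        omega
      have hHM₁ : H ≤ C.map M.subtype := by
        intro x hx
        exact ⟨⟨x, hHM hx⟩, hHC (Subgroup.mem_subgroupOf.2 hx), rfl⟩
      have hMC₁ : MC ↥(C.map M.subtype) := ih _ hlt (C.map M.subtype) rfl hHM₁
      have hMCC : MC ↥C :=
        MC.congr (C.equivMapOfInjective M.subtype M.subtype_injective).symm hMC₁
      exact MC_step hMp (hr M) C hCi hMCC

/-- A `2`-group all of whose sections have rank at most two and which contains a nonabelian
subgroup `H` with `|H : H'| = 4` (e.g. `D₈` or `Q₈`) is dihedral, semidihedral or generalized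
quaternion. -/
theorem maxClass_of_MC_le {S : Type*} [Group S] [Finite S] (hS : IsPGroup 2 S)
    (hr : ∀ M : Subgroup S, QuotRankTwo ↥M) (H : Subgroup S) (hH : MC ↥H) :
    (∃ k : ℕ, Nonempty (S ≃* DihedralGroup (2 ^ (k + 2)))) ∨
    (∃ k : ℕ, Nat.card S = 2 ^ (k + 4) ∧ ∃ a b : S, orderOf a = 2 ^ (k + 3) ∧ orderOf b = 2 ∧
      b * a * b⁻¹ = a ^ (2 ^ (k + 2) - 1)) ∨
    (∃ k : ℕ, Nonempty (S ≃* QuaternionGroup (2 ^ (k + 1)))) := by
  have h1 : MC ↥(⊤ : Subgroup S) := MC_of_le hS hr H hH _ ⊤ rfl le_top
  have h2 : MC S := MC.congr Subgroup.topEquiv h1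
  exact taussky hS h2.1 h2.2

end Cfsg.Agent.Lib.Helper73
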