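import Cfsg.Agent.Lib.Helper41.StnDefs
import Cfsg.Agent.Lib.Helper73.StnBINJDefs
import Cfsg.Agent.Lib.Helper33.Stn_BINJ_STARMULcore
import Cfsg.Agent.Lib.Helper33.Stn_BINJ_STARONE
import Cfsg.Agent.Lib.Helper33.Stn_BINJ_UTOP
import Cfsg.Agent.Lib.Helper34.Stn_BINJ_LEVSTD
import Cfsg.Agent.Lib.Helper34.Stn_BINJ_USTD
import Cfsg.Agent.Lib.Helper39.Stn_BINJ_BSPLIT
import Cfsg.Agent.Lib.Helper43.Stn_BINJ_COLSTD
import Cfsg.Agent.Lib.Helper43.Stn_BINJ_STARSTD
import Cfsg.Agent.Lib.Helper5.Stn_BINJ_LEVSPLIT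
import Cfsg.Agent.Lib.Helper70.Stn_BINJ_LEVBLOCK
import Cfsg.Agent.Lib.Helper70.Stn_BINJ_UHMAT
import Cfsg.Agent.Lib.Helper74.Stn_BINJ_COLMEM
import Cfsg.Agent.Lib.Helper74.Stn_BINJ_COLMUL
import Cfsg.Agent.Lib.Helper68.Stn_BINJ_STARMEMcore
import Cfsg.Agent.Lib.Helper70.Stn_BINJ_HSWAP
import Cfsg.Agent.Lib.Helper70.Stn_BINJ_HCOMM
import Cfsg.Agent.Lib.Helper97.Stn_HREL
import Cfsg.Agent.Lib.Helper99.Stn_SYMRfull

/-! # Stn hive (S2401, helper41), sub-hive BINJ (owner helper73): `std_inj_BB`, the standard homomorphism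
`φ : St_n(K) → SL_n(K)` is injective on `B = U H`.  Assembly of the BINJ leaves (see
`tools/helper73/StnBINJSkel.lean.txt` for the paper proof). -/

set_option autoImplicit false

namespace Cfsg.Agent.Lib.Helper41.Stn

open Matrix

variable {K : Type*} [Field K] {n : ℕ}

/-- assembly (helper73) -/
theorem uinj_lev (φ : St K n →* SpecialLinearGroup (Fin n) K) (hφ : IsStd φ) (m : ℕ) (hm : m ≤ n) :
    ∀ v ∈ Ulev K n m, φ v = 1 → v = 1 := by
  induction m with
  | zero =>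
    intro v hv _
    rw [Ulev_zero, Subgroup.mem_bot] at hv
    exact hv
  | succ m ih =>
    intro g hg h1
    have hm' : m < n := hm
    obtain ⟨v, hv, a, ha, rfl⟩ := Ulev_succ m hm' hg
    obtain ⟨t, rfl⟩ := (mem_Ucol_iff _ a).mp ha
    have hmat : (φ v).1 * (φ (colElt ⟨m, hm'⟩ t)).1 = 1 := by
      have := congrArg (fun x : SpecialLinearGroup (Fin n) K => x.1) h1
      simpa using this
    obtain ⟨hV, ht⟩ := block_col_eq_one (φ v).1 (φ (colElt ⟨m, hm'⟩ t)).1 ⟨m, hm'⟩ t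
      (fun a b hab => std_Ulev φ hφ m hv a b hab) (fun a b => std_colElt φ hφ _ t a b) hmat
    have hv1 : v = 1 := ih (le_of_lt hm') v hv (Subtype.ext hV)
    have ha1 : colElt ⟨m, hm'⟩ t = 1 := by
      rw [colElt_congr ⟨m, hm'⟩ (t' := 0) (fun i hi => ht i hi), colElt_zero]
    rw [hv1, ha1, one_mul]

/-- assembly (helper73) -/
theorem uinj (φ : St K n →* SpecialLinearGroup (Fin n) K) (hφ : IsStd φ) {u : St K n}
    (hu : u ∈ UU K n) (h1 : φ u = 1) : u = 1 := by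
  rw [UU_eq_Ulev] at hu
  exact uinj_lev φ hφ n le_rfl u hu h1

/-! ## (H) the torus part -/

/-- BINJ-STARMEM, assembled from helper68's core, helper33's `starElt_mul` core, `hh_swap` / `hh_comm`
(helper70), `hh_rel` (helper97) and `symr_hh_mul` (helper99) -/
theorem binj_mem_HH_star [Finite K] (hn : 3 ≤ n) (l : Fin n) {g : St K n} (hg : g ∈ HH K n) :
    ∃ t : Fin n → K, (∀ i, t i ≠ 0) ∧ g = starElt l t :=
  binjstarmem_core l (fun hij _ ht => hh_swap hn hij ht)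
    (fun hij hjl hil _ ht => hh_rel hn hij hjl hil ht)
    (fun ht ht' => binjstarmul_mul_core (fun hij _ _ ht hu => symr_hh_mul hn hij ht hu)
      (fun hij hkl _ _ ht hu => hh_comm hn hij hkl ht hu) l ht ht') hg

/-- assembly (helper73) -/
theorem hinj [Finite K] (hn : 3 ≤ n) (φ : St K n →* SpecialLinearGroup (Fin n) K) (hφ : IsStd φ)
    {h : St K n} (hh' : h ∈ HH K n) (h1 : φ h = 1) : h = 1 := by
  have hpos : 0 < n := by omega
  obtain ⟨t, ht, rfl⟩ := binj_mem_HH_star hn (⟨0, hpos⟩ : Fin n) hh'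
  have hd := std_starElt φ hφ (⟨0, hpos⟩ : Fin n) ht
  rw [h1] at hd
  have ht1 : ∀ i, i ≠ (⟨0, hpos⟩ : Fin n) → t i = (1 : Fin n → K) i := by
    intro i hi
    have := congrFun (congrFun hd i) i
    rw [Matrix.diagonal_apply_eq] at this
    simp only [starDiag, if_neg hi] at this
    simpa using this.symm
  rw [starElt_congr _ ht1, starElt_one]

/-! ## (B) -/

/-- STN-BINJ assembly (helper73) -/
theorem std_inj_BB [Finite K] (hn : 3 ≤ n) (φ : St K n →* SpecialLinearGroup (Fin n) K) (hφ : IsStd φ)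
    {b : St K n} (hb : b ∈ BB K n) (h1 : φ b = 1) : b = 1 := by
  obtain ⟨u, hu, h, hh', rfl⟩ := BB_split hn hb
  have hpos : 0 < n := by omega
  obtain ⟨t, ht, rfl⟩ := binj_mem_HH_star hn (⟨0, hpos⟩ : Fin n) hh'
  have hd := std_starElt φ hφ (⟨0, hpos⟩ : Fin n) ht
  have hmat : (φ u).1 * Matrix.diagonal (starDiag (⟨0, hpos⟩ : Fin n) t) = 1 := by
    have := congrArg (fun x : SpecialLinearGroup (Fin n) K => x.1) h1
    rw [← hd]
    simpa using this
  obtain ⟨hU, hD⟩ := unitri_diag_eq_one (φ u).1 _ (fun a b hab => std_UU_unitri φ hφ hu a b hab) hmat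
  have hu1 : u = 1 := uinj φ hφ hu (Subtype.ext hU)
  have hh1 : starElt (⟨0, hpos⟩ : Fin n) t = 1 := by
    apply hinj hn φ hφ hh'
    apply Subtype.ext
    rw [hd, hD]
    rfl
  rw [hu1, hh1, one_mul]

end Cfsg.Agent.Lib.Helper41.Stn
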