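import Mathlib
import Cfsg.Agent.Lib.Helper45.LtCore

/-! # S2363 hive "Lt" (helper45): leaf LT-2F4 `lt_2f4` (helper73) -/

set_option autoImplicit false

namespace Cfsg.Agent.Lib.Helper45.Lt

/-- `(x - 1) (y + 1) < x y` for `1 ≤ x ≤ y` -/
theorem tf4_twist (x y : ℕ) (hx : 1 ≤ x) (hxy : x ≤ y) : (x - 1) * (y + 1) < x * y := by
  obtain ⟨r, rfl⟩ : ∃ r, x = r + 1 := ⟨x - 1, by omega⟩
  rw [Nat.add_sub_cancel]
  nlinarith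

/-- `(q^a - 1) (q^b + 1) < q^(a+b)` for `a ≤ b`, `1 ≤ q` -/
theorem tf4_twist_pow (q a b : ℕ) (hq : 1 ≤ q) (hab : a ≤ b) :
    (q ^ a - 1) * (q ^ b + 1) < q ^ (a + b) := by
  rw [pow_add]
  exact tf4_twist _ _ (Nat.one_le_pow _ _ hq) (Nat.pow_le_pow_right hq hab)

/-- LT-2F4 (S1068): `N = 12`, `l = 2`; `(q - 1)(q^3 + 1) < q^4`, `(q^4 - 1)(q^6 + 1) < q^10`. -/
theorem lt_2f4 {p f g : ℕ} (hp : p.Prime) (hf : 1 ≤ f) (hg : 0 < g)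
    (hcard : g = (p ^ f) ^ 12 * (p ^ f - 1) * ((p ^ f) ^ 3 + 1) * ((p ^ f) ^ 4 - 1) *
      ((p ^ f) ^ 6 + 1)) :
    g < p ^ (3 * g.factorization p) ∧ g ^ 3 < p ^ (8 * g.factorization p) := by
  have hq : 1 ≤ p ^ f := Nat.one_le_pow _ _ hp.pos
  have hd : 1 * g = (p ^ f) ^ 12 *
      (((p ^ f - 1) * ((p ^ f) ^ 3 + 1)) * (((p ^ f) ^ 4 - 1) * ((p ^ f) ^ 6 + 1))) := by
    rw [one_mul, hcard]; ring
  have hpd : ¬ p ∣ 1 := hp.one_lt.ne' ∘ Nat.dvd_one.1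
  have h1 : ¬ p ∣ p ^ f - 1 := by
    have := lt_not_dvd_sub_one (a := 1) hp hf le_rfl
    rwa [pow_one] at this
  have hpM : ¬ p ∣ ((p ^ f - 1) * ((p ^ f) ^ 3 + 1)) * (((p ^ f) ^ 4 - 1) * ((p ^ f) ^ 6 + 1)) :=
    lt_not_dvd_mul hp (lt_not_dvd_mul hp h1 (lt_not_dvd_add_one hp hf (by norm_num)))
      (lt_not_dvd_mul hp (lt_not_dvd_sub_one hp hf (by norm_num))
        (lt_not_dvd_add_one hp hf (by norm_num)))
  have hA : (p ^ f - 1) * ((p ^ f) ^ 3 + 1) < (p ^ f) ^ 4 := by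
    have := tf4_twist_pow (p ^ f) 1 3 hq (by norm_num)
    rwa [pow_one] at this
  have hB : ((p ^ f) ^ 4 - 1) * ((p ^ f) ^ 6 + 1) < (p ^ f) ^ 10 :=
    tf4_twist_pow (p ^ f) 4 6 hq (by norm_num)
  have hM : ((p ^ f - 1) * ((p ^ f) ^ 3 + 1)) * (((p ^ f) ^ 4 - 1) * ((p ^ f) ^ 6 + 1)) <
      1 * (p ^ f) ^ (12 + 2) := by
    rw [one_mul, show 12 + 2 = 4 + 10 from rfl, pow_add]
    exact Nat.mul_lt_mul'' hA hB
  obtain ⟨-, h2, h3⟩ := lt_core (N := 12) (l := 2) hp hf hg hd hpd hpM hM (by norm_num)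
  exact ⟨h2, h3 (by norm_num)⟩

end Cfsg.Agent.Lib.Helper45.Lt
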