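import Mathlib
import Cfsg.Agent.Lib.Helper45.LtCore

/-! # S2363 hive "Lt" (helper45): leaf LT-REE `lt_ree` (helper73) -/

set_option autoImplicit false

namespace Cfsg.Agent.Lib.Helper45.Lt

/-- `(q - 1) (q^3 + 1) < q^4` for `q ≥ 1` -/
theorem ree_bound (q : ℕ) (hq : 1 ≤ q) : (q - 1) * (q ^ 3 + 1) < q ^ 4 := by
  obtain ⟨r, rfl⟩ : ∃ r, q = r + 1 := ⟨q - 1, by omega⟩
  rw [Nat.add_sub_cancel]
  nlinarith [sq_nonneg r, pow_pos (Nat.succ_pos r) 3, pow_nonneg (Nat.zero_le r) 3]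

/-- LT-REE (S1069): `N = 3`, `l = 1`; `(q - 1)(q^3 + 1) < q^4`. -/
theorem lt_ree {p f g : ℕ} (hp : p.Prime) (hf : 1 ≤ f) (hg : 0 < g)
    (hcard : g = (p ^ f) ^ 3 * (p ^ f - 1) * ((p ^ f) ^ 3 + 1)) :
    g < p ^ (3 * g.factorization p) ∧ g ^ 3 < p ^ (8 * g.factorization p) := by
  have hq : 1 ≤ p ^ f := Nat.one_le_pow _ _ hp.pos
  have hd : 1 * g = (p ^ f) ^ 3 * ((p ^ f - 1) * ((p ^ f) ^ 3 + 1)) := by
    rw [one_mul, hcard, mul_assoc]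
  have hpd : ¬ p ∣ 1 := hp.one_lt.ne' ∘ Nat.dvd_one.1
  have h1 : ¬ p ∣ p ^ f - 1 := by
    have := lt_not_dvd_sub_one (a := 1) hp hf le_rfl
    rwa [pow_one] at this
  have hpM : ¬ p ∣ (p ^ f - 1) * ((p ^ f) ^ 3 + 1) :=
    lt_not_dvd_mul hp h1 (lt_not_dvd_add_one hp hf (by norm_num))
  have hM : (p ^ f - 1) * ((p ^ f) ^ 3 + 1) < 1 * (p ^ f) ^ (3 + 1) := by
    rw [one_mul]
    exact ree_bound _ hq
  obtain ⟨-, h2, h3⟩ := lt_core (N := 3) (l := 1) hp hf hg hd hpd hpM hM (by norm_num)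
  exact ⟨h2, h3 (by norm_num)⟩

end Cfsg.Agent.Lib.Helper45.Lt
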