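import Mathlib
import Cfsg.Prelude.Def_ClassicalGeometry
import Cfsg.Prelude.Def_GeometricClasses
import Cfsg.Agent.Lib.Helper81.OnDefs

/-! On hive (S5989), leaf ON-TRANS `card_fam_restrict`. -/

set_option autoImplicit false
set_option linter.unusedSectionVars false

namespace Cfsg.Agent.Lib.Helper81.On

open Polynomial Module
open Cfsg.Agent.Lib.Helper2.BG Cfsg.Agent.Lib.Helper99 Cfsg.Agent.Lib.Helper48.Ti

section abstract

variable {F V : Type*} [Field F] [AddCommGroup V] [Module F V] [FiniteDimensional F V]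
variable {B : V →ₗ[F] V →ₗ[F] F}

theorem trans_nd_iff (Z W : Submodule F V) (hW : W ≤ Z) :
    Nd (B.domRestrict₁₂ Z Z) (W.comap Z.subtype) ↔ Nd B W := by
  constructor
  · intro h u hu huv
    have h1 := h ⟨u, hW hu⟩ (by simpa using hu) (fun v hv => by
      have h2 := huv v.1 (by simpa using hv)
      simpa [LinearMap.domRestrict₁₂_apply] using h2)
    simpa using congrArg Subtype.val h1
  · intro h u hu huv
    have hu' : (u : V) ∈ W := by simpa using hu
    have h1 := h u hu' (fun v hv => by
      have h2 := huv ⟨v, hW hv⟩ (by simpa using hv)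
      simpa [LinearMap.domRestrict₁₂_apply] using h2)
    exact Subtype.ext h1

theorem trans_sameType_iff (Z W W₀ : Submodule F V) (hW : W ≤ Z) (hW₀ : W₀ ≤ Z) :
    SameType (B.domRestrict₁₂ Z Z) (W.comap Z.subtype) (W₀.comap Z.subtype) ↔
      SameType B W W₀ := by
  constructor
  · rintro ⟨e, he⟩
    refine ⟨(Submodule.comapSubtypeEquivOfLe hW).symm.trans
      (e.trans (Submodule.comapSubtypeEquivOfLe hW₀)), ?_⟩
    intro u v
    have h1 := he ((Submodule.comapSubtypeEquivOfLe hW).symm u)
      ((Submodule.comapSubtypeEquivOfLe hW).symm v)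
    simpa [LinearMap.domRestrict₁₂_apply] using h1
  · rintro ⟨e, he⟩
    refine ⟨(Submodule.comapSubtypeEquivOfLe hW).trans
      (e.trans (Submodule.comapSubtypeEquivOfLe hW₀).symm), ?_⟩
    intro u v
    have h1 := he (Submodule.comapSubtypeEquivOfLe hW u) (Submodule.comapSubtypeEquivOfLe hW v)
    simpa [LinearMap.domRestrict₁₂_apply] using h1

section semisimple

variable [Fintype F] {p : ℕ} [Fact p.Prime] [CharP F p] {r : ℕ} [Fact r.Prime]

/-- ON-TRANS: the copies of `W₀ ≤ Z` inside `Z`, counted inside the space `↥Z` with the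
restricted form -/
theorem card_fam_restrict (Z W₀ : Submodule F V) (hW₀ : W₀ ≤ Z) :
    Nat.card {W : Submodule F V // W ≤ Z ∧ Nd B W ∧ SameType B W W₀} =
      Nat.card {W' : Submodule F Z // Nd (B.domRestrict₁₂ Z Z) W' ∧
        SameType (B.domRestrict₁₂ Z Z) W' (W₀.comap Z.subtype)} := by
  refine Nat.card_congr
    { toFun := fun W => ⟨W.1.comap Z.subtype,
        (trans_nd_iff Z W.1 W.2.1).2 W.2.2.1, (trans_sameType_iff Z W.1 W₀ W.2.1 hW₀).2 W.2.2.2⟩
      invFun := fun W' => ⟨W'.1.map Z.subtype, Submodule.map_subtype_le Z W'.1, ?_, ?_⟩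
      left_inv := ?_
      right_inv := ?_ }
  · have h1 : (W'.1.map Z.subtype).comap Z.subtype = W'.1 :=
      Submodule.comap_map_eq_of_injective Z.injective_subtype W'.1
    have h2 := W'.2.1
    rw [← h1] at h2
    exact (trans_nd_iff Z _ (Submodule.map_subtype_le Z W'.1)).1 h2
  · have h1 : (W'.1.map Z.subtype).comap Z.subtype = W'.1 :=
      Submodule.comap_map_eq_of_injective Z.injective_subtype W'.1
    have h2 := W'.2.2
    rw [← h1] at h2
    exact (trans_sameType_iff Z _ W₀ (Submodule.map_subtype_le Z W'.1) hW₀).1 h2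
  · intro W
    apply Subtype.ext
    show (W.1.comap Z.subtype).map Z.subtype = W.1
    rw [Submodule.map_comap_subtype]
    exact inf_eq_right.2 W.2.1
  · intro W'
    apply Subtype.ext
    show (W'.1.map Z.subtype).comap Z.subtype = W'.1
    exact Submodule.comap_map_eq_of_injective Z.injective_subtype W'.1

end semisimple

end abstract

end Cfsg.Agent.Lib.Helper81.On
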