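import Cfsg.Agent.Lib.Helper47.FLDefs
import Cfsg.Agent.Lib.Helper47.FrakLSL2

set_option autoImplicit false

/-! # S2863 hive (`FL`, helper47): leaf GP-SL2-FPF `goodPair_SL2_fpf` (helper73) -/

namespace Cfsg.Agent.Lib.Helper47.FL

open Cfsg

section sl2
open Cfsg.Agent.Lib.Helper46.SL2
variable {F : Type*} [Field F] [Fintype F] {p : ℕ} [Fact p.Prime]

omit [Fintype F] in
theorem sl2fpf_dd_zero_right (e : Fin 2 → F) : dd e 0 = 0 := by
  unfold dd; simp

omit [Fintype F] in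
theorem sl2fpf_dd_zero_left (w : Fin 2 → F) : dd 0 w = 0 := by
  unfold dd; simp

omit [Fintype F] in
theorem sl2fpf_cj_stabVec (g : SL F) (e : Fin 2 → F) : cj g (stabVec e) = stabVec (mv g e) := by
  ext M
  rw [mem_cj_iff, mem_stabVec, mem_stabVec, mv_mul, mv_mul]
  constructor
  · intro h
    have h1 := congrArg (mv g) h
    rwa [mv_mv_inv] at h1
  · intro h
    rw [h, mv_inv_mv]

omit [Fintype F] in
theorem sl2fpf_stabVec_ne {e a : Fin 2 → F} (hd : dd e a ≠ 0) : stabVec a ≠ stabVec e := by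
  intro h
  have h1 : transv e 1 ∈ stabVec a := h ▸ transv_mem_stabVec e 1
  rw [mem_stabVec, mv_transv, one_mul] at h1
  have h2 : dd e a • e = 0 := by
    have h3 : a + dd e a • e = a + 0 := by rw [h1, add_zero]
    exact add_left_cancel h3
  rcases smul_eq_zero.mp h2 with h3 | h3
  · exact hd h3
  · apply hd
    rw [h3, sl2fpf_dd_zero_left]

theorem sl2fpf_ppow_of_mem_stabVec {n : ℕ} (hF : Fintype.card F = p ^ n) {a : Fin 2 → F}
    (ha : a ≠ 0) {x : SL F} (hx : x ∈ stabVec a) : ∃ k : ℕ, orderOf x = p ^ k := by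
  have h1 : x ^ Fintype.card F = 1 := pow_card_eq_one_of_mem_stabVec ha hx
  have h2 : orderOf x ∣ p ^ n := hF ▸ orderOf_dvd_of_pow_eq_one h1
  obtain ⟨k, -, hk⟩ := (Nat.dvd_prime_pow (Fact.out : p.Prime)).1 h2
  exact ⟨k, hk⟩

/-- the non-scalar case: `x = y1 * y2` with `y1`, `y2` nontrivial transvections with different
centres -/
theorem sl2fpf_nonscalar {n : ℕ} (hF : Fintype.card F = p ^ n) (x : SL F)
    (hx : ¬ ∃ k : ℕ, orderOf x = p ^ k) (e : Fin 2 → F) (hδ : dd e (mv x e) ≠ 0) :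
    ∃ a : Fin 2 → F, dd e a ≠ 0 ∧ ∃ y1 ∈ stabVec a, ∃ y2 ∈ stabVec e,
      y1 ≠ 1 ∧ y2 ≠ 1 ∧ x = y1 * y2 := by
  have he : e ≠ 0 := by
    rintro rfl
    exact hδ (sl2fpf_dd_zero_left _)
  have hv : mv x e ≠ 0 := by
    intro h
    rw [h, sl2fpf_dd_zero_right] at hδ
    exact hδ rfl
  have key : dd (mv x e) (mv x (mv x e) + e) = 0 := by
    rw [dd_add, dd_mv, dd_swap (mv x e) e]
    ring
  obtain ⟨c, hc⟩ := exists_smul_of_dd_eq_zero hv key
  have hxv : mv x (mv x e) = c • mv x e - e := eq_sub_of_add_eq hc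
  obtain ⟨k, hk⟩ : ∃ k : F, k * dd e (mv x e) = 2 - c :=
    ⟨(2 - c) / dd e (mv x e), div_mul_cancel₀ _ hδ⟩
  have hda : dd e (mv x e - e) = dd e (mv x e) := by
    rw [dd_sub, dd_self, sub_zero]
  have ha : mv x e - e ≠ 0 := by
    intro h
    rw [h, sl2fpf_dd_zero_right] at hda
    exact hδ hda.symm
  have hy1 : x * transv e k ∈ stabVec (mv x e - e) := by
    rw [mem_stabVec, mv_mul, mv_transv, hda, hk, mv_add, mv_sub, mv_smul, hxv]
    module
  have hprod : x = (x * transv e k) * transv e (-k) := by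
    rw [mul_assoc, ← transv_add, add_neg_cancel, transv_zero, mul_one]
  refine ⟨mv x e - e, by rw [hda]; exact hδ, x * transv e k, hy1, transv e (-k),
    transv_mem_stabVec e (-k), ?_, ?_, hprod⟩
  · intro h1
    have h2 : x = (transv e k)⁻¹ := eq_inv_of_mul_eq_one_left h1
    have h3 : x ∈ stabVec e := h2 ▸ (stabVec e).inv_mem (transv_mem_stabVec e k)
    rw [mem_stabVec] at h3
    rw [h3, dd_self] at hδ
    exact hδ rfl
  · intro h1
    have h2 : transv e k = 1 := by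
      have h3 := transv_add e k (-k)
      rw [add_neg_cancel, transv_zero, h1, mul_one] at h3
      exact h3.symm
    rw [h2, mul_one] at hy1
    exact hx (sl2fpf_ppow_of_mem_stabVec hF ha hy1)

omit [Fintype F] in
/-- the element `n = u(1) l(1) u(1)` exchanging `e` and `w` up to sign -/
theorem sl2fpf_weyl {e w : Fin 2 → F} (hw : dd e w = 1) :
    mv (transv e 1 * transv w 1 * transv e 1) e = -w ∧
      mv (transv e 1 * transv w 1 * transv e 1) w = e := by
  have hwe : dd w e = -1 := by rw [dd_swap, hw]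
  have h1 : mv (transv e 1) e = e := mem_stabVec.1 (transv_mem_stabVec e 1)
  have h2 : mv (transv w 1) w = w := mem_stabVec.1 (transv_mem_stabVec w 1)
  have h3 : mv (transv e 1) w = w + e := by rw [mv_transv, hw, one_mul, one_smul]
  have h4 : mv (transv w 1) e = e - w := by
    rw [mv_transv, hwe, one_mul, neg_one_smul, sub_eq_add_neg]
  constructor
  · rw [mv_mul, mv_mul, h1, h4, mv_sub, h1, h3]
    abel
  · rw [mv_mul, mv_mul, h3, mv_add, h2, h4, show w + (e - w) = e by abel, h1]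

/-- the scalar case -/
theorem sl2fpf_scalar {n : ℕ} (hF : Fintype.card F = p ^ n) (x : SL F)
    (hx : ¬ ∃ k : ℕ, orderOf x = p ^ k) (hsc : ∀ e : Fin 2 → F, dd e (mv x e) = 0)
    {e w : Fin 2 → F} (hw : dd e w = 1) :
    p ≠ 2 ∧ mv x e = -e ∧ mv x w = -w := by
  have he : e ≠ 0 := by
    rintro rfl
    rw [sl2fpf_dd_zero_left] at hw
    exact zero_ne_one hw
  have hw0 : w ≠ 0 := by
    rintro rfl
    rw [sl2fpf_dd_zero_right] at hw
    exact zero_ne_one hw
  have hew : e + w ≠ 0 := by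
    intro h
    have h1 : dd e (e + w) = 1 := by rw [dd_add, dd_self, hw, zero_add]
    rw [h, sl2fpf_dd_zero_right] at h1
    exact zero_ne_one h1
  have hwe : dd w e = -1 := by rw [dd_swap, hw]
  obtain ⟨c₁, h1⟩ := exists_smul_of_dd_eq_zero he (hsc e)
  obtain ⟨c₂, h2⟩ := exists_smul_of_dd_eq_zero hw0 (hsc w)
  obtain ⟨c₃, h3⟩ := exists_smul_of_dd_eq_zero hew (hsc (e + w))
  rw [mv_add, h1, h2, smul_add] at h3
  have h23 : c₂ = c₃ := by
    have := congrArg (dd e) h3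
    rw [dd_add, dd_add, dd_smul, dd_smul, dd_smul, dd_smul, dd_self, hw] at this
    linear_combination this
  have h13 : c₁ = c₃ := by
    have := congrArg (dd w) h3
    rw [dd_add, dd_add, dd_smul, dd_smul, dd_smul, dd_smul, dd_self, hwe] at this
    linear_combination -this
  have h12 : c₂ = c₁ := by rw [h23, h13]
  rw [h12] at h2
  have hdet : c₁ * c₁ = 1 := by
    have := dd_mv x e w
    rw [h1, h2, dd_smul_left, dd_smul, hw] at this
    linear_combination this
  have hne1 : c₁ ≠ 1 := by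
    intro h
    rw [h, one_smul] at h1 h2
    have hx1 : x = 1 := eq_one_of_fix h1 h2 (by rw [hw]; exact one_ne_zero)
    exact hx ⟨0, by rw [hx1, orderOf_one, pow_zero]⟩
  have hc : c₁ = -1 := by
    rcases mul_self_eq_one_iff.1 hdet with h | h
    · exact absurd h hne1
    · exact h
  refine ⟨?_, by rw [h1, hc, neg_one_smul], by rw [h2, hc, neg_one_smul]⟩
  intro hp2
  have h0 : ((Fintype.card F : ℕ) : F) = 0 := Nat.cast_card_eq_zero F
  rw [hF, hp2] at h0
  push_cast at h0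
  have h20 : (2 : F) = 0 := eq_zero_of_pow_eq_zero h0
  apply hne1
  rw [hc]
  linear_combination -h20

/-- LEAF GP-SL2-FPF. -/
theorem goodPair_SL2_fpf {P : Subgroup (SL F)} (hP : IsPGroup p ↥P)
    (hcard : Nat.card ↥P = Fintype.card F) :
    ∀ x : SL F, (¬ ∃ k : ℕ, orderOf x = p ^ k) → ∃ j : ℕ,
    (∃ g1 g2 : SL F, cj g1 P ≠ cj g2 P ∧ ∃ y1 ∈ cj g1 P, ∃ y2 ∈ cj g2 P,
        y1 ≠ 1 ∧ y2 ≠ 1 ∧ x ^ j = y1 * y2) ∨
    (p ≠ 2 ∧ ∃ g : SL F, cj g P ≠ P ∧ ∃ y ∈ P, ∃ y' ∈ cj g P,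
        cj (y * y' * y) P = cj g P ∧ cj (y * y' * y) (cj g P) = P ∧
          x ^ j = (y * y' * y) * (y * y' * y)) := by
  obtain ⟨n, hn⟩ := IsPGroup.iff_card.mp hP
  have hF : Fintype.card F = p ^ n := by rw [← hcard, hn]
  obtain ⟨e₀, he₀, hPe⟩ := exists_fixed_vector hF P hP
  have hPeq : P = stabVec e₀ := by
    apply Subgroup.eq_of_le_of_card_ge hPe
    rw [Cfsg.Agent.Lib.Helper47.card_stabVec he₀, hcard]
  subst hPeq
  intro x hx
  refine ⟨1, ?_⟩
  rw [pow_one]
  by_cases hsc : ∃ e : Fin 2 → F, dd e (mv x e) ≠ 0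
  · left
    obtain ⟨e, hδ⟩ := hsc
    obtain ⟨a, hda, y1, hy1, y2, hy2, hy11, hy21, hprod⟩ := sl2fpf_nonscalar hF x hx e hδ
    have he : e ≠ 0 := by
      rintro rfl
      exact hda (sl2fpf_dd_zero_left _)
    have ha : a ≠ 0 := by
      rintro rfl
      exact hda (sl2fpf_dd_zero_right _)
    obtain ⟨g1, hg1⟩ := exists_mv_eq he₀ ha
    obtain ⟨g2, hg2⟩ := exists_mv_eq he₀ he
    refine ⟨g1, g2, ?_, y1, ?_, y2, ?_, hy11, hy21, hprod⟩
    · rw [sl2fpf_cj_stabVec, sl2fpf_cj_stabVec, hg1, hg2]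
      exact sl2fpf_stabVec_ne hda
    · rw [sl2fpf_cj_stabVec, hg1]; exact hy1
    · rw [sl2fpf_cj_stabVec, hg2]; exact hy2
  · right
    have hsc' : ∀ e : Fin 2 → F, dd e (mv x e) = 0 := by
      intro e
      by_contra h
      exact hsc ⟨e, h⟩
    obtain ⟨w, hw⟩ := Cfsg.Agent.Lib.Helper47.exists_dd_eq_one he₀
    obtain ⟨hp2, hxe, hxw⟩ := sl2fpf_scalar hF x hx hsc' hw
    obtain ⟨hne, hnw⟩ := sl2fpf_weyl hw
    have hw0 : w ≠ 0 := by
      rintro rfl
      rw [sl2fpf_dd_zero_right] at hw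
      exact zero_ne_one hw
    obtain ⟨g, hg⟩ := exists_mv_eq he₀ hw0
    have hcjg : cj g (stabVec e₀) = stabVec w := by rw [sl2fpf_cj_stabVec, hg]
    refine ⟨hp2, g, ?_, transv e₀ 1, transv_mem_stabVec e₀ 1, transv w 1, ?_, ?_, ?_, ?_⟩
    · rw [hcjg]
      exact sl2fpf_stabVec_ne (by rw [hw]; exact one_ne_zero)
    · rw [hcjg]; exact transv_mem_stabVec w 1
    · rw [hcjg, sl2fpf_cj_stabVec, hne, ← neg_one_smul F w]
      exact stabVec_smul (neg_ne_zero.2 one_ne_zero)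
    · rw [hcjg, sl2fpf_cj_stabVec, hnw]
    · -- `x = n * n`
      have h1 : (transv e₀ 1 * transv w 1 * transv e₀ 1 *
          (transv e₀ 1 * transv w 1 * transv e₀ 1))⁻¹ * x = 1 := by
        apply eq_one_of_fix (e := e₀) (w := w)
        · rw [mv_mul, hxe]
          have h2 : mv (transv e₀ 1 * transv w 1 * transv e₀ 1 *
              (transv e₀ 1 * transv w 1 * transv e₀ 1)) e₀ = -e₀ := by
            rw [mv_mul, hne, mv_neg, hnw]
          rw [← h2, mv_inv_mv]
        · rw [mv_mul, hxw]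
          have h2 : mv (transv e₀ 1 * transv w 1 * transv e₀ 1 *
              (transv e₀ 1 * transv w 1 * transv e₀ 1)) w = -w := by
            rw [mv_mul, hnw, hne]
          rw [← h2, mv_inv_mv]
        · rw [hw]; exact one_ne_zero
      exact (inv_mul_eq_one.mp h1).symm

end sl2

end Cfsg.Agent.Lib.Helper47.FL
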