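import Mathlib
import Cfsg.Agent.Lib.Helper37.FusDefs

/-!
# FUS-C sub-hive (owner helper54): leaves FUSC-SYM `sym_prod_apply` and FUSC-SYM2 `sym_prod_of_basis`
-/

set_option autoImplicit false

namespace Cfsg.Agent.Lib.Helper37.Fus

variable {F : Type*} [Field F] {V : Type*} [AddCommGroup V] [Module F V]

/-- aux: `B v` kills a weighted sum of vectors all `B`-orthogonal to `v`. -/
theorem sym_form_sum_eq_zero (B : LinearMap.BilinForm F V) (v : V) (c : V → F) (l : List V)
    (h : ∀ w ∈ l, B v w = 0) : B v ((l.map (fun w => c w • w)).sum) = 0 := by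
  induction l with
  | nil => simp
  | cons w l ih =>
    have hw : B v w = 0 := h w (by simp)
    have hl : ∀ w' ∈ l, B v w' = 0 := fun w' hw' => h w' (by simp [hw'])
    simp only [List.map_cons, List.sum_cons, map_add, map_smul, smul_eq_mul, hw, mul_zero, zero_add]
    exact ih hl

/-- FUSC-SYM. -/
theorem sym_prod_apply (B : LinearMap.BilinForm F V) (vs : List V)
    (hp : vs.Pairwise (fun u v => B u v = 0)) (x : V) :
    (vs.map (rfl B)).prod x = x - (vs.map (fun v => (2 * (B v v)⁻¹ * B v x) • v)).sum := by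
  induction vs with
  | nil => simp
  | cons v vs ih =>
    rw [List.pairwise_cons] at hp
    obtain ⟨hv, hvs⟩ := hp
    have ih' := ih hvs
    simp only [List.map_cons, List.prod_cons, List.sum_cons]
    rw [Module.End.mul_apply, ih', rfl_apply]
    have h0 : B v ((vs.map (fun w => (2 * (B w w)⁻¹ * B w x) • w)).sum) = 0 :=
      sym_form_sum_eq_zero B v (fun w => 2 * (B w w)⁻¹ * B w x) vs hv
    rw [map_sub, h0, sub_zero]
    abel

/-- FUSC-SYM2. -/
theorem sym_prod_of_basis (h2 : (2 : F) ≠ 0) (B : LinearMap.BilinForm F V) (hs : ∀ u v, B u v = B v u)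
    {d : ℕ} (b : Fin d → V) (ho : ∀ i j, i ≠ j → B (b i) (b j) = 0) (hb : ∀ i, B (b i) (b i) ≠ 0) :
    (∀ x ∈ Submodule.span F (Set.range b), ((List.ofFn b).map (rfl B)).prod x = -x) ∧
    (∀ x, (∀ i, B (b i) x = 0) → ((List.ofFn b).map (rfl B)).prod x = x) := by
  have hpw : (List.ofFn b).Pairwise (fun u v => B u v = 0) := by
    rw [List.pairwise_ofFn]
    intro i j hij
    exact ho i j (ne_of_lt hij)
  have key : ∀ x : V, ((List.ofFn b).map (rfl B)).prod x =
      x - ∑ i, (2 * (B (b i) (b i))⁻¹ * B (b i) x) • b i := by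
    intro x
    rw [sym_prod_apply B _ hpw x, List.map_ofFn, List.sum_ofFn]
    simp only [Function.comp_apply]
  constructor
  · intro x hx
    obtain ⟨c, hc⟩ := (Submodule.mem_span_range_iff_exists_fun F).mp hx
    rw [key x]
    have hB : ∀ i, B (b i) x = c i * B (b i) (b i) := by
      intro i
      rw [← hc, map_sum]
      rw [Finset.sum_eq_single i]
      · simp
      · intro j _ hji
        simp [ho i j (Ne.symm hji)]
      · intro hi
        exact absurd (Finset.mem_univ i) hi
    have hterm : ∀ i, (2 * (B (b i) (b i))⁻¹ * B (b i) x) • b i = (2 : F) • (c i • b i) := by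
      intro i
      rw [hB i, smul_smul]
      congr 1
      field_simp [hb i]
    simp only [hterm]
    rw [← Finset.smul_sum, hc, two_smul]
    abel
  · intro x hx
    rw [key x]
    simp [hx]

end Cfsg.Agent.Lib.Helper37.Fus
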