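import Mathlib
import Cfsg.Agent.Lib.Helper37.FusDefs
import Cfsg.Agent.Lib.Helper54.FusCDefs

/-!
# FUS-C sub-hive (owner helper54) : leaves FUSC-NOFIX `nofix_of_block` and FUSC-MKCTX `minCtx_of_block`

(helper73)  Statements copied from `tools/helper54/FusCSkel.lean.txt`.
-/

set_option autoImplicit false

namespace Cfsg.Agent.Lib.Helper37.Fus

variable {F : Type*} [Field F] {V : Type*} [AddCommGroup V] [Module F V]

theorem nofix_pow_mem (a : V →ₗ[F] V) (W : Submodule F V) (hW : ∀ u ∈ W, a u ∈ W) (i : ℕ) :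
    ∀ u ∈ W, (a ^ i) u ∈ W := by
  induction i with
  | zero => intro u hu; simpa using hu
  | succ k ih =>
    intro u hu
    rw [pow_succ', Module.End.mul_apply]
    exact hW _ (ih u hu)

theorem nofix_pow_isom (B : LinearMap.BilinForm F V) (a : V →ₗ[F] V)
    (ha : ∀ u v, B (a u) (a v) = B u v) (i : ℕ) (u v : V) :
    B ((a ^ i) u) ((a ^ i) v) = B u v := by
  induction i with
  | zero => simp
  | succ k ih =>
    rw [pow_succ', Module.End.mul_apply, Module.End.mul_apply, ha, ih]

theorem nofix_adj_pow (B : LinearMap.BilinForm F V) (a : V →ₗ[F] V)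
    (ha : ∀ u v, B (a u) (a v) = B u v) (n : ℕ) (han : a ^ n = 1) (i : ℕ) (hi : i ≤ n)
    (u v : V) : B ((a ^ i) u) v = B u ((a ^ (n - i)) v) := by
  have h1 : v = (a ^ i) ((a ^ (n - i)) v) := by
    rw [← Module.End.mul_apply, ← pow_add, Nat.add_sub_cancel' hi, han]
    simp
  conv_lhs => rw [h1]
  exact nofix_pow_isom B a ha i u _

theorem nofix_sum_shift (a : V →ₗ[F] V) (n : ℕ) (han : a ^ n = 1) :
    ∑ i ∈ Finset.range n, a ^ (n - i) = ∑ i ∈ Finset.range n, a ^ i := by
  have h1 : ∑ i ∈ Finset.range n, a ^ (n - i) = ∑ i ∈ Finset.range n, a ^ (i + 1) := by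
    rw [← Finset.sum_range_reflect (fun j => a ^ (j + 1)) n]
    apply Finset.sum_congr (Eq.refl _)
    intro j hj
    have := Finset.mem_range.1 hj
    congr 1
    omega
  rw [h1]
  have h2 := Finset.sum_range_succ' (fun i => a ^ i) n
  have h3 := Finset.sum_range_succ (fun i => a ^ i) n
  rw [h2] at h3
  simp only [pow_zero, han] at h3
  exact add_right_cancel h3

theorem nofix_P_adj (B : LinearMap.BilinForm F V) (a : V →ₗ[F] V)
    (ha : ∀ u v, B (a u) (a v) = B u v) (n : ℕ) (han : a ^ n = 1) (u v : V) :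
    B ((∑ i ∈ Finset.range n, a ^ i) u) v = B u ((∑ i ∈ Finset.range n, a ^ i) v) := by
  conv_rhs => rw [← nofix_sum_shift a n han]
  simp only [LinearMap.sum_apply, map_sum]
  apply Finset.sum_congr (Eq.refl _)
  intro i hi
  exact nofix_adj_pow B a ha n han i (le_of_lt (Finset.mem_range.1 hi)) u v

theorem nofix_a_mul_P (a : V →ₗ[F] V) (n : ℕ) (han : a ^ n = 1) :
    a * ∑ i ∈ Finset.range n, a ^ i = ∑ i ∈ Finset.range n, a ^ i := by
  have h := mul_geom_sum a n
  rw [han, sub_self, sub_mul, one_mul, sub_eq_zero] at h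
  exact h

theorem nofix_P_mul_a (a : V →ₗ[F] V) (n : ℕ) (han : a ^ n = 1) :
    (∑ i ∈ Finset.range n, a ^ i) * a = ∑ i ∈ Finset.range n, a ^ i := by
  have h := geom_sum_mul a n
  rw [han, sub_self, mul_sub, mul_one, sub_eq_zero] at h
  exact h

theorem nofix_P_mul_pow (a : V →ₗ[F] V) (n : ℕ) (han : a ^ n = 1) (i : ℕ) :
    (∑ i ∈ Finset.range n, a ^ i) * a ^ i = ∑ i ∈ Finset.range n, a ^ i := by
  induction i with
  | zero => simp
  | succ k ih => rw [pow_succ, ← mul_assoc, ih, nofix_P_mul_a a n han]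

theorem nofix_P_mul_P (a : V →ₗ[F] V) (n : ℕ) (han : a ^ n = 1) :
    (∑ i ∈ Finset.range n, a ^ i) * (∑ i ∈ Finset.range n, a ^ i) =
      n • ∑ i ∈ Finset.range n, a ^ i := by
  conv_lhs => rw [Finset.mul_sum]
  rw [Finset.sum_congr (Eq.refl _) (fun i _ => nofix_P_mul_pow a n han i), Finset.sum_const,
    Finset.card_range]

/-- FUSC-NOFIX -/
theorem nofix_of_block [FiniteDimensional F V] (h2 : (2 : F) ≠ 0) (B : LinearMap.BilinForm F V)
    (hs : ∀ u v, B u v = B v u)
    (a : V →ₗ[F] V) (ha : ∀ u v, B (a u) (a v) = B u v) (n : ℕ) (hodd : Odd n)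
    (hnF : (n : F) ≠ 0) (han : a ^ n = 1)
    (W : Submodule F V) (hW : ∀ u ∈ W, a u ∈ W) (hWnd : NondegOn B W) (hne : ∃ u ∈ W, a u ≠ u)
    (hmin : ∀ U : Submodule F V, U ≤ W → Inv a U → NondegOn B U → (∃ u ∈ U, a u ≠ u) → U = W) :
    ∀ u ∈ W, a u = u → u = 0 := by
  classical
  set P : V →ₗ[F] V := ∑ i ∈ Finset.range n, a ^ i with hP
  have haP : a * P = P := nofix_a_mul_P a n han
  have hPa : P * a = P := nofix_P_mul_a a n han
  have hPP : ∀ u, P (P u) = (n : F) • P u := by
    intro u
    have h := nofix_P_mul_P a n han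
    rw [← hP] at h
    have h' : P (P u) = (P * P) u := by rfl
    rw [h', h, LinearMap.smul_apply, Nat.cast_smul_eq_nsmul]
  have hPW : ∀ u ∈ W, P u ∈ W := by
    intro u hu
    rw [hP, LinearMap.sum_apply]
    exact W.sum_mem (fun i _ => nofix_pow_mem a W hW i u hu)
  have hadj : ∀ u v, B (P u) v = B u (P v) := nofix_P_adj B a ha n han
  have hUinv : Inv a (W ⊓ LinearMap.ker P) := by
    intro u hu
    refine ⟨hW u hu.1, LinearMap.mem_ker.2 ?_⟩
    have h' : P (a u) = (P * a) u := by rfl
    rw [h', hPa]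
    exact LinearMap.mem_ker.1 hu.2
  have hproj : ∀ w ∈ W, w - (n : F)⁻¹ • P w ∈ W ⊓ LinearMap.ker P := by
    intro w hw
    refine ⟨W.sub_mem hw (W.smul_mem _ (hPW w hw)), LinearMap.mem_ker.2 ?_⟩
    rw [map_sub, map_smul, hPP, smul_smul, inv_mul_cancel₀ hnF, one_smul,
      sub_self]
  have hUnd : NondegOn B (W ⊓ LinearMap.ker P) := by
    intro u hu h
    apply hWnd u hu.1
    intro w hw
    have h1 := h _ (hproj w hw)
    rw [map_sub, map_smul, sub_eq_zero] at h1
    rw [h1, ← hadj, LinearMap.mem_ker.1 hu.2]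
    simp
  have hUne : ∃ u ∈ W ⊓ LinearMap.ker P, a u ≠ u := by
    by_contra hcon
    push Not at hcon
    obtain ⟨w, hw, hne'⟩ := hne
    apply hne'
    have h1 := hcon _ (hproj w hw)
    rw [map_sub, map_smul] at h1
    have h2' : a (P w) = P w := by
      have h' : a (P w) = (a * P) w := by rfl
      rw [h', haP]
    rw [h2'] at h1
    exact sub_left_injective h1
  have hUeq : W ⊓ LinearMap.ker P = W := hmin _ inf_le_left hUinv hUnd hUne
  intro u hu hfix
  have hker : P u = 0 := by
    have hu' : u ∈ W ⊓ LinearMap.ker P := by rw [hUeq]; exact hu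
    exact LinearMap.mem_ker.1 hu'.2
  have hpow : ∀ i, (a ^ i) u = u := by
    intro i
    induction i with
    | zero => simp
    | succ k ih => rw [pow_succ', Module.End.mul_apply, ih, hfix]
  have hPu : P u = (n : F) • u := by
    rw [hP, LinearMap.sum_apply, Finset.sum_congr (Eq.refl _) (fun i _ => hpow i),
      Finset.sum_const, Finset.card_range, Nat.cast_smul_eq_nsmul]
  rw [hPu] at hker
  exact (smul_eq_zero.1 hker).resolve_left hnF

theorem mkctx_pow_coe (a : V →ₗ[F] V) (W : Submodule F V) (hW : ∀ u ∈ W, a u ∈ W) (i : ℕ)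
    (x : W) : (((a.restrict hW) ^ i) x : V) = (a ^ i) (x : V) := by
  induction i generalizing x with
  | zero => simp
  | succ k ih =>
    rw [pow_succ', pow_succ', Module.End.mul_apply, Module.End.mul_apply,
      LinearMap.coe_restrict_apply, ih]

/-- FUSC-MKCTX -/
theorem minCtx_of_block [FiniteDimensional F V] (h2 : (2 : F) ≠ 0) (B : LinearMap.BilinForm F V)
    (hs : ∀ u v, B u v = B v u)
    (a : V →ₗ[F] V) (ha : ∀ u v, B (a u) (a v) = B u v) (n : ℕ) (hodd : Odd n)
    (hnF : (n : F) ≠ 0) (han : a ^ n = 1)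
    (W : Submodule F V) (hW : ∀ u ∈ W, a u ∈ W) (hWnd : NondegOn B W) (hne : ∃ u ∈ W, a u ≠ u)
    (hmin : ∀ U : Submodule F V, U ≤ W → Inv a U → NondegOn B U → (∃ u ∈ U, a u ≠ u) → U = W) :
    MinCtx (B.restrict W) (a.restrict hW) ((a.restrict hW) ^ (n - 1)) := by
  classical
  have hnofix := nofix_of_block h2 B hs a ha n hodd hnF han W hW hWnd hne hmin
  have hn1 : n - 1 + 1 = n := Nat.sub_add_cancel hodd.pos
  have hpowW : (a.restrict hW) ^ n = 1 := by
    apply LinearMap.ext
    intro x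
    apply Subtype.ext
    rw [mkctx_pow_coe, han]
    simp
  have hsemi : Module.End.IsSemisimple (a.restrict hW) := by
    apply Module.End.isSemisimple_of_squarefree_aeval_eq_zero
      (Polynomial.separable_X_pow_sub_C (1 : F) hnF one_ne_zero).squarefree
    simp [hpowW]
  refine ⟨h2, fun u v => hs u v, ?_, fun u v => ha u v, ?_, ?_, hsemi, ?_, ?_, ?_, ?_⟩
  · -- hnd
    intro u h
    exact Subtype.ext (hWnd u u.2 (fun v hv => h ⟨v, hv⟩))
  · -- haa'
    rw [← pow_succ', hn1, hpowW]
  · -- ha'a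
    rw [← pow_succ, hn1, hpowW]
  · -- hsemi'
    intro g
    have h1 : a.restrict hW + (a.restrict hW) ^ (n - 1) =
        Polynomial.aeval (a.restrict hW) (Polynomial.X + Polynomial.X ^ (n - 1) : Polynomial F) := by
      simp
    rw [h1, ← Polynomial.aeval_comp]
    exact Module.End.IsSemisimple.aeval hsemi _
  · -- hfix2
    intro v hv
    have hv' : a (a (v : V)) = (v : V) := by
      have := congrArg Subtype.val hv
      simpa [LinearMap.coe_restrict_apply] using this
    obtain ⟨k, hk⟩ := hodd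
    -- a v = a^(n+1) v = (a^2)^(k+1) v = v
    have hsq : ∀ j, ((a ^ 2) ^ j) (v : V) = (v : V) := by
      intro j
      induction j with
      | zero => simp
      | succ m ih =>
        rw [pow_succ', Module.End.mul_apply, ih, pow_two, Module.End.mul_apply, hv']
    have hfix : a (v : V) = (v : V) := by
      have h3 : a (v : V) = (a ^ (n + 1)) (v : V) := by
        rw [pow_succ', Module.End.mul_apply, han]
        simp
      rw [h3]
      have h4 : n + 1 = 2 * (k + 1) := by omega
      rw [h4, pow_mul]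
      exact hsq (k + 1)
    exact Subtype.ext (hnofix v v.2 hfix)
  · -- hne
    obtain ⟨u, hu, hau⟩ := hne
    refine ⟨⟨u, hu⟩, ?_⟩
    intro h0
    apply hau
    have : u = 0 := congrArg Subtype.val h0
    rw [this]
    simp
  · -- hmin
    intro U' hU'inv hU'nd
    by_cases hfixU : ∃ u ∈ U'.map W.subtype, a u ≠ u
    · right
      have hle : U'.map W.subtype ≤ W := by
        rintro x ⟨y, _, rfl⟩
        exact y.2
      have hinv : Inv a (U'.map W.subtype) := by
        rintro x ⟨y, hy, rfl⟩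
        exact ⟨(a.restrict hW) y, hU'inv y hy, by rfl⟩
      have hnd : NondegOn B (U'.map W.subtype) := by
        rintro x ⟨y, hy, rfl⟩ h
        have : y = 0 := by
          apply hU'nd y hy
          intro z hz
          exact h _ ⟨z, hz, by rfl⟩
        rw [this]
        simp
      have heq := hmin _ hle hinv hnd hfixU
      rw [eq_top_iff]
      intro x _
      have hx : (x : V) ∈ U'.map W.subtype := by rw [heq]; exact x.2
      obtain ⟨y, hy, hyx⟩ := hx
      have : y = x := Subtype.ext hyx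
      rw [← this]
      exact hy
    · left
      push Not at hfixU
      rw [eq_bot_iff]
      intro x hx
      have h1 : a (x : V) = (x : V) := hfixU _ ⟨x, hx, by rfl⟩
      have h0 : (x : V) = 0 := hnofix _ x.2 h1
      rw [Submodule.mem_bot]
      exact Subtype.ext h0

end Cfsg.Agent.Lib.Helper37.Fus
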