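import Cfsg.Agent.Lib.Helper66.TpDefs
import Cfsg.Agent.S0071

set_option autoImplicit false

namespace Cfsg.Agent.Lib.Helper66.Tp

variable {p : ℕ} {G : Type*} [Group G] [Finite G]

theorem tpsyl_card_sylow (c : Ctx p G) (P : Sylow 2 G) : Nat.card (P : Subgroup G) = p + 1 := by
  have : Fact (Nat.Prime 2) := ⟨Nat.prime_two⟩
  rw [P.card_eq_multiplicity, c.two_part]

theorem tpsyl_card_ne (c : Ctx p G) : Nat.card G ≠ p + 1 := by
  intro h
  have h1 : p ∣ p + 1 := h ▸ c.pdvd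
  have h2 : p ∣ 1 := (Nat.dvd_add_right (dvd_refl p)).1 h1
  have := c.hp.one_lt
  have := Nat.le_of_dvd one_pos h2
  omega

/-- a "bad pair" exists: Frobenius' criterion fails for the prime 2. -/
theorem tpsyl_exists_bad (c : Ctx p G) (P : Sylow 2 G) :
    ∃ Q₀ : Subgroup G, Q₀ ≤ (P : Subgroup G) ∧ ∃ g ∈ Subgroup.normalizer (Q₀ : Set G),
      Nat.Coprime (orderOf g) 2 ∧ g ∉ Subgroup.centralizer (Q₀ : Set G) := by
  have : Fact (Nat.Prime 2) := ⟨Nat.prime_two⟩
  by_contra hno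
  push Not at hno
  have hall : ∀ Q : Subgroup G, Q ≤ (P : Subgroup G) → ∀ g ∈ Subgroup.normalizer (Q : Set G),
      Nat.Coprime (orderOf g) 2 → g ∈ Subgroup.centralizer (Q : Set G) :=
    fun Q hQ g hg hco => hno Q hQ g hg hco
  obtain ⟨N, hNn, hNc⟩ := (Cfsg.Agent.S0071.result P).2 hall
  have hcard := hNc.card_mul_card
  rw [tpsyl_card_sylow c P] at hcard
  have := c.simple
  rcases hNn.eq_bot_or_eq_top with h | h
  · subst h
    rw [Subgroup.card_bot, one_mul] at hcard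
    exact tpsyl_card_ne c hcard.symm
  · subst h
    rw [Subgroup.card_top] at hcard
    have hpos : 0 < Nat.card G := Nat.card_pos
    have : p + 1 = 1 := by
      have h2 : Nat.card G * (p + 1) = Nat.card G * 1 := by rw [hcard, mul_one]
      exact Nat.eq_of_mul_eq_mul_left hpos h2
    have := c.hp.pos
    omega


/-- the order of the odd element of a bad pair is a power of `p`, and `Q₀ ≠ ⊥`. -/
theorem tpsyl_order (c : Ctx p G) (P : Sylow 2 G) (Q₀ : Subgroup G) (hQ₀ : Q₀ ≤ (P : Subgroup G))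
    (g : G) (hg : g ∈ Subgroup.normalizer (Q₀ : Set G)) (hco : Nat.Coprime (orderOf g) 2)
    (hgc : g ∉ Subgroup.centralizer (Q₀ : Set G)) : ∃ k : ℕ, orderOf g = p ^ k := by
  have hQne : Q₀ ≠ ⊥ := by
    rintro rfl
    apply hgc
    rw [Subgroup.mem_centralizer_iff]
    intro h hh
    have : h = 1 := by simpa using hh
    rw [this, one_mul, mul_one]
  have hPcard := tpsyl_card_sylow c P
  have hNtop : Subgroup.normalizer (Q₀ : Set G) ≠ ⊤ := by
    intro htop
    have hn : Q₀.Normal := Subgroup.normalizer_eq_top_iff.1 htop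
    have := c.simple
    rcases hn.eq_bot_or_eq_top with h | h
    · exact hQne h
    · have hP : (P : Subgroup G) = ⊤ := top_le_iff.1 (h ▸ hQ₀)
      have : Nat.card G = p + 1 := by rw [← hPcard, hP, Subgroup.card_top]
      exact tpsyl_card_ne c this
  have h2Q : 2 ∣ Nat.card Q₀ := by
    have hpg : IsPGroup 2 Q₀ := P.2.to_le hQ₀
    obtain ⟨m, hm⟩ := hpg.exists_card_eq
    have hm0 : m ≠ 0 := by
      rintro rfl
      rw [pow_zero] at hm
      exact hQne (Subgroup.card_eq_one.1 hm)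
    rw [hm]
    exact dvd_pow_self 2 hm0
  have h2N : 2 ∣ Nat.card (Subgroup.normalizer (Q₀ : Set G)) :=
    h2Q.trans (Subgroup.card_dvd_of_le Subgroup.le_normalizer)
  have hstar := c.star _ hNtop h2N
  have hdvd : orderOf g ∣ Nat.card (Subgroup.normalizer (Q₀ : Set G)) :=
    Subgroup.orderOf_dvd_natCard _ hg
  refine ⟨_, Nat.eq_prime_pow_of_unique_prime_dvd (p := p) (orderOf_pos g).ne' ?_⟩
  intro d hd hdg
  rcases hstar d hd (hdg.trans hdvd) with h | h
  · subst h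
    exact absurd (Nat.Coprime.eq_one_of_dvd hco.symm hdg) (by norm_num)
  · exact h

theorem tpsyl_main (c : Ctx p G) (P : Sylow 2 G) (Q₀ : Subgroup G) (hQ₀ : Q₀ ≤ (P : Subgroup G))
    (g : G) (hg : g ∈ Subgroup.normalizer (Q₀ : Set G)) (hgp : ∃ k : ℕ, orderOf g = p ^ k)
    (hgc : g ∉ Subgroup.centralizer (Q₀ : Set G)) :
    Q₀ = (P : Subgroup G) ∧ ∀ u ∈ (P : Subgroup G), ∀ v ∈ (P : Subgroup G), u ≠ 1 → v ≠ 1 →
      ∃ k : ℕ, g ^ k * u * (g ^ k)⁻¹ = v := by
  classical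
  have hp := c.hp
  have : Fact p.Prime := ⟨hp⟩
  haveI : Finite (ConjAct G) := inferInstanceAs (Finite G)
  obtain ⟨u, hu, hne⟩ : ∃ u ∈ Q₀, g * u * g⁻¹ ≠ u := by
    by_contra hcon
    push Not at hcon
    apply hgc
    rw [Subgroup.mem_centralizer_iff]
    intro h hh
    have := hcon h hh
    calc h * g = (g * h * g⁻¹) * g := by rw [this]
      _ = g * h := by group
  have hu1 : u ≠ 1 := by
    rintro rfl
    apply hne; group
  set a : ConjAct G := ConjAct.toConjAct g with ha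
  set Z : Subgroup (ConjAct G) := Subgroup.zpowers a with hZ
  have hZp : IsPGroup p Z := by
    obtain ⟨k, hk⟩ := hgp
    apply IsPGroup.of_card (n := k)
    rw [Nat.card_zpowers, ← hk]
    exact (ConjAct.toConjAct (G := G)).orderOf_eq g
  have hsm : ∀ z : Z, ∃ n : ℕ, ∀ w : G, z • w = g ^ n * w * (g ^ n)⁻¹ := by
    intro z
    have hz : (z : ConjAct G) ∈ Submonoid.powers a := (mem_powers_iff_mem_zpowers).2 z.2
    obtain ⟨n, hn⟩ := hz
    have hn' : a ^ n = (z : ConjAct G) := hn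
    refine ⟨n, fun w => ?_⟩
    rw [Subgroup.smul_def, ← hn', ha, ← map_pow, ConjAct.toConjAct_smul]
  have hpowN : ∀ n : ℕ, g ^ n ∈ Subgroup.normalizer (Q₀ : Set G) := fun n => pow_mem hg n
  set O : Set G := MulAction.orbit Z u with hO
  have hOsub : O ⊆ (Q₀ : Set G) \ {1} := by
    rintro w ⟨z, rfl⟩
    obtain ⟨n, hn⟩ := hsm z
    show z • u ∈ _
    rw [hn u]
    refine ⟨(Subgroup.mem_normalizer_iff.1 (hpowN n) u).1 hu, ?_⟩
    intro h1
    apply hu1
    have : u = (g^n)⁻¹ * (g ^ n * u * (g ^ n)⁻¹) * g^n := by group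
    rw [this, Set.mem_singleton_iff.1 h1]; group
  obtain ⟨j, hj⟩ := hZp.card_orbit u
  have huO : u ∈ O := MulAction.mem_orbit_self u
  have hguO : g * u * g⁻¹ ∈ O := by
    refine ⟨⟨a, Subgroup.mem_zpowers a⟩, ?_⟩
    show (⟨a, Subgroup.mem_zpowers a⟩ : Z) • u = _
    rw [Subgroup.smul_def]
    exact ConjAct.toConjAct_smul g u
  have hj0 : j ≠ 0 := by
    rintro rfl
    rw [pow_zero] at hj
    obtain ⟨hsub, -⟩ := Nat.card_eq_one_iff_unique.1 hj
    have := @Subsingleton.elim _ hsub (⟨u, huO⟩ : MulAction.orbit Z u) ⟨g * u * g⁻¹, hguO⟩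
    exact hne (Subtype.ext_iff.1 this).symm
  have hpO : p ≤ Nat.card O := by
    have hd : p ∣ Nat.card O := by
      rw [hO, hj]; exact dvd_pow_self p hj0
    have hpos : 0 < Nat.card O := by rw [hO, hj]; exact pow_pos hp.pos j
    exact Nat.le_of_dvd hpos hd
  have hfin : ((Q₀ : Set G) \ {1}).Finite := Set.toFinite _
  have hOle : Nat.card O ≤ Nat.card Q₀ - 1 := by
    rw [Nat.card_coe_set_eq]
    have h1 := Set.ncard_le_ncard hOsub hfin
    have h2 : ((Q₀ : Set G) \ {1}).ncard = (Q₀ : Set G).ncard - 1 :=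
      Set.ncard_sdiff_singleton_of_mem Q₀.one_mem
    have h3 : (Q₀ : Set G).ncard = Nat.card Q₀ := (Nat.card_coe_set_eq _).symm
    omega
  have hQP : Nat.card Q₀ ≤ Nat.card (P : Subgroup G) := Subgroup.card_le_of_le hQ₀
  have hPc := tpsyl_card_sylow c P
  have hppos := hp.pos
  have hQc : Nat.card Q₀ = p + 1 := by omega
  have hOc : Nat.card O = p := by omega
  have hQeq : Q₀ = (P : Subgroup G) := Subgroup.eq_of_le_of_card_ge hQ₀ (by omega)
  have hOeq : O = (Q₀ : Set G) \ {1} := by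
    apply Set.eq_of_subset_of_ncard_le hOsub _ hfin
    have h2 : ((Q₀ : Set G) \ {1}).ncard = (Q₀ : Set G).ncard - 1 :=
      Set.ncard_sdiff_singleton_of_mem Q₀.one_mem
    have h3 : (Q₀ : Set G).ncard = Nat.card Q₀ := (Nat.card_coe_set_eq _).symm
    rw [← Nat.card_coe_set_eq O]
    omega
  refine ⟨hQeq, ?_⟩
  intro u' hu' v' hv' hu'1 hv'1
  rw [← hQeq] at hu' hv'
  have hu'O : u' ∈ O := by rw [hOeq]; exact ⟨hu', hu'1⟩
  have hv'O : v' ∈ O := by rw [hOeq]; exact ⟨hv', hv'1⟩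
  obtain ⟨z₁, hz₁⟩ := hu'O
  obtain ⟨z₂, hz₂⟩ := hv'O
  obtain ⟨n, hn⟩ := hsm (z₂ * z₁⁻¹)
  refine ⟨n, ?_⟩
  rw [← hn u']
  have e1 : z₁ • u = u' := hz₁
  have e2 : z₂ • u = v' := hz₂
  rw [← e1, ← e2, smul_smul, inv_mul_cancel_right]


/-- **TP-SYL** -/
theorem exists_setup (c : Ctx p G) : Nonempty (Setup p G) := by
  have h2 : Fact (Nat.Prime 2) := ⟨Nat.prime_two⟩
  obtain ⟨P⟩ : Nonempty (Sylow 2 G) := inferInstance
  obtain ⟨Q₀, hQ₀, g, hg, hco, hgc⟩ := tpsyl_exists_bad c P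
  have hgp := tpsyl_order c P Q₀ hQ₀ g hg hco hgc
  obtain ⟨hQeq, htr⟩ := tpsyl_main c P Q₀ hQ₀ g hg hgp hgc
  have hPc := tpsyl_card_sylow c P
  -- an involution in P
  have hpodd : ¬ 2 ∣ p := by
    intro h
    rcases (Nat.dvd_prime c.hp).1 h with h | h
    · omega
    · exact c.hp2 h.symm
  have h2P : 2 ∣ Nat.card (P : Subgroup G) := by rw [hPc]; omega
  obtain ⟨t, ht⟩ := exists_prime_orderOf_dvd_card' 2 h2P
  have ht1 : (t : G) ≠ 1 := by
    intro h
    have : t = 1 := Subtype.ext h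
    rw [this, orderOf_one] at ht
    omega
  have htt : (t : G) * t = 1 := by
    have : t ^ 2 = 1 := by
      have h0 := pow_orderOf_eq_one t
      rwa [ht] at h0
    have h' : ((t ^ 2 : (P : Subgroup G)) : G) = 1 := by rw [this]; rfl
    rw [← pow_two]
    exact_mod_cast h'
  refine ⟨{ ctx := c, Q := P, x := g, hxN := hQeq ▸ hg, hxp := hgp, hexp := ?_, htrans := htr }⟩
  intro u hu
  by_cases hu1 : u = 1
  · rw [hu1, mul_one]
  · obtain ⟨k, hk⟩ := htr t t.2 u hu ht1 hu1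
    rw [← hk]
    calc g ^ k * ↑t * (g ^ k)⁻¹ * (g ^ k * ↑t * (g ^ k)⁻¹)
        = g ^ k * (↑t * ↑t) * (g ^ k)⁻¹ := by group
      _ = 1 := by rw [htt]; group

end Cfsg.Agent.Lib.Helper66.Tp
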