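import Mathlib

set_option autoImplicit false

/-!
General lemmas on derangements in finite permutation groups, for S3501.
-/

namespace Cfsg.Agent.Lib.Helper73.DerOne

open MulAction

/-- Jordan: a finite group acting transitively on at least two points contains a derangement. -/
theorem exists_derangement {K X : Type*} [Group K] [Finite K] [Fintype X] [MulAction K X]
    [IsPretransitive K X] (hX : 2 ≤ Fintype.card X) : ∃ k : K, ∀ x : X, k • x ≠ x := by
  classical
  have := Fintype.ofFinite K
  have hne : Nonempty X := by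
    rw [← Fintype.card_pos_iff]; omega
  by_contra hcon
  push Not at hcon
  have : Fintype (Quotient (orbitRel K X)) := Fintype.ofFinite _
  have h := sum_card_fixedBy_eq_card_orbits_mul_card_group K X
  have h1 : Fintype.card (Quotient (orbitRel K X)) = 1 := by
    rw [Fintype.card_eq_one_iff_nonempty_unique]
    exact (pretransitive_iff_unique_quotient_of_nonempty K X).1 inferInstance
  rw [h1, one_mul] at h
  have h2 : ∑ _g : K, 1 < ∑ g : K, Fintype.card (fixedBy X g) := by
    apply Finset.sum_lt_sum
    · intro g _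
      obtain ⟨x, hx⟩ := hcon g
      exact Fintype.card_pos_iff.mpr ⟨⟨x, hx⟩⟩
    · refine ⟨1, Finset.mem_univ _, ?_⟩
      have : Fintype.card (fixedBy X (1 : K)) = Fintype.card X := by
        apply Fintype.card_congr
        exact ⟨fun x => x.1, fun x => ⟨x, by simp⟩, fun x => rfl, fun x => rfl⟩
      omega
  rw [h] at h2
  simp at h2

/-- Jordan's lemma for an invariant equivalence relation with at least two classes. -/
theorem exists_moving_all_classes {K X : Type*} [Group K] [Finite K] [Fintype X] [MulAction K X]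
    [IsPretransitive K X] (r : Setoid X) (hinv : ∀ (k : K) (a b : X), r a b → r (k • a) (k • b))
    (hne : ∃ a b : X, ¬ r a b) : ∃ k : K, ∀ x : X, ¬ r (k • x) x := by
  classical
  let _ : MulAction K (Quotient r) :=
    { smul := fun k q => Quotient.map (fun x => k • x) (fun a b hab => hinv k a b hab) q
      one_smul := by
        intro q
        induction q using Quotient.inductionOn with
        | _ a =>
          change Quotient.map _ _ _ = _
          rw [Quotient.map_mk, one_smul]
      mul_smul := by
        intro k l q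
        induction q using Quotient.inductionOn with
        | _ a =>
          change Quotient.map _ _ _ = Quotient.map _ _ (Quotient.map _ _ _)
          rw [Quotient.map_mk, Quotient.map_mk, Quotient.map_mk, mul_smul] }
  have hsm : ∀ (k : K) (a : X), k • (Quotient.mk r a) = Quotient.mk r (k • a) := fun k a => rfl
  have : IsPretransitive K (Quotient r) := by
    refine ⟨fun p q => ?_⟩
    induction p using Quotient.inductionOn with
    | _ a =>
      induction q using Quotient.inductionOn with
      | _ b =>
        obtain ⟨k, hk⟩ := exists_smul_eq K a b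
        exact ⟨k, by rw [hsm, hk]⟩
  have : Fintype (Quotient r) := Fintype.ofFinite _
  have hcard : 2 ≤ Fintype.card (Quotient r) := by
    obtain ⟨a, b, hab⟩ := hne
    have : 1 < Fintype.card (Quotient r) := by
      rw [Fintype.one_lt_card_iff]
      exact ⟨Quotient.mk r a, Quotient.mk r b, fun h => hab (Quotient.exact h)⟩
    omega
  obtain ⟨k, hk⟩ := exists_derangement (K := K) (X := Quotient r) hcard
  refine ⟨k, fun x hx => hk (Quotient.mk r x) ?_⟩
  rw [hsm]
  exact Quotient.sound hx

section Faithful

variable {G : Type*} [Group G] {Ω : Type*} [MulAction G Ω] [FaithfulSMul G Ω]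

/-- An element centralizing a transitive subgroup and fixing a point is trivial. -/
theorem eq_one_of_commute_transitive (K : Subgroup G) (hK : ∀ a b : Ω, ∃ k ∈ K, k • a = b)
    (c : G) (hc : ∀ k ∈ K, k * c = c * k) (a : Ω) (ha : c • a = a) : c = 1 := by
  apply FaithfulSMul.eq_of_smul_eq_smul (α := Ω)
  intro b
  obtain ⟨k, hk, rfl⟩ := hK a b
  rw [one_smul, ← mul_smul, ← hc k hk, mul_smul, ha]

end Faithful

section LemmaP

variable {G : Type*} [Group G] [Finite G]

/-- If all nonidentity elements of a nontrivial subgroup `K` are pairwise conjugate in `G`, then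
`K` has a nontrivial central element. -/
theorem exists_central_of_all_conj (K : Subgroup G) (hK : K ≠ ⊥)
    (hconj : ∀ x ∈ K, ∀ y ∈ K, x ≠ 1 → y ≠ 1 → IsConj x y) :
    ∃ z ∈ K, z ≠ 1 ∧ ∀ k ∈ K, k * z = z * k := by
  obtain ⟨k₀, hk₀1⟩ := (Subgroup.ne_bot_iff_exists_ne_one.mp hK)
  have hord : ∀ x y : G, IsConj x y → orderOf x = orderOf y := by
    intro x y hxy
    obtain ⟨c, rfl⟩ := isConj_iff.mp hxy
    have := orderOf_injective (MulAut.conj c).toMonoidHom (MulAut.conj c).injective x
    simpa using this.symm
  set r := orderOf (k₀ : G) with hr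
  have hr0 : r ≠ 0 := (orderOf_pos (k₀ : G)).ne'
  have hr1 : r ≠ 1 := by
    intro h
    apply hk₀1
    have := orderOf_eq_one_iff.mp h
    exact Subtype.ext this
  obtain ⟨p, hp, hpr⟩ := Nat.exists_prime_and_dvd hr1
  have hy : orderOf ((k₀ : G) ^ (r / p)) = p := orderOf_pow_orderOf_div hr0 hpr
  have hy1 : (k₀ : G) ^ (r / p) ≠ 1 := by
    intro h
    rw [h, orderOf_one] at hy
    exact hp.one_lt.ne' hy.symm
  have hk₀1' : (k₀ : G) ≠ 1 := fun h => hk₀1 (Subtype.ext h)
  have hrp : r = p := by
    have := hord _ _ (hconj _ (K.pow_mem k₀.2 (r / p)) _ k₀.2 hy1 hk₀1')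
    rw [hy] at this
    exact this.symm
  have : Fact p.Prime := ⟨hp⟩
  have hPG : IsPGroup p K := by
    intro g
    by_cases hg : g = 1
    · exact ⟨0, by rw [hg]; simp⟩
    · refine ⟨1, ?_⟩
      have hg' : (g : G) ≠ 1 := fun h => hg (Subtype.ext h)
      have h1 : orderOf (g : G) = p := by
        rw [hord _ _ (hconj _ g.2 _ k₀.2 hg' hk₀1'), ← hr, hrp]
      apply Subtype.ext
      rw [pow_one, Subgroup.coe_pow, Subgroup.coe_one, ← h1]
      exact pow_orderOf_eq_one _
  have : Nontrivial K := ⟨⟨k₀, 1, hk₀1⟩⟩
  have hnt : Nontrivial (Subgroup.center K) := hPG.center_nontrivial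
  obtain ⟨⟨z, hz⟩, hz1⟩ := exists_ne (1 : Subgroup.center K)
  refine ⟨z, z.2, ?_, ?_⟩
  · intro h
    apply hz1
    apply Subtype.ext
    apply Subtype.ext
    exact h
  · intro k hk
    have := (Subgroup.mem_center_iff.mp hz) ⟨k, hk⟩
    exact congrArg Subtype.val this

end LemmaP

section Converse

theorem burnside_transitive {K X : Type*} [Group K] [Fintype K] [MulAction K X]
    [IsPretransitive K X] [Nonempty X] [∀ g : K, Fintype (fixedBy X g)] :
    ∑ g : K, Fintype.card (fixedBy X g) = Fintype.card K := by
  classical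
  have : Finite (Quotient (orbitRel K X)) := by
    have := (pretransitive_iff_unique_quotient_of_nonempty K X).1 inferInstance
    obtain ⟨u⟩ := this
    exact Finite.of_subsingleton
  have : Fintype (Quotient (orbitRel K X)) := Fintype.ofFinite _
  have h := sum_card_fixedBy_eq_card_orbits_mul_card_group K X
  have h1 : Fintype.card (Quotient (orbitRel K X)) = 1 := by
    rw [Fintype.card_eq_one_iff_nonempty_unique]
    exact (pretransitive_iff_unique_quotient_of_nonempty K X).1 inferInstance
  rw [h1, one_mul] at h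
  exact h

variable {G : Type*} [Group G] [Finite G] {Ω : Type*} [Fintype Ω] [MulAction G Ω]

/-- In a finite sharply 2-transitive group any two derangements are conjugate. -/
theorem sharply_two_conj (hΩ : 2 ≤ Fintype.card Ω)
    (h2 : ∀ {a b c d : Ω}, a ≠ b → c ≠ d → ∃ g : G, g • a = c ∧ g • b = d)
    (hsharp : ∀ g : G, g ≠ 1 → ∀ a b : Ω, a ≠ b → g • a = a → g • b ≠ b)
    (x y : G) (hx : ∀ ω : Ω, x • ω ≠ ω) (hy : ∀ ω : Ω, y • ω ≠ ω) : IsConj x y := by
  classical
  have := Fintype.ofFinite G
  set n := Fintype.card Ω with hn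
  have hne : Nonempty Ω := by
    rw [← Fintype.card_pos_iff]; omega
  obtain ⟨a⟩ := hne
  obtain ⟨b, hba⟩ := Fintype.exists_ne_of_one_lt_card (by omega : 1 < Fintype.card Ω) a
  have htr : IsPretransitive G Ω := by
    refine ⟨fun u v => ?_⟩
    obtain ⟨u', hu'⟩ := Fintype.exists_ne_of_one_lt_card (by omega : 1 < Fintype.card Ω) u
    obtain ⟨v', hv'⟩ := Fintype.exists_ne_of_one_lt_card (by omega : 1 < Fintype.card Ω) v
    obtain ⟨g, hg, _⟩ := h2 hu'.symm hv'.symm
    exact ⟨g, hg⟩
  have : Nonempty Ω := ⟨a⟩
  set D : Finset G := Finset.univ.filter (fun g : G => ∀ ω : Ω, g • ω ≠ ω) with hD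
  -- count of derangements
  have hB := burnside_transitive (K := G) (X := Ω)
  have hterm : ∀ g : G, Fintype.card (fixedBy Ω g) + (if g ∈ D then 1 else 0)
      = 1 + (if g = 1 then n - 1 else 0) := by
    intro g
    by_cases hg1 : g = 1
    · subst hg1
      have h1D : (1 : G) ∉ D := by
        intro h
        exact (Finset.mem_filter.mp h).2 a (one_smul _ _)
      have : Fintype.card (fixedBy Ω (1 : G)) = n := by
        apply Fintype.card_congr
        exact ⟨fun x => x.1, fun x => ⟨x, by simp⟩, fun x => rfl, fun x => rfl⟩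
      rw [if_neg h1D, if_pos rfl, this]
      omega
    · rw [if_neg hg1]
      by_cases hgD : g ∈ D
      · rw [if_pos hgD]
        have : IsEmpty (fixedBy Ω g) := ⟨fun ω => (Finset.mem_filter.mp hgD).2 ω.1 ω.2⟩
        rw [Fintype.card_eq_zero]
      · rw [if_neg hgD]
        have : ∃ ω : Ω, g • ω = ω := by
          by_contra hcon
          push Not at hcon
          exact hgD (Finset.mem_filter.mpr ⟨Finset.mem_univ _, hcon⟩)
        obtain ⟨ω, hω⟩ := this
        have : Fintype.card (fixedBy Ω g) = 1 := by
          rw [Fintype.card_eq_one_iff]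
          refine ⟨⟨ω, hω⟩, fun ω' => ?_⟩
          apply Subtype.ext
          by_contra hne
          exact hsharp g hg1 ω ω'.1 (fun h => hne h.symm) hω ω'.2
        rw [this]
  have hDcard : D.card + 1 = n := by
    have hsum : ∑ g : G, (Fintype.card (fixedBy Ω g) + (if g ∈ D then 1 else 0))
        = ∑ g : G, (1 + (if g = 1 then n - 1 else 0)) :=
      Finset.sum_congr rfl (fun g _ => hterm g)
    rw [Finset.sum_add_distrib, Finset.sum_add_distrib, hB] at hsum
    simp only [Finset.sum_ite_mem, Finset.univ_inter, Finset.sum_const, smul_eq_mul, mul_one,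
      Finset.sum_ite_eq', Finset.mem_univ, if_true, Finset.card_univ] at hsum
    omega
  -- lower bound for the order
  have hGcard : n * n - n ≤ Fintype.card G := by
    have hsub : (Finset.univ : Finset Ω).offDiag ⊆
        (Finset.univ : Finset G).image (fun g => (g • a, g • b)) := by
      intro pq hpq
      rw [Finset.mem_offDiag] at hpq
      obtain ⟨g, hg1, hg2⟩ := h2 hba.symm hpq.2.2
      rw [Finset.mem_image]
      exact ⟨g, Finset.mem_univ _, by rw [hg1, hg2]⟩
    have h1 := Finset.card_le_card hsub
    rw [Finset.offDiag_card, Finset.card_univ] at h1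
    exact h1.trans (Finset.card_image_le.trans (by rw [Finset.card_univ]))
  -- the conjugation map
  have hfib : ∀ z ∈ (Finset.univ : Finset G).image (fun g => g * x * g⁻¹),
      ((Finset.univ : Finset G).filter (fun g => g * x * g⁻¹ = z)).card ≤ n := by
    intro z _
    rw [hn, ← Finset.card_univ]
    apply Finset.card_le_card_of_injOn (fun g => g • a) (fun g _ => Finset.mem_coe.mpr (Finset.mem_univ _))
    intro g hg g' hg' hgg
    have hg := (Finset.mem_filter.mp (Finset.mem_coe.mp hg)).2
    have hg' := (Finset.mem_filter.mp (Finset.mem_coe.mp hg')).2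
    simp only at hgg
    by_contra hne
    have hc1 : g'⁻¹ * g ≠ 1 := by
      intro h
      apply hne
      have : g = g' * (g'⁻¹ * g) := by group
      rw [this, h, mul_one]
    have hca : (g'⁻¹ * g) • a = a := by
      rw [mul_smul, hgg, inv_smul_smul]
    have hcomm : (g'⁻¹ * g) * x = x * (g'⁻¹ * g) := by
      have h1 : g * x = g' * x * g'⁻¹ * g := by
        have : g * x = (g * x * g⁻¹) * g := by group
        rw [this, hg, ← hg']
      calc (g'⁻¹ * g) * x = g'⁻¹ * (g * x) := by group
        _ = g'⁻¹ * (g' * x * g'⁻¹ * g) := by rw [h1]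
        _ = x * (g'⁻¹ * g) := by group
    have hcxa : (g'⁻¹ * g) • (x • a) = x • a := by
      rw [← mul_smul, hcomm, mul_smul, hca]
    exact hsharp _ hc1 a (x • a) (fun h => hx a h.symm) hca hcxa
  have h3 := Finset.card_le_mul_card_image (f := fun g : G => g * x * g⁻¹) Finset.univ n hfib
  rw [Finset.card_univ] at h3
  have himD : (Finset.univ : Finset G).image (fun g => g * x * g⁻¹) ⊆ D := by
    intro z hz
    obtain ⟨g, _, rfl⟩ := Finset.mem_image.mp hz
    refine Finset.mem_filter.mpr ⟨Finset.mem_univ _, fun ω hω => hx (g⁻¹ • ω) ?_⟩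
    have h1 : g⁻¹ • (g * x * g⁻¹) • ω = g⁻¹ • ω := by rw [hω]
    have h2' : g⁻¹ * (g * x * g⁻¹) = x * g⁻¹ := by group
    rw [← mul_smul, h2', mul_smul] at h1
    exact h1
  have hle : D.card ≤ ((Finset.univ : Finset G).image (fun g => g * x * g⁻¹)).card := by
    have h4 : n * (n - 1) ≤ n * ((Finset.univ : Finset G).image (fun g => g * x * g⁻¹)).card := by
      have : n * (n - 1) = n * n - n := by
        rw [Nat.mul_sub, mul_one]
      rw [this]
      exact hGcard.trans h3
    have h5 := Nat.le_of_mul_le_mul_left h4 (by omega)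
    omega
  have heq := Finset.eq_of_subset_of_card_le himD hle
  have hyD : y ∈ D := Finset.mem_filter.mpr ⟨Finset.mem_univ _, hy⟩
  rw [← heq] at hyD
  obtain ⟨g, _, hg⟩ := Finset.mem_image.mp hyD
  exact isConj_iff.mpr ⟨g, hg⟩

end Converse

end Cfsg.Agent.Lib.Helper73.DerOne
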