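import Mathlib
import Cfsg.Agent.Lib.Helper73.DerOne

set_option autoImplicit false

/-!
Primitive groups whose derangements form one class: the abelian minimal normal subgroup case.
-/

namespace Cfsg.Agent.Lib.Helper73.DerOne

open MulAction

/-- Working hypotheses: quasi-primitive faithful action, all derangements conjugate. -/
structure Hyp (G : Type*) [Group G] (Ω : Type*) [Fintype Ω] [MulAction G Ω] : Prop where
  card : 2 ≤ Fintype.card Ω
  trans : ∀ N : Subgroup G, N.Normal → N ≠ ⊥ → ∀ a b : Ω, ∃ n ∈ N, n • a = b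
  conj : ∀ x y : G, (∀ ω : Ω, x • ω ≠ ω) → (∀ ω : Ω, y • ω ≠ ω) → IsConj x y

section

variable {G : Type*} [Group G] [Finite G] {Ω : Type*} [Fintype Ω] [MulAction G Ω]

theorem Hyp.der_mem (H : Hyp G Ω) (N : Subgroup G) (hN : N.Normal) (hN1 : N ≠ ⊥)
    (x : G) (hx : ∀ ω : Ω, x • ω ≠ ω) : x ∈ N := by
  have : IsPretransitive N Ω := by
    refine ⟨fun a b => ?_⟩
    obtain ⟨n, hn, h⟩ := H.trans N hN hN1 a b
    exact ⟨⟨n, hn⟩, h⟩
  obtain ⟨k, hk⟩ := exists_derangement (K := N) (X := Ω) H.card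
  have hk' : ∀ ω : Ω, (k : G) • ω ≠ ω := fun ω => hk ω
  obtain ⟨c, rfl⟩ := isConj_iff.mp (H.conj _ _ hk' hx)
  exact hN.conj_mem _ k.2 c

variable [FaithfulSMul G Ω]

theorem Hyp.abelian_case (H : Hyp G Ω) (N : Subgroup G) (hN : N.Normal) (hN1 : N ≠ ⊥)
    (hab : ∀ x ∈ N, ∀ y ∈ N, x * y = y * x) :
    (∀ {a b c d : Ω}, a ≠ b → c ≠ d → ∃ g : G, g • a = c ∧ g • b = d) ∧
    (∀ g : G, g ≠ 1 → ∀ a b : Ω, a ≠ b → g • a = a → g • b ≠ b) := by
  have htr := H.trans N hN hN1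
  -- regularity
  have hreg : ∀ n ∈ N, ∀ a : Ω, n • a = a → n = 1 := by
    intro n hn a ha
    exact eq_one_of_commute_transitive N htr n (fun k hk => hab k hk n hn) a ha
  have hder : ∀ n ∈ N, n ≠ 1 → ∀ ω : Ω, n • ω ≠ ω := fun n hn hn1 ω h => hn1 (hreg n hn ω h)
  -- stabilizer transitive on the other points
  have hstar : ∀ a b b' : Ω, b ≠ a → b' ≠ a → ∃ h : G, h • a = a ∧ h • b = b' := by
    intro a b b' hb hb'
    obtain ⟨n, hn, rfl⟩ := htr a b
    obtain ⟨n', hn', rfl⟩ := htr a b'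
    have hn1 : n ≠ 1 := by
      rintro rfl
      exact hb (one_smul _ _)
    have hn1' : n' ≠ 1 := by
      rintro rfl
      exact hb' (one_smul _ _)
    obtain ⟨g, hg⟩ := isConj_iff.mp (H.conj n n' (hder n hn hn1) (hder n' hn' hn1'))
    obtain ⟨m, hm, hma⟩ := htr a (g • a)
    refine ⟨m⁻¹ * g, ?_, ?_⟩
    · rw [mul_smul, ← hma, inv_smul_smul]
    · have hh : (m⁻¹ * g) * n * (m⁻¹ * g)⁻¹ ∈ N := hN.conj_mem n hn _
      have h1 : n' = m * ((m⁻¹ * g) * n * (m⁻¹ * g)⁻¹) * m⁻¹ := by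
        rw [← hg]; group
      have h2 : n' = (m⁻¹ * g) * n * (m⁻¹ * g)⁻¹ := by
        rw [h1, hab m hm _ hh]; group
      have h3 : (m⁻¹ * g) • a = a := by
        rw [mul_smul, ← hma, inv_smul_smul]
      calc (m⁻¹ * g) • n • a = ((m⁻¹ * g) * n * (m⁻¹ * g)⁻¹) • (m⁻¹ * g) • a := by
            rw [← mul_smul, ← mul_smul]; congr 1; group
        _ = n' • a := by rw [h3, ← h2]
  refine ⟨?_, ?_⟩
  · intro a b c d hab' hcd
    obtain ⟨g₁, _, hg₁⟩ := htr a c
    have hne : g₁⁻¹ • d ≠ a := by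
      intro h
      apply hcd
      rw [← hg₁, ← h, smul_inv_smul]
    obtain ⟨h, hha, hhb⟩ := hstar a b (g₁⁻¹ • d) (fun h => hab' h.symm) hne
    refine ⟨g₁ * h, ?_, ?_⟩
    · rw [mul_smul, hha, hg₁]
    · rw [mul_smul, hhb, smul_inv_smul]
  · intro g hg1 a b hab' hga hgb
    obtain ⟨n, hn, rfl⟩ := htr a b
    have hn1 : n ≠ 1 := by
      rintro rfl
      exact hab' (one_smul _ _).symm
    -- g commutes with n
    have hgn : g * n * g⁻¹ = n := by
      have h1 : g * n * g⁻¹ ∈ N := hN.conj_mem n hn g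
      have h2 : (n⁻¹ * (g * n * g⁻¹)) • a = a := by
        have : (g * n * g⁻¹) • a = n • a := by
          rw [mul_smul, mul_smul]
          have : g⁻¹ • a = a := by rw [inv_smul_eq_iff, hga]
          rw [this, hgb]
        rw [mul_smul, this, inv_smul_smul]
      have h3 := hreg _ (N.mul_mem (N.inv_mem hn) h1) a h2
      have : g * n * g⁻¹ = n * (n⁻¹ * (g * n * g⁻¹)) := by group
      rw [this, h3, mul_one]
    -- the map m ↦ m g m⁻¹ g⁻¹ on N
    let φ : N → N := fun m => ⟨(m : G) * (g * (m : G)⁻¹ * g⁻¹),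
      N.mul_mem m.2 (hN.conj_mem _ (N.inv_mem m.2) g)⟩
    have hφ1 : φ 1 = 1 := by
      apply Subtype.ext
      change (1 : G) * (g * (1 : G)⁻¹ * g⁻¹) = 1
      group
    have hφn : φ ⟨n, hn⟩ = 1 := by
      apply Subtype.ext
      change n * (g * n⁻¹ * g⁻¹) = 1
      have : g * n⁻¹ * g⁻¹ = (g * n * g⁻¹)⁻¹ := by group
      rw [this, hgn, mul_inv_cancel]
    have hninj : ¬ Function.Injective φ := by
      intro hinj
      have := hinj (hφn.trans hφ1.symm)
      exact hn1 (congrArg Subtype.val this)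
    rw [Finite.injective_iff_surjective] at hninj
    unfold Function.Surjective at hninj
    push Not at hninj
    obtain ⟨n', hn'⟩ := hninj
    -- n' * g is a derangement
    have hD : ∀ ω : Ω, ((n' : G) * g) • ω ≠ ω := by
      intro ω hω
      obtain ⟨m, hm, rfl⟩ := htr a ω
      apply hn' ⟨m, hm⟩
      apply Subtype.ext
      change m * (g * m⁻¹ * g⁻¹) = (n' : G)
      have hmem : m⁻¹ * (n' : G) * (g * m * g⁻¹) ∈ N :=
        N.mul_mem (N.mul_mem (N.inv_mem hm) n'.2) (hN.conj_mem m hm g)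
      have hfix : (m⁻¹ * (n' : G) * (g * m * g⁻¹)) • a = a := by
        have h1 : g⁻¹ • a = a := by rw [inv_smul_eq_iff, hga]
        have h2 : m⁻¹ * (n' : G) * (g * m * g⁻¹) = m⁻¹ * ((n' : G) * g) * m * g⁻¹ := by group
        rw [h2, mul_smul, h1, mul_smul, mul_smul, hω, inv_smul_smul]
      have h3 := hreg _ hmem a hfix
      have h4 : (n' : G) = m * (m⁻¹ * (n' : G) * (g * m * g⁻¹)) * (g * m⁻¹ * g⁻¹) := by group
      rw [h4, h3]; group
    have hmem := H.der_mem N hN hN1 _ hD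
    have hgN : g ∈ N := by
      have : g = (n' : G)⁻¹ * ((n' : G) * g) := by group
      rw [this]
      exact N.mul_mem (N.inv_mem n'.2) hmem
    exact hg1 (hreg g hgN a hga)

end

end Cfsg.Agent.Lib.Helper73.DerOne
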