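import Mathlib
import Cfsg.Agent.Lib.Helper73.DerOneB

set_option autoImplicit false

/-!
Primitive groups whose derangements form one class: the nonabelian minimal normal subgroup case.
-/

namespace Cfsg.Agent.Lib.Helper73.DerOne

open MulAction

section

variable {G : Type*} [Group G]

/-- A nonabelian minimal normal subgroup. -/
structure MinNormal (N : Subgroup G) : Prop where
  normal : N.Normal
  ne_bot : N ≠ ⊥
  min : ∀ M : Subgroup G, M.Normal → M ≠ ⊥ → M ≤ N → M = N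
  nonab : ¬ ∀ x ∈ N, ∀ y ∈ N, x * y = y * x

/-- A proper minimal `N`-invariant subgroup of `N`. -/
structure MinSub (N T : Subgroup G) : Prop where
  le : T ≤ N
  ne_bot : T ≠ ⊥
  inv : ∀ n ∈ N, ∀ t ∈ T, n * t * n⁻¹ ∈ T
  min : ∀ U : Subgroup G, U ≤ T → U ≠ ⊥ → (∀ n ∈ N, ∀ u ∈ U, n * u * n⁻¹ ∈ U) → U = T
  ne : T ≠ N

theorem MinNormal.center_trivial {N : Subgroup G} (hN : MinNormal N) (z : G) (hz : z ∈ N)
    (hzc : ∀ n ∈ N, n * z = z * n) : z = 1 := by
  by_contra hz1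
  have := hN.normal
  have hnor : (N ⊓ Subgroup.centralizer (N : Set G)).Normal := inferInstance
  have hne : N ⊓ Subgroup.centralizer (N : Set G) ≠ ⊥ := by
    intro h
    have : z ∈ N ⊓ Subgroup.centralizer (N : Set G) :=
      ⟨hz, Subgroup.mem_centralizer_iff.mpr (fun n hn => hzc n hn)⟩
    rw [h, Subgroup.mem_bot] at this
    exact hz1 this
  have := hN.min _ hnor hne inf_le_left
  apply hN.nonab
  intro x hx y hy
  have hy' : y ∈ N ⊓ Subgroup.centralizer (N : Set G) := by rw [this]; exact hy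
  exact (Subgroup.mem_centralizer_iff.mp hy'.2 x hx)

theorem mem_map_conj {T : Subgroup G} (g x : G) :
    x ∈ T.map (MulAut.conj g).toMonoidHom ↔ ∃ u ∈ T, g * u * g⁻¹ = x := by
  rw [Subgroup.mem_map]
  simp only [MulEquiv.coe_toMonoidHom, MulAut.conj_apply]

variable [Finite G]

theorem MinSub.conj_eq_or_commute {N T : Subgroup G} (hN : N.Normal) (hT : MinSub N T) (g : G) :
    T.map (MulAut.conj g).toMonoidHom = T ∨
      ∀ t ∈ T, ∀ u ∈ T, t * (g * u * g⁻¹) = (g * u * g⁻¹) * t := by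
  set Tg := T.map (MulAut.conj g).toMonoidHom with hTg
  have hmem : ∀ x, x ∈ Tg ↔ ∃ u ∈ T, g * u * g⁻¹ = x := fun x => mem_map_conj g x
  have hTgN : Tg ≤ N := by
    intro x hx
    obtain ⟨u, hu, rfl⟩ := (hmem x).mp hx
    exact hN.conj_mem u (hT.le hu) g
  have hTginv : ∀ n ∈ N, ∀ x ∈ Tg, n * x * n⁻¹ ∈ Tg := by
    intro n hn x hx
    obtain ⟨u, hu, rfl⟩ := (hmem x).mp hx
    have h1 : g⁻¹ * n * g ∈ N := by
      have := hN.conj_mem n hn g⁻¹
      simpa using this
    refine (hmem _).mpr ⟨(g⁻¹ * n * g) * u * (g⁻¹ * n * g)⁻¹, hT.inv _ h1 u hu, by group⟩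
  by_cases hU : T ⊓ Tg = ⊥
  · right
    intro t ht u hu
    have hu' : g * u * g⁻¹ ∈ Tg := (hmem _).mpr ⟨u, hu, rfl⟩
    generalize g * u * g⁻¹ = v at hu'
    have h1 : t * v * t⁻¹ * v⁻¹ ∈ T ⊓ Tg := by
      constructor
      · have : t * v * t⁻¹ * v⁻¹ = t * (v * t⁻¹ * v⁻¹) := by group
        rw [this]
        exact T.mul_mem ht (hT.inv v (hTgN hu') _ (T.inv_mem ht))
      · exact Tg.mul_mem (hTginv t (hT.le ht) v hu') (Tg.inv_mem hu')
    rw [hU, Subgroup.mem_bot] at h1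
    have : t * v = (t * v * t⁻¹ * v⁻¹) * (v * t) := by group
    rw [this, h1, one_mul]
  · left
    have h1 : T ⊓ Tg = T := hT.min _ inf_le_left hU (by
      intro n hn u hu
      exact ⟨hT.inv n hn u hu.1, hTginv n hn u hu.2⟩)
    have h2 : T ≤ Tg := by
      rw [← h1]; exact inf_le_right
    have h3 : Nat.card Tg = Nat.card T :=
      Subgroup.card_map_of_injective (MulAut.conj g).injective
    exact (Subgroup.eq_of_le_of_card_ge h2 h3.le).symm

theorem MinSub.decomp {N T : Subgroup G} (hN : MinNormal N) (hT : MinSub N T) :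
    ∀ n ∈ N, ∃ t ∈ T, ∃ c ∈ N, (∀ t' ∈ T, t' * c = c * t') ∧ n = t * c := by
  let TC : Subgroup G :=
    { carrier := {x | ∃ t ∈ T, ∃ c ∈ N, (∀ t' ∈ T, t' * c = c * t') ∧ x = t * c}
      one_mem' := ⟨1, T.one_mem, 1, N.one_mem, by simp, by simp⟩
      mul_mem' := by
        rintro x y ⟨t₁, ht₁, c₁, hc₁, hcc₁, rfl⟩ ⟨t₂, ht₂, c₂, hc₂, hcc₂, rfl⟩
        refine ⟨t₁ * t₂, T.mul_mem ht₁ ht₂, c₁ * c₂, N.mul_mem hc₁ hc₂, ?_, ?_⟩
        · intro t' ht'
          rw [← mul_assoc, hcc₁ t' ht', mul_assoc, hcc₂ t' ht', mul_assoc]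
        · calc t₁ * c₁ * (t₂ * c₂) = t₁ * (c₁ * t₂) * c₂ := by group
            _ = t₁ * (t₂ * c₁) * c₂ := by rw [hcc₁ t₂ ht₂]
            _ = t₁ * t₂ * (c₁ * c₂) := by group
      inv_mem' := by
        rintro x ⟨t, ht, c, hc, hcc, rfl⟩
        refine ⟨t⁻¹, T.inv_mem ht, c⁻¹, N.inv_mem hc, ?_, ?_⟩
        · intro t' ht'
          have := hcc t' ht'
          calc t' * c⁻¹ = c⁻¹ * (c * t') * c⁻¹ := by group
            _ = c⁻¹ * (t' * c) * c⁻¹ := by rw [this]
            _ = c⁻¹ * t' := by group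
        · have := hcc t⁻¹ (T.inv_mem ht)
          calc (t * c)⁻¹ = c⁻¹ * (t⁻¹ * c) * c⁻¹ := by group
            _ = c⁻¹ * (c * t⁻¹) * c⁻¹ := by rw [this]
            _ = t⁻¹ * c⁻¹ := by group }
  have hle : N ≤ TC := by
    have h1 : Subgroup.normalClosure (T : Set G) = N := by
      apply hN.min _ Subgroup.normalClosure_normal
      · intro h
        apply hT.ne_bot
        rw [eq_bot_iff, ← h]
        exact Subgroup.le_normalClosure
      · have := hN.normal
        exact Subgroup.normalClosure_le_normal hT.le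
    rw [← h1]
    unfold Subgroup.normalClosure
    rw [Subgroup.closure_le]
    intro x hx
    rw [Group.mem_conjugatesOfSet_iff] at hx
    obtain ⟨u, hu, hux⟩ := hx
    obtain ⟨g, rfl⟩ := isConj_iff.mp hux
    rcases hT.conj_eq_or_commute hN.normal g with h | h
    · have : g * u * g⁻¹ ∈ T := by
        rw [← h]; exact (mem_map_conj g _).mpr ⟨u, hu, rfl⟩
      exact ⟨g * u * g⁻¹, this, 1, N.one_mem, by simp, by simp⟩
    · exact ⟨1, T.one_mem, g * u * g⁻¹, hN.normal.conj_mem u (hT.le hu) g,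
        fun t' ht' => h t' ht' u hu, by simp⟩
  intro n hn
  exact hle hn

theorem MinSub.center_trivial {N T : Subgroup G} (hN : MinNormal N) (hT : MinSub N T) (z : G)
    (hz : z ∈ T) (hzc : ∀ t ∈ T, t * z = z * t) : z = 1 := by
  by_contra hz1
  have hZ : T ⊓ Subgroup.centralizer (T : Set G) = T := by
    apply hT.min _ inf_le_left
    · intro h
      have : z ∈ T ⊓ Subgroup.centralizer (T : Set G) :=
        ⟨hz, Subgroup.mem_centralizer_iff.mpr hzc⟩
      rw [h, Subgroup.mem_bot] at this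
      exact hz1 this
    · intro n hn u hu
      refine ⟨hT.inv n hn u hu.1, ?_⟩
      change n * u * n⁻¹ ∈ Subgroup.centralizer (T : Set G)
      rw [Subgroup.mem_centralizer_iff]
      intro t ht
      have ht' : n⁻¹ * t * n ∈ T := by
        have := hT.inv n⁻¹ (N.inv_mem hn) t ht
        simpa using this
      have h1 := Subgroup.mem_centralizer_iff.mp hu.2 _ ht'
      calc t * (n * u * n⁻¹) = n * ((n⁻¹ * t * n) * u) * n⁻¹ := by group
        _ = n * (u * (n⁻¹ * t * n)) * n⁻¹ := by rw [h1]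
        _ = n * u * n⁻¹ * t := by group
  have hab : ∀ t ∈ T, ∀ t' ∈ T, t * t' = t' * t := by
    intro t ht t' ht'
    have : t' ∈ T ⊓ Subgroup.centralizer (T : Set G) := by rw [hZ]; exact ht'
    exact Subgroup.mem_centralizer_iff.mp this.2 t ht
  obtain ⟨t₀, ht₀⟩ := Subgroup.ne_bot_iff_exists_ne_one.mp hT.ne_bot
  apply ht₀
  apply Subtype.ext
  apply hN.center_trivial (t₀ : G) (hT.le t₀.2)
  intro n hn
  obtain ⟨t, ht, c, hc, hcc, rfl⟩ := hT.decomp hN n hn
  rw [mul_assoc, ← hcc t₀ t₀.2, ← mul_assoc, hab t ht t₀ t₀.2, mul_assoc]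

omit [Finite G] in
theorem MinSub.exists_conj_ne {N T : Subgroup G} (hN : MinNormal N) (hT : MinSub N T) :
    ∃ g : G, T.map (MulAut.conj g).toMonoidHom ≠ T := by
  by_contra hcon
  push Not at hcon
  apply hT.ne
  apply hN.min T _ hT.ne_bot hT.le
  constructor
  intro t ht g
  rw [← hcon g]
  exact (mem_map_conj g _).mpr ⟨t, ht, rfl⟩

end

end Cfsg.Agent.Lib.Helper73.DerOne
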