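import Mathlib
import Cfsg.Agent.Lib.Helper73.DerOneC

set_option autoImplicit false

/-!
Primitive groups whose derangements form one class: the nonabelian minimal normal subgroup case,
second part.
-/

namespace Cfsg.Agent.Lib.Helper73.DerOne

open MulAction

section

variable {G : Type*} [Group G] [Finite G] {Ω : Type*} [Fintype Ω] [MulAction G Ω]
  [FaithfulSMul G Ω]

theorem Hyp.centralizer_eq_bot (H : Hyp G Ω) {N : Subgroup G} (hN : MinNormal N) :
    Subgroup.centralizer (N : Set G) = ⊥ := by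
  by_contra hC
  have := hN.normal
  have hCn : (Subgroup.centralizer (N : Set G)).Normal := Subgroup.normal_centralizer
  have htr := H.trans _ hCn hC
  have hsemi : ∀ n ∈ N, ∀ a : Ω, n • a = a → n = 1 := by
    intro n hn a ha
    apply eq_one_of_commute_transitive _ htr n _ a ha
    intro k hk
    exact (Subgroup.mem_centralizer_iff.mp hk n hn).symm
  obtain ⟨z, hz, hz1, hzc⟩ := exists_central_of_all_conj N hN.ne_bot (by
    intro x hx y hy hx1 hy1
    exact H.conj x y (fun ω h => hx1 (hsemi x hx ω h)) (fun ω h => hy1 (hsemi y hy ω h)))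
  exact hz1 (hN.center_trivial z hz hzc)

theorem Hyp.simple_case (H : Hyp G Ω) {N : Subgroup G} (hN : MinNormal N)
    (hsimp : ∀ T : Subgroup G, T ≤ N → T ≠ ⊥ → (∀ n ∈ N, ∀ t ∈ T, n * t * n⁻¹ ∈ T) → T = N) :
    ∃ T : Subgroup G, T.Normal ∧ IsSimpleGroup T ∧ ¬ IsMulCommutative T ∧
      Subgroup.centralizer (T : Set G) = ⊥ := by
  refine ⟨N, hN.normal, ?_, ?_, H.centralizer_eq_bot hN⟩
  · have : Nontrivial N := (Subgroup.nontrivial_iff_ne_bot N).mpr hN.ne_bot
    refine ⟨fun K hK => ?_⟩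
    by_cases hb : K = ⊥
    · left; exact hb
    · right
      have h1 := hsimp (K.map N.subtype) (Subgroup.map_subtype_le K) ?_ ?_
      · rw [eq_top_iff]
        intro x _
        have hx : (x : G) ∈ K.map N.subtype := by rw [h1]; exact x.2
        obtain ⟨k, hk, hkx⟩ := Subgroup.mem_map.mp hx
        have : k = x := Subtype.ext hkx
        rwa [← this]
      · intro h
        apply hb
        rwa [Subgroup.map_eq_bot_iff_of_injective _ N.subtype_injective] at h
      · intro n hn t ht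
        obtain ⟨k, hk, rfl⟩ := Subgroup.mem_map.mp ht
        exact Subgroup.mem_map.mpr ⟨⟨n, hn⟩ * k * ⟨n, hn⟩⁻¹, hK.conj_mem k hk _, rfl⟩
  · intro hcomm
    apply hN.nonab
    intro x hx y hy
    have := hcomm.is_comm.comm (⟨x, hx⟩ : N) ⟨y, hy⟩
    exact congrArg Subtype.val this

theorem Hyp.minSub_not_transitive (H : Hyp G Ω) {N T : Subgroup G} (hN : MinNormal N)
    (hT : MinSub N T) (htr : ∀ a b : Ω, ∃ t ∈ T, t • a = b) : False := by
  obtain ⟨g, hg⟩ := hT.exists_conj_ne hN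
  rcases hT.conj_eq_or_commute hN.normal g with h | h
  · exact hg h
  · have htr' : ∀ a b : Ω, ∃ k ∈ T.map (MulAut.conj g).toMonoidHom, k • a = b := by
      intro a b
      obtain ⟨t, ht, hta⟩ := htr (g⁻¹ • a) (g⁻¹ • b)
      refine ⟨g * t * g⁻¹, (mem_map_conj g _).mpr ⟨t, ht, rfl⟩, ?_⟩
      rw [mul_smul, mul_smul, hta, smul_inv_smul]
    have hsemi : ∀ t ∈ T, ∀ a : Ω, t • a = a → t = 1 := by
      intro t ht a ha
      apply eq_one_of_commute_transitive _ htr' t _ a ha
      intro k hk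
      obtain ⟨u, hu, rfl⟩ := (mem_map_conj g _).mp hk
      exact (h t ht u hu).symm
    obtain ⟨z, hz, hz1, hzc⟩ := exists_central_of_all_conj T hT.ne_bot (by
      intro x hx y hy hx1 hy1
      exact H.conj x y (fun ω h => hx1 (hsemi x hx ω h)) (fun ω h => hy1 (hsemi y hy ω h)))
    exact hz1 (hT.center_trivial hN z hz hzc)

omit [FaithfulSMul G Ω] in
theorem Hyp.minSub_transitive (H : Hyp G Ω) {N T : Subgroup G} (hN : MinNormal N)
    (hT : MinSub N T) : ∀ a b : Ω, ∃ t ∈ T, t • a = b := by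
  by_contra hnt
  push Not at hnt
  obtain ⟨a₀, b₀, hab₀⟩ := hnt
  let r : Setoid Ω :=
    { r := fun a b => ∃ t ∈ T, t • a = b
      iseqv := ⟨fun a => ⟨1, T.one_mem, one_smul _ _⟩,
        fun ⟨t, ht, h⟩ => ⟨t⁻¹, T.inv_mem ht, by rw [← h, inv_smul_smul]⟩,
        fun ⟨t, ht, h⟩ ⟨t', ht', h'⟩ => ⟨t' * t, T.mul_mem ht' ht, by rw [mul_smul, h, h']⟩⟩ }
  have hr : ∀ a b, r a b ↔ ∃ t ∈ T, t • a = b := fun a b => Iff.rfl
  have : IsPretransitive N Ω := by
    refine ⟨fun a b => ?_⟩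
    obtain ⟨n, hn, h⟩ := H.trans N hN.normal hN.ne_bot a b
    exact ⟨⟨n, hn⟩, h⟩
  obtain ⟨k, hk⟩ := exists_moving_all_classes (K := N) (X := Ω) r (by
    intro k a b hab
    obtain ⟨t, ht, rfl⟩ := (hr a b).mp hab
    refine (hr _ _).mpr ⟨(k : G) * t * (k : G)⁻¹, hT.inv k k.2 t ht, ?_⟩
    change ((k : G) * t * (k : G)⁻¹) • (k : G) • a = (k : G) • t • a
    rw [← mul_smul, ← mul_smul]; congr 1; group)
    ⟨a₀, b₀, fun h => by
      obtain ⟨t, ht, h'⟩ := (hr _ _).mp h
      exact hab₀ t ht h'⟩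
  obtain ⟨t, ht, c, hc, hcc, hkc⟩ := hT.decomp hN (k : G) k.2
  have hcmove : ∀ ω : Ω, ¬ r (c • ω) ω := by
    intro ω hω
    apply hk ω
    have h1 : r ((k : G) • ω) (c • ω) := by
      rw [hkc, mul_smul]
      exact (hr _ _).mpr ⟨t⁻¹, T.inv_mem ht, inv_smul_smul _ _⟩
    exact r.trans h1 hω
  obtain ⟨t', ht'⟩ := Subgroup.ne_bot_iff_exists_ne_one.mp hT.ne_bot
  have ht'1 : (t' : G) ≠ 1 := fun h => ht' (Subtype.ext h)
  have hD1 : ∀ ω : Ω, c • ω ≠ ω := fun ω h => hcmove ω (by rw [h])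
  have hD2 : ∀ ω : Ω, ((t' : G) * c) • ω ≠ ω := by
    intro ω h
    apply hcmove ω
    rw [mul_smul] at h
    exact (hr _ _).mpr ⟨t', t'.2, h⟩
  obtain ⟨h, hh⟩ := isConj_iff.mp (H.conj _ _ hD1 hD2)
  let A : G → Set G := fun x => {g | ∀ u ∈ T, x * (g * u * g⁻¹) = (g * u * g⁻¹) * x}
  have hAimg : A (h * c * h⁻¹) = (fun g => h * g) '' A c := by
    ext g
    constructor
    · intro hg
      refine ⟨h⁻¹ * g, ?_, by group⟩
      intro u hu
      have := hg u hu
      calc c * (h⁻¹ * g * u * (h⁻¹ * g)⁻¹)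
          = h⁻¹ * ((h * c * h⁻¹) * (g * u * g⁻¹)) * h := by group
        _ = h⁻¹ * ((g * u * g⁻¹) * (h * c * h⁻¹)) * h := by rw [this]
        _ = (h⁻¹ * g * u * (h⁻¹ * g)⁻¹) * c := by group
    · rintro ⟨g', hg', rfl⟩
      intro u hu
      have := hg' u hu
      calc (h * c * h⁻¹) * (h * g' * u * (h * g')⁻¹)
          = h * (c * (g' * u * g'⁻¹)) * h⁻¹ := by group
        _ = h * ((g' * u * g'⁻¹) * c) * h⁻¹ := by rw [this]
        _ = (h * g' * u * (h * g')⁻¹) * (h * c * h⁻¹) := by group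
  have hcard : (A (h * c * h⁻¹)).ncard = (A c).ncard := by
    rw [hAimg]
    exact Set.ncard_image_of_injective _ (mul_right_injective h)
  have hkey : ¬ ∀ u ∈ T, ((t' : G) * c) * u = u * ((t' : G) * c) := by
    intro hall
    apply ht'1
    apply hT.center_trivial hN (t' : G) t'.2
    intro u hu
    have h1 := hall u hu
    have h2 := hcc u hu
    have : (t' : G) * u * c = u * (t' : G) * c := by
      rw [mul_assoc, h2, ← mul_assoc, h1, mul_assoc]
    exact (mul_right_cancel this).symm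
  have hsub : A ((t' : G) * c) ⊂ A c := by
    rw [Set.ssubset_iff_of_subset]
    · refine ⟨1, ?_, ?_⟩
      · intro u hu
        simp only [one_mul, inv_one, mul_one]
        exact (hcc u hu).symm
      · intro h1
        apply hkey
        intro u hu
        have := h1 u hu
        simpa using this
    · intro g hg u hu
      rcases hT.conj_eq_or_commute hN.normal g with hgT | hgT
      · exfalso
        apply hkey
        intro v hv
        rw [← hgT] at hv
        obtain ⟨w, hw, rfl⟩ := (mem_map_conj g _).mp hv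
        exact hg w hw
      · have h1 := hg u hu
        have h2 := hgT (t' : G) t'.2 u hu
        generalize g * u * g⁻¹ = v at h1 h2 ⊢
        have : (t' : G) * (c * v) = (t' : G) * (v * c) := by
          rw [← mul_assoc, h1, ← mul_assoc, ← h2, mul_assoc]
        exact mul_left_cancel this
  have := Set.ncard_lt_ncard hsub (Set.toFinite _)
  rw [← hh, hcard] at this
  exact lt_irrefl _ this

theorem Hyp.nonabelian_case (H : Hyp G Ω) {N : Subgroup G} (hN : MinNormal N) :
    ∃ T : Subgroup G, T.Normal ∧ IsSimpleGroup T ∧ ¬ IsMulCommutative T ∧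
      Subgroup.centralizer (T : Set G) = ⊥ := by
  by_cases hsimp : ∀ T : Subgroup G, T ≤ N → T ≠ ⊥ →
      (∀ n ∈ N, ∀ t ∈ T, n * t * n⁻¹ ∈ T) → T = N
  · exact H.simple_case hN hsimp
  · exfalso
    let S : Set (Subgroup G) :=
      {T | T ≤ N ∧ T ≠ ⊥ ∧ (∀ n ∈ N, ∀ t ∈ T, n * t * n⁻¹ ∈ T) ∧ T ≠ N}
    have hS : S.Nonempty := by
      push Not at hsimp
      obtain ⟨T, h1, h2, h3, h4⟩ := hsimp
      exact ⟨T, h1, h2, h3, h4⟩
    obtain ⟨T, hTS, hTmin⟩ := wellFounded_lt.has_min S hS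
    have hT : MinSub N T := by
      refine ⟨hTS.1, hTS.2.1, hTS.2.2.1, ?_, hTS.2.2.2⟩
      intro U hU hU1 hUinv
      by_contra hne
      have hlt : U < T := lt_of_le_of_ne hU hne
      apply hTmin U _ hlt
      refine ⟨hU.trans hTS.1, hU1, hUinv, ?_⟩
      intro h
      rw [h] at hlt
      exact absurd (lt_of_lt_of_le hlt hTS.1) (lt_irrefl _)
    exact H.minSub_not_transitive hN hT (H.minSub_transitive hN hT)

end

end Cfsg.Agent.Lib.Helper73.DerOne
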