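import Mathlib
import Cfsg.Agent.Lib.Helper73.DerOneC

set_option autoImplicit false

/-!
Primitive groups with at most two classes of derangements: general lemmas and the abelian case.
-/

namespace Cfsg.Agent.Lib.Helper73.DerTwo

open MulAction Cfsg.Agent.Lib.Helper73.DerOne

/-- Working hypotheses: quasi-primitive action, at most two classes of derangements. -/
structure Hyp2 (G : Type*) [Group G] (Ω : Type*) [Fintype Ω] [MulAction G Ω] : Prop where
  card : 2 ≤ Fintype.card Ω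
  trans : ∀ N : Subgroup G, N.Normal → N ≠ ⊥ → ∀ a b : Ω, ∃ n ∈ N, n • a = b
  conj3 : ∀ x y z : G, (∀ ω : Ω, x • ω ≠ ω) → (∀ ω : Ω, y • ω ≠ ω) → (∀ ω : Ω, z • ω ≠ ω) →
    IsConj x y ∨ IsConj x z ∨ IsConj y z

section General

variable {G : Type*} [Group G]

theorem orderOf_eq_of_isConj {x y : G} (hxy : IsConj x y) : orderOf x = orderOf y := by
  obtain ⟨c, rfl⟩ := isConj_iff.mp hxy
  have := orderOf_injective (MulAut.conj c).toMonoidHom (MulAut.conj c).injective x
  simpa using this.symm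

theorem isConj_pow {x y : G} (hxy : IsConj x y) (k : ℕ) : IsConj (x ^ k) (y ^ k) := by
  obtain ⟨c, rfl⟩ := isConj_iff.mp hxy
  rw [conj_pow]
  exact isConj_iff.mpr ⟨c, rfl⟩

variable [Finite G]

/-- A nontrivial subgroup with trivial centre has elements of two distinct prime orders. -/
theorem exists_two_prime_orders (K : Subgroup G) (hK : K ≠ ⊥)
    (hZ : ∀ z ∈ K, (∀ k ∈ K, k * z = z * k) → z = 1) :
    ∃ p q : ℕ, p.Prime ∧ q.Prime ∧ p ≠ q ∧ (∃ x ∈ K, orderOf x = p) ∧ (∃ y ∈ K, orderOf y = q) := by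
  have hnt : Nontrivial K := (Subgroup.nontrivial_iff_ne_bot K).mpr hK
  have hcard1 : Nat.card K ≠ 1 := by
    intro h
    have := (Nat.card_eq_one_iff_unique.mp h).1
    exact not_subsingleton K this
  have hcard0 : Nat.card K ≠ 0 := Nat.card_pos.ne'
  obtain ⟨p, hp, hpd⟩ := Nat.exists_prime_and_dvd hcard1
  have cauchy : ∀ q : ℕ, q.Prime → q ∣ Nat.card K → ∃ y ∈ K, orderOf y = q := by
    intro q hq hqd
    have : Fact q.Prime := ⟨hq⟩
    obtain ⟨y, hy⟩ := exists_prime_orderOf_dvd_card' q hqd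
    exact ⟨y, y.2, by rw [Subgroup.orderOf_coe, hy]⟩
  by_cases hall : ∀ q : ℕ, q.Prime → q ∣ Nat.card K → q = p
  · exfalso
    have hpow := Nat.eq_prime_pow_of_unique_prime_dvd hcard0 (fun {d} hd hdd => hall d hd hdd)
    have hPG : IsPGroup p K := IsPGroup.of_card hpow
    have : Fact p.Prime := ⟨hp⟩
    have hcn : Nontrivial (Subgroup.center K) := hPG.center_nontrivial
    obtain ⟨⟨z, hz⟩, hz1⟩ := exists_ne (1 : Subgroup.center K)
    apply hz1
    apply Subtype.ext
    apply Subtype.ext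
    apply hZ z z.2
    intro k hk
    have := (Subgroup.mem_center_iff.mp hz) ⟨k, hk⟩
    exact congrArg Subtype.val this
  · push Not at hall
    obtain ⟨q, hq, hqd, hqp⟩ := hall
    exact ⟨p, q, hp, hq, fun h => hqp h.symm, cauchy p hp hpd, cauchy q hq hqd⟩

end General

section Action

variable {G : Type*} [Group G] {Ω : Type*} [MulAction G Ω]

theorem ne_one_of_orderOf_prime {x : G} {p : ℕ} (hp : p.Prime) (hx : orderOf x = p) : x ≠ 1 := by
  rintro rfl
  rw [orderOf_one] at hx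
  exact hp.one_lt.ne' hx.symm

theorem pow_ne_one_of_prime_ne {x : G} {p q : ℕ} (hp : p.Prime) (hq : q.Prime) (hpq : p ≠ q)
    (hx : orderOf x = q) : x ^ p ≠ 1 := by
  intro h
  have := orderOf_dvd_iff_pow_eq_one.mpr h
  rw [hx] at this
  exact hpq ((Nat.prime_dvd_prime_iff_eq hq hp).mp this).symm

/-- If `b` lies in a semiregular subgroup and `a` commutes with `b`, `a ^ p = 1`, `b ^ p ≠ 1`,
then `a * b` is a derangement. -/
theorem derangement_of_commute_pow (B : Subgroup G)
    (hB : ∀ b ∈ B, ∀ ω : Ω, b • ω = ω → b = 1) (a b : G) (hb : b ∈ B) (hab : a * b = b * a)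
    (p : ℕ) (hap : a ^ p = 1) (hbp : b ^ p ≠ 1) : ∀ ω : Ω, (a * b) • ω ≠ ω := by
  intro ω h
  have hk : ∀ k : ℕ, (a * b) ^ k • ω = ω := by
    intro k
    induction k with
    | zero => simp
    | succ k ih => rw [pow_succ, mul_smul, h, ih]
  have h1 := hk p
  have hc : Commute a b := hab
  rw [hc.mul_pow, hap, one_mul] at h1
  exact hbp (hB _ (B.pow_mem hb p) ω h1)

theorem derangement_of_semiregular (B : Subgroup G)
    (hB : ∀ b ∈ B, ∀ ω : Ω, b • ω = ω → b = 1) (b : G) (hb : b ∈ B) (hb1 : b ≠ 1) :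
    ∀ ω : Ω, b • ω ≠ ω := fun ω h => hb1 (hB b hb ω h)

end Action

section Hyp

variable {G : Type*} [Group G] {Ω : Type*} [Fintype Ω] [MulAction G Ω]

theorem Hyp2.false_of_three_orders (H : Hyp2 G Ω) (x y z : G) (hx : ∀ ω : Ω, x • ω ≠ ω)
    (hy : ∀ ω : Ω, y • ω ≠ ω) (hz : ∀ ω : Ω, z • ω ≠ ω) (hxy : orderOf x ≠ orderOf y)
    (hxz : orderOf x ≠ orderOf z) (hyz : orderOf y ≠ orderOf z) : False := by
  rcases H.conj3 x y z hx hy hz with h | h | h
  · exact hxy (orderOf_eq_of_isConj h)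
  · exact hxz (orderOf_eq_of_isConj h)
  · exact hyz (orderOf_eq_of_isConj h)

/-- Three derangements `a`, `b`, `a * b` with `a`, `b` commuting of distinct prime orders. -/
theorem Hyp2.false_of_commuting_primes (H : Hyp2 G Ω) (a b : G) (p q : ℕ) (hp : p.Prime)
    (hq : q.Prime) (hpq : p ≠ q) (ha : orderOf a = p) (hb : orderOf b = q) (hab : a * b = b * a)
    (hda : ∀ ω : Ω, a • ω ≠ ω) (hdb : ∀ ω : Ω, b • ω ≠ ω) (hdab : ∀ ω : Ω, (a * b) • ω ≠ ω) :
    False := by
  have hc : Commute a b := hab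
  have hco : (orderOf a).Coprime (orderOf b) := by
    rw [ha, hb]; exact (Nat.coprime_primes hp hq).mpr hpq
  have ho := hc.orderOf_mul_eq_mul_orderOf_of_coprime hco
  apply H.false_of_three_orders a b (a * b) hda hdb hdab
  · rw [ha, hb]; exact hpq
  · rw [ho, ha, hb]
    intro h
    have h2 : p * 1 = p * q := by rw [mul_one]; exact h
    have := Nat.eq_of_mul_eq_mul_left hp.pos h2
    exact hq.one_lt.ne' this.symm
  · rw [ho, ha, hb]
    intro h
    have h2 : 1 * q = p * q := by rw [one_mul]; exact h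
    have := Nat.eq_of_mul_eq_mul_right hq.pos h2
    exact hp.one_lt.ne' this.symm

end Hyp

end Cfsg.Agent.Lib.Helper73.DerTwo
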