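import Mathlib
import Cfsg.Agent.Lib.Helper73.DerTwo

set_option autoImplicit false

/-!
Primitive groups all of whose derangements are `p`-elements: a nonabelian minimal normal
subgroup is simple with trivial centralizer.  Also some hypothesis-free packaging of the
minimal normal subgroup analysis.
-/

namespace Cfsg.Agent.Lib.Helper73.DerP

open MulAction Cfsg.Agent.Lib.Helper73.DerOne Cfsg.Agent.Lib.Helper73.DerTwo

section Pack

variable {G : Type*} [Group G] [Finite G]

omit [Finite G] in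
/-- If a nonabelian minimal normal subgroup has no proper nontrivial invariant subgroup and has
trivial centralizer, the group is almost simple. -/
theorem almost_simple_of_centralizer {N : Subgroup G} (hN : MinNormal N)
    (hC : Subgroup.centralizer (N : Set G) = ⊥)
    (hsimp : ∀ T : Subgroup G, T ≤ N → T ≠ ⊥ → (∀ n ∈ N, ∀ t ∈ T, n * t * n⁻¹ ∈ T) → T = N) :
    ∃ T : Subgroup G, T.Normal ∧ IsSimpleGroup T ∧ ¬ IsMulCommutative T ∧
      Subgroup.centralizer (T : Set G) = ⊥ := by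
  refine ⟨N, hN.normal, ?_, ?_, hC⟩
  · have : Nontrivial N := (Subgroup.nontrivial_iff_ne_bot N).mpr hN.ne_bot
    refine ⟨fun K hK => ?_⟩
    by_cases hb : K = ⊥
    · left; exact hb
    · right
      have h1 := hsimp (K.map N.subtype) (Subgroup.map_subtype_le K) ?_ ?_
      · rw [eq_top_iff]
        intro x _
        have hx : (x : G) ∈ K.map N.subtype := by rw [h1]; exact x.2
        obtain ⟨k, hk, hkx⟩ := Subgroup.mem_map.mp hx
        have : k = x := Subtype.ext hkx
        rwa [← this]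
      · intro h
        apply hb
        rwa [Subgroup.map_eq_bot_iff_of_injective _ N.subtype_injective] at h
      · intro n hn t ht
        obtain ⟨k, hk, rfl⟩ := Subgroup.mem_map.mp ht
        exact Subgroup.mem_map.mpr ⟨⟨n, hn⟩ * k * ⟨n, hn⟩⁻¹, hK.conj_mem k hk _, rfl⟩
  · intro hcomm
    apply hN.nonab
    intro x hx y hy
    have := hcomm.is_comm.comm (⟨x, hx⟩ : N) ⟨y, hy⟩
    exact congrArg Subtype.val this

/-- Either `N` has no proper nontrivial `N`-invariant subgroup, or there is a minimal one. -/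
theorem exists_minSub_or_simple {N : Subgroup G} :
    (∀ T : Subgroup G, T ≤ N → T ≠ ⊥ → (∀ n ∈ N, ∀ t ∈ T, n * t * n⁻¹ ∈ T) → T = N) ∨
      ∃ T : Subgroup G, MinSub N T := by
  by_cases hsimp : ∀ T : Subgroup G, T ≤ N → T ≠ ⊥ →
      (∀ n ∈ N, ∀ t ∈ T, n * t * n⁻¹ ∈ T) → T = N
  · exact Or.inl hsimp
  · right
    let S : Set (Subgroup G) :=
      {T | T ≤ N ∧ T ≠ ⊥ ∧ (∀ n ∈ N, ∀ t ∈ T, n * t * n⁻¹ ∈ T) ∧ T ≠ N}
    have hS : S.Nonempty := by
      push Not at hsimp
      obtain ⟨T, h1, h2, h3, h4⟩ := hsimp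
      exact ⟨T, h1, h2, h3, h4⟩
    obtain ⟨T, hTS, hTmin⟩ := wellFounded_lt.has_min S hS
    refine ⟨T, hTS.1, hTS.2.1, hTS.2.2.1, ?_, hTS.2.2.2⟩
    intro U hU hU1 hUinv
    by_contra hne
    have hlt : U < T := lt_of_le_of_ne hU hne
    apply hTmin U _ hlt
    refine ⟨hU.trans hTS.1, hU1, hUinv, ?_⟩
    intro h
    rw [h] at hlt
    exact absurd (lt_of_lt_of_le hlt hTS.1) (lt_irrefl _)

/-- A minimal normal subgroup exists in a nontrivial finite group. -/
theorem exists_minimal_normal (hG : ∃ x : G, x ≠ 1) :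
    ∃ N : Subgroup G, N.Normal ∧ N ≠ ⊥ ∧ ∀ M : Subgroup G, M.Normal → M ≠ ⊥ → M ≤ N → M = N := by
  obtain ⟨x, hx1⟩ := hG
  let S : Set (Subgroup G) := {N | N.Normal ∧ N ≠ ⊥}
  have hS : S.Nonempty := by
    refine ⟨⊤, inferInstance, ?_⟩
    intro h
    have : x ∈ (⊤ : Subgroup G) := Subgroup.mem_top x
    rw [h, Subgroup.mem_bot] at this
    exact hx1 this
  obtain ⟨N, hNS, hNmin⟩ := wellFounded_lt.has_min S hS
  refine ⟨N, hNS.1, hNS.2, ?_⟩
  intro M hM hM1 hMN
  by_contra hne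
  exact hNmin M ⟨hM, hM1⟩ (lt_of_le_of_ne hMN hne)

end Pack

section Act

variable {G : Type*} [Group G] [Finite G] {Ω : Type*} [Fintype Ω] [MulAction G Ω]

omit [Finite G] [Fintype Ω] in
/-- Quasiprimitive faithful actions: nontrivial normal subgroups are transitive. -/
theorem normal_transitive [FaithfulSMul G Ω] [IsQuasiPreprimitive G Ω] (N : Subgroup G)
    (hN : N.Normal) (hN1 : N ≠ ⊥) : ∀ a b : Ω, ∃ n ∈ N, n • a = b := by
  intro a b
  have hfix : fixedPoints N Ω ≠ Set.univ := by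
    intro h
    apply hN1
    rw [eq_bot_iff]
    intro n hn
    rw [Subgroup.mem_bot]
    apply FaithfulSMul.eq_of_smul_eq_smul (α := Ω)
    intro ω
    have hω : ω ∈ fixedPoints N Ω := by rw [h]; exact Set.mem_univ _
    rw [one_smul]
    exact hω ⟨n, hn⟩
  have := IsQuasiPreprimitive.isPretransitive_of_normal (N := N) hfix
  obtain ⟨n, hn⟩ := exists_smul_eq N a b
  exact ⟨n, n.2, hn⟩

/-- If `T` is an intransitive minimal invariant subgroup of the transitive nonabelian minimal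
normal subgroup `N`, some `c` centralizing `T` makes all `t * c` (`t ∈ T`) derangements. -/
theorem exists_moving {N T : Subgroup G} (hN : MinNormal N) (hT : MinSub N T)
    (htrN : ∀ a b : Ω, ∃ n ∈ N, n • a = b) (hnt : ¬ ∀ a b : Ω, ∃ t ∈ T, t • a = b) :
    ∃ c : G, (∀ u ∈ T, u * c = c * u) ∧ ∀ t ∈ T, ∀ ω : Ω, (t * c) • ω ≠ ω := by
  push Not at hnt
  obtain ⟨a₀, b₀, hab₀⟩ := hnt
  let r : Setoid Ω :=
    { r := fun a b => ∃ t ∈ T, t • a = b
      iseqv := ⟨fun a => ⟨1, T.one_mem, one_smul _ _⟩,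
        fun ⟨t, ht, h⟩ => ⟨t⁻¹, T.inv_mem ht, by rw [← h, inv_smul_smul]⟩,
        fun ⟨t, ht, h⟩ ⟨t', ht', h'⟩ => ⟨t' * t, T.mul_mem ht' ht, by rw [mul_smul, h, h']⟩⟩ }
  have hr : ∀ a b, r a b ↔ ∃ t ∈ T, t • a = b := fun a b => Iff.rfl
  have : IsPretransitive N Ω := by
    refine ⟨fun a b => ?_⟩
    obtain ⟨n, hn, h⟩ := htrN a b
    exact ⟨⟨n, hn⟩, h⟩
  obtain ⟨k, hk⟩ := exists_moving_all_classes (K := N) (X := Ω) r (by
    intro k a b hab
    obtain ⟨t, ht, rfl⟩ := (hr a b).mp hab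
    refine (hr _ _).mpr ⟨(k : G) * t * (k : G)⁻¹, hT.inv k k.2 t ht, ?_⟩
    change ((k : G) * t * (k : G)⁻¹) • (k : G) • a = (k : G) • t • a
    rw [← mul_smul, ← mul_smul]; congr 1; group)
    ⟨a₀, b₀, fun h => by
      obtain ⟨t, ht, h'⟩ := (hr _ _).mp h
      exact hab₀ t ht h'⟩
  obtain ⟨t, ht, c, hc, hcc, hkc⟩ := hT.decomp hN (k : G) k.2
  have hcmove : ∀ ω : Ω, ¬ r (c • ω) ω := by
    intro ω hω
    apply hk ω
    have h1 : r ((k : G) • ω) (c • ω) := by
      rw [hkc, mul_smul]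
      exact (hr _ _).mpr ⟨t⁻¹, T.inv_mem ht, inv_smul_smul _ _⟩
    exact r.trans h1 hω
  refine ⟨c, hcc, ?_⟩
  intro t' ht' ω h
  apply hcmove ω
  rw [mul_smul] at h
  exact (hr _ _).mpr ⟨t', ht', h⟩

omit [Fintype Ω] in
/-- If `T` is a transitive minimal invariant subgroup, then `T` is semiregular. -/
theorem semiregular_of_transitive [FaithfulSMul G Ω] {N T : Subgroup G} (hN : MinNormal N)
    (hT : MinSub N T) (htr : ∀ a b : Ω, ∃ t ∈ T, t • a = b) :
    ∀ t ∈ T, ∀ a : Ω, t • a = a → t = 1 := by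
  obtain ⟨g, hg⟩ := hT.exists_conj_ne hN
  rcases hT.conj_eq_or_commute hN.normal g with h | h
  · exact absurd h hg
  · have htr' : ∀ a b : Ω, ∃ k ∈ T.map (MulAut.conj g).toMonoidHom, k • a = b := by
      intro a b
      obtain ⟨t, ht, hta⟩ := htr (g⁻¹ • a) (g⁻¹ • b)
      refine ⟨g * t * g⁻¹, (mem_map_conj g _).mpr ⟨t, ht, rfl⟩, ?_⟩
      rw [mul_smul, mul_smul, hta, smul_inv_smul]
    intro t ht a ha
    apply eq_one_of_commute_transitive _ htr' t _ a ha
    intro k hk
    obtain ⟨u, hu, rfl⟩ := (mem_map_conj g _).mp hk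
    exact (h t ht u hu).symm

end Act

section PDer

variable {G : Type*} [Group G] [Finite G] {Ω : Type*} [Fintype Ω] [MulAction G Ω]
  [FaithfulSMul G Ω]

theorem prime_eq_of_eq_pow {p q j : ℕ} (hp : p.Prime) (hq : q.Prime) (h : q = p ^ j) : q = p := by
  have hj : j ≠ 0 := by
    rintro rfl
    rw [pow_zero] at h
    exact hq.one_lt.ne' h
  have : p ∣ q := by
    rw [h]; exact dvd_pow_self p hj
  exact ((Nat.prime_dvd_prime_iff_eq hp hq).mp this).symm

/-- A nontrivial subgroup with trivial centre cannot consist of `p`-elements. -/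
theorem false_of_p_elements {p : ℕ} (hp : p.Prime) (K : Subgroup G) (hK : K ≠ ⊥)
    (hZ : ∀ z ∈ K, (∀ k ∈ K, k * z = z * k) → z = 1)
    (hpK : ∀ k ∈ K, k ≠ 1 → ∃ j : ℕ, orderOf k = p ^ j) : False := by
  obtain ⟨q₁, q₂, hq₁, hq₂, hne, ⟨x, hx, hxo⟩, ⟨y, hy, hyo⟩⟩ := exists_two_prime_orders K hK hZ
  obtain ⟨j₁, hj₁⟩ := hpK x hx (ne_one_of_orderOf_prime hq₁ hxo)
  obtain ⟨j₂, hj₂⟩ := hpK y hy (ne_one_of_orderOf_prime hq₂ hyo)
  have h1 := prime_eq_of_eq_pow hp hq₁ (hxo.symm.trans hj₁)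
  have h2 := prime_eq_of_eq_pow hp hq₂ (hyo.symm.trans hj₂)
  exact hne (h1.trans h2.symm)

/-- Main theorem: quasiprimitive, all derangements `p`-elements, nonabelian minimal normal
subgroup: the group is almost simple. -/
theorem almost_simple_of_p_derangements {p : ℕ} (hp : p.Prime)
    (htr : ∀ N : Subgroup G, N.Normal → N ≠ ⊥ → ∀ a b : Ω, ∃ n ∈ N, n • a = b)
    (hder : ∀ g : G, (∀ ω : Ω, g • ω ≠ ω) → ∃ k : ℕ, orderOf g = p ^ k)
    {N : Subgroup G} (hN : MinNormal N) :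
    ∃ T : Subgroup G, T.Normal ∧ IsSimpleGroup T ∧ ¬ IsMulCommutative T ∧
      Subgroup.centralizer (T : Set G) = ⊥ := by
  have htrN := htr N hN.normal hN.ne_bot
  have hC : Subgroup.centralizer (N : Set G) = ⊥ := by
    by_contra hC
    have := hN.normal
    have hCn : (Subgroup.centralizer (N : Set G)).Normal := Subgroup.normal_centralizer
    have htrC := htr _ hCn hC
    have hsemiN : ∀ n ∈ N, ∀ a : Ω, n • a = a → n = 1 := by
      intro n hn a ha
      apply eq_one_of_commute_transitive _ htrC n _ a ha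
      intro k hk
      exact (Subgroup.mem_centralizer_iff.mp hk n hn).symm
    exact false_of_p_elements hp N hN.ne_bot hN.center_trivial
      (fun k hk hk1 => hder k (fun ω h => hk1 (hsemiN k hk ω h)))
  rcases exists_minSub_or_simple (N := N) with hsimp | ⟨T, hT⟩
  · exact almost_simple_of_centralizer hN hC hsimp
  · exfalso
    by_cases htrT : ∀ a b : Ω, ∃ t ∈ T, t • a = b
    · have hsemi := semiregular_of_transitive hN hT htrT
      exact false_of_p_elements hp T hT.ne_bot (hT.center_trivial hN)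
        (fun k hk hk1 => hder k (fun ω h => hk1 (hsemi k hk ω h)))
    · obtain ⟨c, hcc, hmove⟩ := exists_moving hN hT htrN htrT
      apply false_of_p_elements hp T hT.ne_bot (hT.center_trivial hN)
      intro t ht ht1
      obtain ⟨k, hk⟩ := hder (t * c) (hmove t ht)
      have hcomm : Commute t c := hcc t ht
      have h1 : (t * c) ^ (p ^ k) = 1 := by rw [← hk]; exact pow_orderOf_eq_one _
      rw [hcomm.mul_pow] at h1
      -- t ^ (p^k) is central in T
      have h2 : t ^ (p ^ k) = (c ^ (p ^ k))⁻¹ := eq_inv_of_mul_eq_one_left h1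
      have h3 : t ^ (p ^ k) = 1 := by
        apply hT.center_trivial hN _ (T.pow_mem ht _)
        intro u hu
        rw [h2]
        have hu' : Commute u c := hcc u hu
        exact (hu'.pow_right _).inv_right
      have h4 : orderOf t ∣ p ^ k := orderOf_dvd_of_pow_eq_one h3
      obtain ⟨j, _, hj⟩ := (Nat.dvd_prime_pow hp).mp h4
      exact ⟨j, hj⟩

end PDer

end Cfsg.Agent.Lib.Helper73.DerP
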