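import Mathlib
import Cfsg.Agent.Lib.Helper73.DerTwo

set_option autoImplicit false

/-!
Regular abelian normal subgroups: conjugacy of nonidentity elements versus point stabilizer orbits.
-/

namespace Cfsg.Agent.Lib.Helper73.DerTwo

open MulAction Cfsg.Agent.Lib.Helper73.DerOne

section

variable {G : Type*} [Group G] {Ω : Type*} [MulAction G Ω]

/-- A regular abelian normal subgroup. -/
structure RegAb (N : Subgroup G) (Ω : Type*) [MulAction G Ω] : Prop where
  normal : N.Normal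
  ab : ∀ x ∈ N, ∀ y ∈ N, x * y = y * x
  trans : ∀ a b : Ω, ∃ n ∈ N, n • a = b
  reg : ∀ n ∈ N, ∀ a : Ω, n • a = a → n = 1

variable {N : Subgroup G}

theorem RegAb.eq_of_smul_eq (R : RegAb N Ω) {m m' : G} (hm : m ∈ N) (hm' : m' ∈ N) (a : Ω)
    (h : m • a = m' • a) : m = m' := by
  have h1 : (m'⁻¹ * m) • a = a := by rw [mul_smul, h, inv_smul_smul]
  have h2 := R.reg _ (N.mul_mem (N.inv_mem hm') hm) a h1
  have : m = m' * (m'⁻¹ * m) := by group
  rw [this, h2, mul_one]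

theorem RegAb.conj_smul {k : G} {a : Ω} (hk : k • a = a) (m : G) :
    (k * m * k⁻¹) • a = k • m • a := by
  have : k⁻¹ • a = a := by rw [inv_smul_eq_iff, hk]
  rw [mul_smul, mul_smul, this]

theorem RegAb.star (R : RegAb N Ω) {n n' : G} (hn : n ∈ N) (hc : IsConj n n') (a : Ω) :
    ∃ h : G, h • a = a ∧ h • n • a = n' • a := by
  obtain ⟨g, hg⟩ := isConj_iff.mp hc
  obtain ⟨m, hm, hma⟩ := R.trans a (g • a)
  have h3 : (m⁻¹ * g) • a = a := by
    rw [mul_smul, ← hma, inv_smul_smul]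
  refine ⟨m⁻¹ * g, h3, ?_⟩
  have hh : (m⁻¹ * g) * n * (m⁻¹ * g)⁻¹ ∈ N := R.normal.conj_mem n hn _
  have h1 : n' = m * ((m⁻¹ * g) * n * (m⁻¹ * g)⁻¹) * m⁻¹ := by
    rw [← hg]; group
  have h2 : n' = (m⁻¹ * g) * n * (m⁻¹ * g)⁻¹ := by
    rw [h1, R.ab m hm _ hh]; group
  rw [h2, RegAb.conj_smul h3]

theorem RegAb.isConj_of_smul (R : RegAb N Ω) {m m' : G} (hm : m ∈ N) (hm' : m' ∈ N) {k : G}
    {a : Ω} (hk : k • a = a) (h : k • m • a = m' • a) : IsConj m m' := by
  rw [← RegAb.conj_smul hk] at h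
  have := R.eq_of_smul_eq (R.normal.conj_mem m hm k) hm' a h
  exact isConj_iff.mpr ⟨k, this⟩

theorem RegAb.two_trans (R : RegAb N Ω)
    (hconj : ∀ n ∈ N, ∀ n' ∈ N, n ≠ 1 → n' ≠ 1 → IsConj n n') :
    ∀ {a b c d : Ω}, a ≠ b → c ≠ d → ∃ g : G, g • a = c ∧ g • b = d := by
  have hstar : ∀ a b b' : Ω, b ≠ a → b' ≠ a → ∃ h : G, h • a = a ∧ h • b = b' := by
    intro a b b' hb hb'
    obtain ⟨n, hn, rfl⟩ := R.trans a b
    obtain ⟨n', hn', rfl⟩ := R.trans a b'
    have hn1 : n ≠ 1 := by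
      rintro rfl
      exact hb (one_smul _ _)
    have hn1' : n' ≠ 1 := by
      rintro rfl
      exact hb' (one_smul _ _)
    exact R.star hn (hconj n hn n' hn' hn1 hn1') a
  intro a b c d hab' hcd
  obtain ⟨g₁, _, hg₁⟩ := R.trans a c
  have hne : g₁⁻¹ • d ≠ a := by
    intro h
    apply hcd
    rw [← hg₁, ← h, smul_inv_smul]
  obtain ⟨h, hha, hhb⟩ := hstar a b (g₁⁻¹ • d) (fun h => hab' h.symm) hne
  refine ⟨g₁ * h, ?_, ?_⟩
  · rw [mul_smul, hha, hg₁]
  · rw [mul_smul, hhb, smul_inv_smul]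

theorem RegAb.sharp [Finite G] (R : RegAb N Ω)
    (hder : ∀ x : G, (∀ ω : Ω, x • ω ≠ ω) → x ∈ N) :
    ∀ g : G, g ≠ 1 → ∀ a b : Ω, a ≠ b → g • a = a → g • b ≠ b := by
  intro g hg1 a b hab' hga hgb
  obtain ⟨n, hn, rfl⟩ := R.trans a b
  have hn1 : n ≠ 1 := by
    rintro rfl
    exact hab' (one_smul _ _).symm
  have hN := R.normal
  have hgn : g * n * g⁻¹ = n := by
    apply R.eq_of_smul_eq (hN.conj_mem n hn g) hn a
    rw [RegAb.conj_smul hga, hgb]
  let φ : N → N := fun m => ⟨(m : G) * (g * (m : G)⁻¹ * g⁻¹),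
    N.mul_mem m.2 (hN.conj_mem _ (N.inv_mem m.2) g)⟩
  have hφ1 : φ 1 = 1 := by
    apply Subtype.ext
    change (1 : G) * (g * (1 : G)⁻¹ * g⁻¹) = 1
    group
  have hφn : φ ⟨n, hn⟩ = 1 := by
    apply Subtype.ext
    change n * (g * n⁻¹ * g⁻¹) = 1
    have : g * n⁻¹ * g⁻¹ = (g * n * g⁻¹)⁻¹ := by group
    rw [this, hgn, mul_inv_cancel]
  have hninj : ¬ Function.Injective φ := by
    intro hinj
    have := hinj (hφn.trans hφ1.symm)
    exact hn1 (congrArg Subtype.val this)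
  rw [Finite.injective_iff_surjective] at hninj
  unfold Function.Surjective at hninj
  push Not at hninj
  obtain ⟨n', hn'⟩ := hninj
  have hD : ∀ ω : Ω, ((n' : G) * g) • ω ≠ ω := by
    intro ω hω
    obtain ⟨m, hm, rfl⟩ := R.trans a ω
    apply hn' ⟨m, hm⟩
    apply Subtype.ext
    change m * (g * m⁻¹ * g⁻¹) = (n' : G)
    have hmem : m⁻¹ * (n' : G) * (g * m * g⁻¹) ∈ N :=
      N.mul_mem (N.mul_mem (N.inv_mem hm) n'.2) (hN.conj_mem m hm g)
    have hfix : (m⁻¹ * (n' : G) * (g * m * g⁻¹)) • a = a := by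
      have h1 : g⁻¹ • a = a := by rw [inv_smul_eq_iff, hga]
      have h2 : m⁻¹ * (n' : G) * (g * m * g⁻¹) = m⁻¹ * ((n' : G) * g) * m * g⁻¹ := by group
      rw [h2, mul_smul, h1, mul_smul, mul_smul, hω, inv_smul_smul]
    have h3 := R.reg _ hmem a hfix
    have h4 : (n' : G) = m * (m⁻¹ * (n' : G) * (g * m * g⁻¹)) * (g * m⁻¹ * g⁻¹) := by group
    rw [h4, h3]; group
  have hmem := hder _ hD
  have hgN : g ∈ N := by
    have : g = (n' : G)⁻¹ * ((n' : G) * g) := by group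
    rw [this]
    exact N.mul_mem (N.inv_mem n'.2) hmem
  exact hg1 (R.reg g hgN a hga)

theorem RegAb.count [Finite G] [Fintype Ω] (R : RegAb N Ω)
    (hsharp : ∀ g : G, g ≠ 1 → ∀ a b : Ω, a ≠ b → g • a = a → g • b ≠ b)
    (n₁ n₂ : G) (h₁ : n₁ ∈ N) (h₂ : n₂ ∈ N) (h₁1 : n₁ ≠ 1) (h₂1 : n₂ ≠ 1) (hnc : ¬ IsConj n₁ n₂)
    (hall : ∀ m ∈ N, m ≠ 1 → IsConj n₁ m ∨ IsConj n₂ m) (α : Ω) :
    2 * Nat.card (stabilizer G α) + 1 = Fintype.card Ω := by
  classical
  have := Fintype.ofFinite (stabilizer G α)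
  let pt : Bool → G := fun i => if i then n₁ else n₂
  have hptN : ∀ i, pt i ∈ N := by
    intro i; cases i
    · exact h₂
    · exact h₁
  have hpt1 : ∀ i, pt i ≠ 1 := by
    intro i; cases i
    · exact h₂1
    · exact h₁1
  have hptc : ∀ i j, IsConj (pt i) (pt j) → i = j := by
    intro i j hc
    cases i <;> cases j
    · rfl
    · exact absurd hc.symm hnc
    · exact absurd hc hnc
    · rfl
  have hmove : ∀ m ∈ N, m ≠ 1 → m • α ≠ α := fun m hm hm1 h => hm1 (R.reg m hm α h)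
  have hcard : (Finset.univ : Finset (stabilizer G α × Bool)).card
      = ((Finset.univ : Finset Ω).erase α).card := by
    apply Finset.card_bij (fun x _ => (x.1 : G) • (pt x.2) • α)
    · intro x _
      rw [Finset.mem_erase]
      refine ⟨?_, Finset.mem_univ _⟩
      intro h
      apply hmove (pt x.2) (hptN _) (hpt1 _)
      have hx : (x.1 : G) • α = α := x.1.2
      calc pt x.2 • α = (x.1 : G)⁻¹ • (x.1 : G) • pt x.2 • α := by rw [inv_smul_smul]
        _ = (x.1 : G)⁻¹ • α := by rw [h]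
        _ = α := by rw [inv_smul_eq_iff, hx]
    · rintro ⟨h, i⟩ _ ⟨h', j⟩ _ heq
      simp only at heq
      have hh : (h : G) • α = α := h.2
      have hh' : (h' : G) • α = α := h'.2
      have hk : ((h' : G)⁻¹ * (h : G)) • α = α := by
        rw [mul_smul, hh, inv_smul_eq_iff, hh']
      have hk2 : ((h' : G)⁻¹ * (h : G)) • pt i • α = pt j • α := by
        rw [mul_smul, heq, inv_smul_smul]
      have hij : i = j := hptc i j (R.isConj_of_smul (hptN i) (hptN j) hk hk2)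
      subst hij
      have hk1 : (h' : G)⁻¹ * (h : G) = 1 := by
        by_contra hne
        exact hsharp _ hne α (pt i • α) (fun h => hmove _ (hptN i) (hpt1 i) h.symm) hk hk2
      have : (h : G) = (h' : G) := by
        have : (h : G) = (h' : G) * ((h' : G)⁻¹ * (h : G)) := by group
        rw [this, hk1, mul_one]
      rw [Subtype.ext this]
    · intro b hb
      rw [Finset.mem_erase] at hb
      obtain ⟨m, hm, rfl⟩ := R.trans α b
      have hm1 : m ≠ 1 := by
        rintro rfl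
        exact hb.1 (one_smul _ _)
      rcases hall m hm hm1 with hc | hc
      · obtain ⟨h, hh, hh2⟩ := R.star h₁ hc α
        exact ⟨(⟨h, hh⟩, true), Finset.mem_univ _, hh2⟩
      · obtain ⟨h, hh, hh2⟩ := R.star h₂ hc α
        exact ⟨(⟨h, hh⟩, false), Finset.mem_univ _, hh2⟩
  rw [Finset.card_univ, Fintype.card_prod, Fintype.card_bool,
    Finset.card_erase_of_mem (Finset.mem_univ _), Finset.card_univ] at hcard
  rw [Nat.card_eq_fintype_card]
  have : 1 ≤ Fintype.card Ω := Fintype.card_pos_iff.mpr ⟨α⟩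
  omega

end

end Cfsg.Agent.Lib.Helper73.DerTwo
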