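import Mathlib
import Cfsg.Agent.Lib.Helper73.DerTwo

set_option autoImplicit false

/-!
Primitive groups with at most two classes of derangements: the nonabelian minimal normal case.
-/

namespace Cfsg.Agent.Lib.Helper73.DerTwo

open MulAction Cfsg.Agent.Lib.Helper73.DerOne

section Inv

variable {G : Type*} [Group G]

/-- The set of `g` such that `x` centralizes the conjugate `g T g⁻¹`. -/
def centSet (T : Subgroup G) (x : G) : Set G :=
  {g | ∀ u ∈ T, x * (g * u * g⁻¹) = (g * u * g⁻¹) * x}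

theorem centSet_conj (T : Subgroup G) (h c : G) :
    centSet T (h * c * h⁻¹) = (fun g => h * g) '' centSet T c := by
  ext g
  constructor
  · intro hg
    refine ⟨h⁻¹ * g, ?_, by group⟩
    intro u hu
    have := hg u hu
    calc c * (h⁻¹ * g * u * (h⁻¹ * g)⁻¹)
        = h⁻¹ * ((h * c * h⁻¹) * (g * u * g⁻¹)) * h := by group
      _ = h⁻¹ * ((g * u * g⁻¹) * (h * c * h⁻¹)) * h := by rw [this]
      _ = (h⁻¹ * g * u * (h⁻¹ * g)⁻¹) * c := by group
  · rintro ⟨g', hg', rfl⟩
    intro u hu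
    have := hg' u hu
    calc (h * c * h⁻¹) * (h * g' * u * (h * g')⁻¹)
        = h * (c * (g' * u * g'⁻¹)) * h⁻¹ := by group
      _ = h * ((g' * u * g'⁻¹) * c) * h⁻¹ := by rw [this]
      _ = (h * g' * u * (h * g')⁻¹) * (h * c * h⁻¹) := by group

theorem ncard_centSet_of_isConj (T : Subgroup G) {x y : G} (hxy : IsConj x y) :
    (centSet T x).ncard = (centSet T y).ncard := by
  obtain ⟨h, rfl⟩ := isConj_iff.mp hxy
  rw [centSet_conj]
  exact (Set.ncard_image_of_injective _ (mul_right_injective h)).symm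

variable [Finite G]

theorem ncard_centSet_lt {N T : Subgroup G} (hN : MinNormal N) (hT : MinSub N T) (t c : G)
    (ht : t ∈ T) (ht1 : t ≠ 1) (hcc : ∀ u ∈ T, u * c = c * u) :
    (centSet T (t * c)).ncard < (centSet T c).ncard := by
  have hkey : ¬ ∀ u ∈ T, (t * c) * u = u * (t * c) := by
    intro hall
    apply ht1
    apply hT.center_trivial hN t ht
    intro u hu
    have h1 := hall u hu
    have h2 := hcc u hu
    have : t * u * c = u * t * c := by
      rw [mul_assoc, h2, ← mul_assoc, h1, mul_assoc]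
    exact (mul_right_cancel this).symm
  have hsub : centSet T (t * c) ⊂ centSet T c := by
    rw [Set.ssubset_iff_of_subset]
    · refine ⟨1, ?_, ?_⟩
      · intro u hu
        simp only [one_mul, inv_one, mul_one]
        exact (hcc u hu).symm
      · intro h1
        apply hkey
        intro u hu
        have := h1 u hu
        simpa using this
    · intro g hg u hu
      rcases hT.conj_eq_or_commute hN.normal g with hgT | hgT
      · exfalso
        apply hkey
        intro v hv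
        rw [← hgT] at hv
        obtain ⟨w, hw, rfl⟩ := (mem_map_conj g _).mp hv
        exact hg w hw
      · have h1 := hg u hu
        have h2 := hgT t ht u hu
        generalize g * u * g⁻¹ = v at h1 h2 ⊢
        have : t * (c * v) = t * (v * c) := by
          rw [← mul_assoc, h1, ← mul_assoc, ← h2, mul_assoc]
        exact mul_left_cancel this
  exact Set.ncard_lt_ncard hsub (Set.toFinite _)

end Inv

section

variable {G : Type*} [Group G] [Finite G] {Ω : Type*} [Fintype Ω] [MulAction G Ω]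
  [FaithfulSMul G Ω]

theorem Hyp2.centralizer_eq_bot (H : Hyp2 G Ω) {N : Subgroup G} (hN : MinNormal N) :
    Subgroup.centralizer (N : Set G) = ⊥ := by
  by_contra hC
  have := hN.normal
  have hCn : (Subgroup.centralizer (N : Set G)).Normal := Subgroup.normal_centralizer
  have htrC := H.trans _ hCn hC
  have htrN := H.trans N hN.normal hN.ne_bot
  have hsemiN : ∀ n ∈ N, ∀ a : Ω, n • a = a → n = 1 := by
    intro n hn a ha
    apply eq_one_of_commute_transitive _ htrC n _ a ha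
    intro k hk
    exact (Subgroup.mem_centralizer_iff.mp hk n hn).symm
  have hsemiC : ∀ c ∈ Subgroup.centralizer (N : Set G), ∀ a : Ω, c • a = a → c = 1 := by
    intro c hc a ha
    apply eq_one_of_commute_transitive _ htrN c _ a ha
    intro k hk
    exact Subgroup.mem_centralizer_iff.mp hc k hk
  -- an element of prime order in the centralizer
  obtain ⟨c₀, hc₀⟩ := Subgroup.ne_bot_iff_exists_ne_one.mp hC
  have hc₀1 : (c₀ : G) ≠ 1 := fun h => hc₀ (Subtype.ext h)
  have hord : orderOf (c₀ : G) ≠ 1 := fun h => hc₀1 (orderOf_eq_one_iff.mp h)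
  obtain ⟨q, hq, hqd⟩ := Nat.exists_prime_and_dvd hord
  have hcq : orderOf ((c₀ : G) ^ (orderOf (c₀ : G) / q)) = q :=
    orderOf_pow_orderOf_div (orderOf_pos _).ne' hqd
  set c := (c₀ : G) ^ (orderOf (c₀ : G) / q) with hcdef
  have hcC : c ∈ Subgroup.centralizer (N : Set G) := Subgroup.pow_mem _ c₀.2 _
  obtain ⟨p₁, p₂, hp₁, hp₂, hne, ⟨x, hx, hxo⟩, ⟨y, hy, hyo⟩⟩ :=
    exists_two_prime_orders N hN.ne_bot hN.center_trivial
  obtain ⟨p, hp, n, hn, hno, hpq⟩ : ∃ p : ℕ, p.Prime ∧ ∃ n ∈ N, orderOf n = p ∧ p ≠ q := by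
    by_cases h : p₁ = q
    · exact ⟨p₂, hp₂, y, hy, hyo, fun h' => hne (h.trans h'.symm)⟩
    · exact ⟨p₁, hp₁, x, hx, hxo, h⟩
  have hcomm : n * c = c * n := Subgroup.mem_centralizer_iff.mp hcC n hn
  have hnp : n ^ p = 1 := by rw [← hno]; exact pow_orderOf_eq_one n
  exact H.false_of_commuting_primes n c p q hp hq hpq hno hcq hcomm
    (derangement_of_semiregular N hsemiN n hn (ne_one_of_orderOf_prime hp hno))
    (derangement_of_semiregular _ hsemiC c hcC (ne_one_of_orderOf_prime hq hcq))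
    (derangement_of_commute_pow _ hsemiC n c hcC hcomm p hnp
      (pow_ne_one_of_prime_ne hp hq hpq hcq))

theorem Hyp2.simple_case (H : Hyp2 G Ω) {N : Subgroup G} (hN : MinNormal N)
    (hsimp : ∀ T : Subgroup G, T ≤ N → T ≠ ⊥ → (∀ n ∈ N, ∀ t ∈ T, n * t * n⁻¹ ∈ T) → T = N) :
    ∃ T : Subgroup G, T.Normal ∧ IsSimpleGroup T ∧ ¬ IsMulCommutative T ∧
      Subgroup.centralizer (T : Set G) = ⊥ := by
  refine ⟨N, hN.normal, ?_, ?_, H.centralizer_eq_bot hN⟩
  · have : Nontrivial N := (Subgroup.nontrivial_iff_ne_bot N).mpr hN.ne_bot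
    refine ⟨fun K hK => ?_⟩
    by_cases hb : K = ⊥
    · left; exact hb
    · right
      have h1 := hsimp (K.map N.subtype) (Subgroup.map_subtype_le K) ?_ ?_
      · rw [eq_top_iff]
        intro x _
        have hx : (x : G) ∈ K.map N.subtype := by rw [h1]; exact x.2
        obtain ⟨k, hk, hkx⟩ := Subgroup.mem_map.mp hx
        have : k = x := Subtype.ext hkx
        rwa [← this]
      · intro h
        apply hb
        rwa [Subgroup.map_eq_bot_iff_of_injective _ N.subtype_injective] at h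
      · intro n hn t ht
        obtain ⟨k, hk, rfl⟩ := Subgroup.mem_map.mp ht
        exact Subgroup.mem_map.mpr ⟨⟨n, hn⟩ * k * ⟨n, hn⟩⁻¹, hK.conj_mem k hk _, rfl⟩
  · intro hcomm
    apply hN.nonab
    intro x hx y hy
    have := hcomm.is_comm.comm (⟨x, hx⟩ : N) ⟨y, hy⟩
    exact congrArg Subtype.val this

theorem Hyp2.minSub_not_transitive (H : Hyp2 G Ω) {N T : Subgroup G} (hN : MinNormal N)
    (hT : MinSub N T) (htr : ∀ a b : Ω, ∃ t ∈ T, t • a = b) : False := by
  obtain ⟨g, hg⟩ := hT.exists_conj_ne hN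
  rcases hT.conj_eq_or_commute hN.normal g with h | h
  · exact hg h
  · have htr' : ∀ a b : Ω, ∃ k ∈ T.map (MulAut.conj g).toMonoidHom, k • a = b := by
      intro a b
      obtain ⟨t, ht, hta⟩ := htr (g⁻¹ • a) (g⁻¹ • b)
      refine ⟨g * t * g⁻¹, (mem_map_conj g _).mpr ⟨t, ht, rfl⟩, ?_⟩
      rw [mul_smul, mul_smul, hta, smul_inv_smul]
    have hsemi : ∀ t ∈ T, ∀ a : Ω, t • a = a → t = 1 := by
      intro t ht a ha
      apply eq_one_of_commute_transitive _ htr' t _ a ha
      intro k hk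
      obtain ⟨u, hu, rfl⟩ := (mem_map_conj g _).mp hk
      exact (h t ht u hu).symm
    have hsemi' : ∀ k ∈ T.map (MulAut.conj g).toMonoidHom, ∀ a : Ω, k • a = a → k = 1 := by
      intro k hk a ha
      obtain ⟨u, hu, rfl⟩ := (mem_map_conj g _).mp hk
      apply eq_one_of_commute_transitive _ htr _ _ a ha
      intro t ht
      exact h t ht u hu
    obtain ⟨p, q, hp, hq, hpq, ⟨x, hx, hxo⟩, ⟨y, hy, hyo⟩⟩ :=
      exists_two_prime_orders T hT.ne_bot (hT.center_trivial hN)
    have huo : orderOf (g * y * g⁻¹) = q := by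
      rw [← hyo]
      exact (orderOf_eq_of_isConj (isConj_iff.mpr ⟨g, rfl⟩)).symm
    have humem : g * y * g⁻¹ ∈ T.map (MulAut.conj g).toMonoidHom :=
      (mem_map_conj g _).mpr ⟨y, hy, rfl⟩
    have hcomm : x * (g * y * g⁻¹) = (g * y * g⁻¹) * x := h x hx y hy
    have hxp : x ^ p = 1 := by rw [← hxo]; exact pow_orderOf_eq_one x
    exact H.false_of_commuting_primes x (g * y * g⁻¹) p q hp hq hpq hxo huo hcomm
      (derangement_of_semiregular T hsemi x hx (ne_one_of_orderOf_prime hp hxo))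
      (derangement_of_semiregular _ hsemi' _ humem (ne_one_of_orderOf_prime hq huo))
      (derangement_of_commute_pow _ hsemi' x _ humem hcomm p hxp
        (pow_ne_one_of_prime_ne hp hq hpq huo))

omit [FaithfulSMul G Ω] in
theorem Hyp2.minSub_transitive (H : Hyp2 G Ω) {N T : Subgroup G} (hN : MinNormal N)
    (hT : MinSub N T) : ∀ a b : Ω, ∃ t ∈ T, t • a = b := by
  by_contra hnt
  push Not at hnt
  obtain ⟨a₀, b₀, hab₀⟩ := hnt
  let r : Setoid Ω :=
    { r := fun a b => ∃ t ∈ T, t • a = b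
      iseqv := ⟨fun a => ⟨1, T.one_mem, one_smul _ _⟩,
        fun ⟨t, ht, h⟩ => ⟨t⁻¹, T.inv_mem ht, by rw [← h, inv_smul_smul]⟩,
        fun ⟨t, ht, h⟩ ⟨t', ht', h'⟩ => ⟨t' * t, T.mul_mem ht' ht, by rw [mul_smul, h, h']⟩⟩ }
  have hr : ∀ a b, r a b ↔ ∃ t ∈ T, t • a = b := fun a b => Iff.rfl
  have : IsPretransitive N Ω := by
    refine ⟨fun a b => ?_⟩
    obtain ⟨n, hn, h⟩ := H.trans N hN.normal hN.ne_bot a b
    exact ⟨⟨n, hn⟩, h⟩
  obtain ⟨k, hk⟩ := exists_moving_all_classes (K := N) (X := Ω) r (by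
    intro k a b hab
    obtain ⟨t, ht, rfl⟩ := (hr a b).mp hab
    refine (hr _ _).mpr ⟨(k : G) * t * (k : G)⁻¹, hT.inv k k.2 t ht, ?_⟩
    change ((k : G) * t * (k : G)⁻¹) • (k : G) • a = (k : G) • t • a
    rw [← mul_smul, ← mul_smul]; congr 1; group)
    ⟨a₀, b₀, fun h => by
      obtain ⟨t, ht, h'⟩ := (hr _ _).mp h
      exact hab₀ t ht h'⟩
  obtain ⟨t, ht, c, hc, hcc, hkc⟩ := hT.decomp hN (k : G) k.2
  have hcmove : ∀ ω : Ω, ¬ r (c • ω) ω := by
    intro ω hω
    apply hk ω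
    have h1 : r ((k : G) • ω) (c • ω) := by
      rw [hkc, mul_smul]
      exact (hr _ _).mpr ⟨t⁻¹, T.inv_mem ht, inv_smul_smul _ _⟩
    exact r.trans h1 hω
  have hD1 : ∀ ω : Ω, c • ω ≠ ω := fun ω h => hcmove ω (by rw [h])
  have hD2 : ∀ t' ∈ T, ∀ ω : Ω, (t' * c) • ω ≠ ω := by
    intro t' ht' ω h
    apply hcmove ω
    rw [mul_smul] at h
    exact (hr _ _).mpr ⟨t', ht', h⟩
  obtain ⟨p, q, hp, hq, hpq, ⟨x, hx, hxo⟩, ⟨y, hy, hyo⟩⟩ :=
    exists_two_prime_orders T hT.ne_bot (hT.center_trivial hN)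
  have hx1 := ne_one_of_orderOf_prime hp hxo
  have hy1 := ne_one_of_orderOf_prime hq hyo
  rcases H.conj3 c (x * c) (y * c) hD1 (hD2 x hx) (hD2 y hy) with h | h | h
  · have h1 := ncard_centSet_of_isConj T h
    have h2 := ncard_centSet_lt hN hT x c hx hx1 hcc
    omega
  · have h1 := ncard_centSet_of_isConj T h
    have h2 := ncard_centSet_lt hN hT y c hy hy1 hcc
    omega
  · have h1 := ncard_centSet_of_isConj T (isConj_pow h p)
    have hcx : Commute x c := (hcc x hx)
    have hcy : Commute y c := (hcc y hy)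
    have hxp : x ^ p = 1 := by rw [← hxo]; exact pow_orderOf_eq_one x
    rw [hcx.mul_pow, hcy.mul_pow, hxp, one_mul] at h1
    have hccp : ∀ u ∈ T, u * c ^ p = c ^ p * u := by
      intro u hu
      have : Commute u c := hcc u hu
      exact this.pow_right p
    have h2 := ncard_centSet_lt hN hT (y ^ p) (c ^ p) (T.pow_mem hy p)
      (pow_ne_one_of_prime_ne hp hq hpq hyo) hccp
    omega

theorem Hyp2.nonabelian_case (H : Hyp2 G Ω) {N : Subgroup G} (hN : MinNormal N) :
    ∃ T : Subgroup G, T.Normal ∧ IsSimpleGroup T ∧ ¬ IsMulCommutative T ∧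
      Subgroup.centralizer (T : Set G) = ⊥ := by
  by_cases hsimp : ∀ T : Subgroup G, T ≤ N → T ≠ ⊥ →
      (∀ n ∈ N, ∀ t ∈ T, n * t * n⁻¹ ∈ T) → T = N
  · exact H.simple_case hN hsimp
  · exfalso
    let S : Set (Subgroup G) :=
      {T | T ≤ N ∧ T ≠ ⊥ ∧ (∀ n ∈ N, ∀ t ∈ T, n * t * n⁻¹ ∈ T) ∧ T ≠ N}
    have hS : S.Nonempty := by
      push Not at hsimp
      obtain ⟨T, h1, h2, h3, h4⟩ := hsimp
      exact ⟨T, h1, h2, h3, h4⟩
    obtain ⟨T, hTS, hTmin⟩ := wellFounded_lt.has_min S hS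
    have hT : MinSub N T := by
      refine ⟨hTS.1, hTS.2.1, hTS.2.2.1, ?_, hTS.2.2.2⟩
      intro U hU hU1 hUinv
      by_contra hne
      have hlt : U < T := lt_of_le_of_ne hU hne
      apply hTmin U _ hlt
      refine ⟨hU.trans hTS.1, hU1, hUinv, ?_⟩
      intro h
      rw [h] at hlt
      exact absurd (lt_of_lt_of_le hlt hTS.1) (lt_irrefl _)
    exact H.minSub_not_transitive hN hT (H.minSub_transitive hN hT)

end

end Cfsg.Agent.Lib.Helper73.DerTwo
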