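import Mathlib
import Cfsg.Prelude.Def_Local
import Cfsg.Agent.S0081
import Cfsg.Agent.Lib.Helper53.Huppert
import Cfsg.Agent.Lib.Helper22.BP3
import Cfsg.Agent.Lib.Helper23.PComponent
import Cfsg.Agent.Lib.Helper19.PNil
import Cfsg.Agent.Lib.Helper55.Cores
import Cfsg.Agent.Lib.Helper55.SolvCore

set_option autoImplicit false

/-!
# Two-generated Sylow subgroups with core-free Frattini subgroup: first reductions (helper73)
-/

namespace Cfsg.Agent.Lib.Helper73.FStarMin

open Subgroup Cfsg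

universe u

theorem mem_frattini_of_equiv {A B : Type*} [Group A] [Group B] (e : A ≃* B) {a : A}
    (ha : a ∈ frattini A) : e a ∈ frattini B :=
  frattini_le_comap_frattini_of_surjective (φ := e.toMonoidHom) e.surjective ha

section
variable {G : Type u} [Group G] [Finite G] {p : ℕ} [hp : Fact p.Prime]

theorem pPrimeCore_eq_bot_of_isSubnormal (hcore : pPrimeCore p G = ⊥) {A : Subgroup G}
    (hA : A.IsSubnormal) : pPrimeCore p ↥A = ⊥ := by
  have hn : (pPrimeCore p ↥A).Normal := Cfsg.Agent.Lib.Helper55.pPrimeCore_normal' p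
  have h1 : ((pPrimeCore p ↥A).map A.subtype).IsSubnormal := hn.isSubnormal.trans' hA
  have hc : (Nat.card ((pPrimeCore p ↥A).map A.subtype)).Coprime p := by
    rw [Subgroup.card_map_of_injective A.subtype_injective]
    exact Cfsg.Agent.Lib.Helper55.pPrimeCore_card_coprime p
  have h2 := Cfsg.Agent.Lib.Helper23.subnormal_coprime_le_pPrimeCore p h1 hc
  rw [hcore, le_bot_iff] at h2
  exact (Subgroup.map_eq_bot_iff_of_injective _ A.subtype_injective).mp h2

/-- Tate's theorem for a subnormal subgroup normalized by the Sylow subgroup. -/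
theorem isPGroup_of_inf_le_frattini (P : Sylow p G) (hcore : pPrimeCore p G = ⊥) {A : Subgroup G}
    (hA : A.IsSubnormal) (hPA : (P : Subgroup G) ≤ normalizer (A : Set G))
    (h : A ⊓ (P : Subgroup G) ≤ (frattini ↥(P : Subgroup G)).map (P : Subgroup G).subtype) :
    IsPGroup p ↥A := by
  have hA0 := pPrimeCore_eq_bot_of_isSubnormal hcore hA
  set X : Subgroup G := normalizer (A : Set G) with hX
  let P' : Sylow p ↥X := P.subtype hPA
  have hN' : (A.subgroupOf X).Normal := Subgroup.normal_in_normalizer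
  have key : A.subgroupOf X ⊓ (P' : Subgroup ↥X) ≤
      (frattini ↥(P' : Subgroup ↥X)).map (P' : Subgroup ↥X).subtype := by
    rintro z ⟨hzA, hzP⟩
    have hzA' : (z : G) ∈ A := Subgroup.mem_subgroupOf.mp hzA
    have hzP' : (z : G) ∈ (P : Subgroup G) := Subgroup.mem_subgroupOf.mp hzP
    obtain ⟨f, hf, hfz⟩ := h ⟨hzA', hzP'⟩
    let e := Subgroup.subgroupOfEquivOfLe hPA
    refine ⟨e.symm f, mem_frattini_of_equiv e.symm hf, ?_⟩
    apply Subtype.ext
    rw [← hfz]
    rfl
  have hnpc := Cfsg.Agent.S0081.result P' (A.subgroupOf X) key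
  let e : ↥(A.subgroupOf X) ≃* ↥A := Subgroup.subgroupOfEquivOfLe le_normalizer
  have hN0 : pPrimeCore p ↥(A.subgroupOf X) = ⊥ :=
    Cfsg.Agent.Lib.Helper22.BP.pPrimeCore_eq_bot_of_mulEquiv p e.symm hA0
  obtain ⟨M, hMn, hMc, k, hk⟩ := Cfsg.Agent.Lib.Helper19.normal_hall_of_hnpc hnpc
  have hM : M = ⊥ := by
    have h1 := Cfsg.Agent.Lib.Helper55.le_pPrimeCore p M hMc
    rw [hN0] at h1
    exact le_bot_iff.mp h1
  rw [hM, Subgroup.index_bot] at hk
  have hcard : Nat.card ↥A = p ^ k := by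
    rw [← Nat.card_congr e.toEquiv]
    exact hk
  exact IsPGroup.of_card hcard

end

end Cfsg.Agent.Lib.Helper73.FStarMin
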