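import Cfsg.Agent.Lib.Helper73.FStarMinA

set_option autoImplicit false
set_option linter.style.haveILetI false

/-!
# Two-generated Sylow subgroups with core-free Frattini subgroup: the unique minimal normal
subgroup (helper73)
-/

namespace Cfsg.Agent.Lib.Helper73.FStarMin

open Subgroup Cfsg
open scoped commutatorElement

universe u

section
variable {G : Type u} [Group G] [Finite G] {p : ℕ} [hp : Fact p.Prime]

/-- `P / (P ∩ N)` is cyclic when `P ∩ N ≰ Φ(P)` and `|P : Φ(P)| = p²`. -/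
theorem isCyclic_quot_of_not_le (P : Sylow p G)
    (hgen : (frattini ↥(P : Subgroup G)).index = p ^ 2) (N : Subgroup G)
    [hn : (N.subgroupOf (P : Subgroup G)).Normal]
    (h : ¬ N ⊓ (P : Subgroup G) ≤ (frattini ↥(P : Subgroup G)).map (P : Subgroup G).subtype) :
    IsCyclic (↥(P : Subgroup G) ⧸ N.subgroupOf (P : Subgroup G)) := by
  obtain ⟨x, hx, hxn⟩ := SetLike.not_le_iff_exists.mp h
  have hxP : x ∈ (P : Subgroup G) := hx.2
  apply Cfsg.Agent.Lib.Helper53.isCyclic_quotient_of_not_mem_frattini (p := p)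
    (by rw [hgen]) ⟨x, hxP⟩ ?_ _ ?_
  · intro hmem
    exact hxn ⟨⟨x, hxP⟩, hmem, rfl⟩
  · exact Subgroup.mem_subgroupOf.mpr hx.1

theorem commutator_le_of_not_le (P : Sylow p G)
    (hgen : (frattini ↥(P : Subgroup G)).index = p ^ 2) (N : Subgroup G)
    [hn : (N.subgroupOf (P : Subgroup G)).Normal]
    (h : ¬ N ⊓ (P : Subgroup G) ≤ (frattini ↥(P : Subgroup G)).map (P : Subgroup G).subtype) :
    commutator ↥(P : Subgroup G) ≤ N.subgroupOf (P : Subgroup G) := by
  haveI := isCyclic_quot_of_not_le P hgen N h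
  letI : CommGroup (↥(P : Subgroup G) ⧸ N.subgroupOf (P : Subgroup G)) := IsCyclic.commGroup
  have h1 := Abelianization.commutator_subset_ker
    (QuotientGroup.mk' (N.subgroupOf (P : Subgroup G)))
  rwa [QuotientGroup.ker_mk'] at h1

/-- Two `P`-invariant subgroups, both meeting `P` outside `Φ(P)` and meeting each other trivially
inside `P`, force `P` to be commutative. -/
theorem isMulCommutative_of_two (P : Sylow p G)
    (hgen : (frattini ↥(P : Subgroup G)).index = p ^ 2) (A B : Subgroup G)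
    [hnA : (A.subgroupOf (P : Subgroup G)).Normal] [hnB : (B.subgroupOf (P : Subgroup G)).Normal]
    (hA : ¬ A ⊓ (P : Subgroup G) ≤ (frattini ↥(P : Subgroup G)).map (P : Subgroup G).subtype)
    (hB : ¬ B ⊓ (P : Subgroup G) ≤ (frattini ↥(P : Subgroup G)).map (P : Subgroup G).subtype)
    (hAB : A ⊓ B ⊓ (P : Subgroup G) = ⊥) : IsMulCommutative ↥(P : Subgroup G) := by
  have h1 := commutator_le_of_not_le P hgen A hA
  have h2 := commutator_le_of_not_le P hgen B hB
  refine ⟨⟨fun a b => ?_⟩⟩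
  have h3 : ⁅a, b⁆ ∈ commutator ↥(P : Subgroup G) := by
    rw [_root_.commutator_def]
    exact Subgroup.commutator_mem_commutator (Subgroup.mem_top a) (Subgroup.mem_top b)
  have h4 : ((⁅a, b⁆ : ↥(P : Subgroup G)) : G) ∈ A ⊓ B ⊓ (P : Subgroup G) :=
    ⟨⟨Subgroup.mem_subgroupOf.mp (h1 h3), Subgroup.mem_subgroupOf.mp (h2 h3)⟩, (⁅a, b⁆).2⟩
  rw [hAB, Subgroup.mem_bot] at h4
  have h5 : ⁅a, b⁆ = 1 := Subtype.ext h4
  exact commutatorElement_eq_one_iff_mul_comm.mp h5

/-- Every nontrivial normal subgroup meets `P` outside `Φ(P)`. -/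
theorem not_inf_le_of_normal (P : Sylow p G) (hcore : pPrimeCore p G = ⊥)
    (hfrat : ((frattini ↥(P : Subgroup G)).map (P : Subgroup G).subtype).normalCore = ⊥)
    (N : Subgroup G) [hN : N.Normal] (hN0 : N ≠ ⊥) :
    ¬ N ⊓ (P : Subgroup G) ≤ (frattini ↥(P : Subgroup G)).map (P : Subgroup G).subtype := by
  intro h
  have hPN : (P : Subgroup G) ≤ normalizer (N : Set G) := by
    rw [Subgroup.normalizer_eq_top]
    exact le_top
  have hpg := isPGroup_of_inf_le_frattini P hcore hN.isSubnormal hPN h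
  have hNP : N ≤ (P : Subgroup G) := hpg.le_sylow_of_normal P
  have h1 : N ≤ (frattini ↥(P : Subgroup G)).map (P : Subgroup G).subtype := by
    intro x hx
    exact h ⟨hx, hNP hx⟩
  have h2 : N ≤ ((frattini ↥(P : Subgroup G)).map (P : Subgroup G).subtype).normalCore :=
    Subgroup.normal_le_normalCore.mpr h1
  rw [hfrat, le_bot_iff] at h2
  exact hN0 h2

/-- The unique minimal normal subgroup. -/
theorem exists_min_normal (P : Sylow p G) (hna : ¬ IsMulCommutative (P : Subgroup G))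
    (hgen : (frattini ↥(P : Subgroup G)).index = p ^ 2) (hcore : pPrimeCore p G = ⊥)
    (hfrat : ((frattini ↥(P : Subgroup G)).map (P : Subgroup G).subtype).normalCore = ⊥) :
    ∃ M : Subgroup G, M.Normal ∧ M ≠ ⊥ ∧ ∀ K : Subgroup G, K.Normal → K ≠ ⊥ → M ≤ K := by
  have htop : (⊤ : Subgroup G) ≠ ⊥ := by
    intro h
    apply hna
    refine ⟨⟨fun a b => ?_⟩⟩
    have ha : (a : G) ∈ (⊥ : Subgroup G) := h ▸ Subgroup.mem_top _
    have hb : (b : G) ∈ (⊥ : Subgroup G) := h ▸ Subgroup.mem_top _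
    rw [Subgroup.mem_bot] at ha hb
    apply Subtype.ext
    simp [ha, hb]
  let S : Set (Subgroup G) := {N | N.Normal ∧ N ≠ ⊥}
  have hS : S.Nonempty := ⟨⊤, inferInstance, htop⟩
  obtain ⟨M, ⟨hMn, hM0⟩, hmin⟩ := wellFounded_lt.has_min S hS
  refine ⟨M, hMn, hM0, ?_⟩
  intro K hKn hK0
  have hne : M ⊓ K ≠ ⊥ := by
    intro hbot
    apply hna
    haveI : (M.subgroupOf (P : Subgroup G)).Normal := Subgroup.normal_subgroupOf
    haveI : (K.subgroupOf (P : Subgroup G)).Normal := Subgroup.normal_subgroupOf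
    apply isMulCommutative_of_two P hgen M K
      (not_inf_le_of_normal P hcore hfrat M hM0) (not_inf_le_of_normal P hcore hfrat K hK0)
    rw [hbot, bot_inf_eq]
  have hmem : M ⊓ K ∈ S := ⟨inferInstance, hne⟩
  have h1 := hmin (M ⊓ K) hmem
  have h2 : M ⊓ K = M := by
    by_contra hneq
    exact h1 (lt_of_le_of_ne inf_le_left hneq)
  rw [← h2]
  exact inf_le_right

end

end Cfsg.Agent.Lib.Helper73.FStarMin
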