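import Cfsg.Agent.Lib.Helper73.FStarMinB
import Cfsg.Agent.Lib.Helper22.FStar
import Cfsg.Agent.Lib.Helper22.Fitting
import Cfsg.Agent.Lib.Helper24.Omega1
import Cfsg.Agent.Lib.Helper30.FStarQuot
import Cfsg.Agent.Lib.Helper91.InnerAut

set_option autoImplicit false
set_option linter.style.haveILetI false

/-!
# Two-generated Sylow subgroups with core-free Frattini subgroup: the layer is trivial when
`O_p(G) ≠ 1` (helper73)
-/

namespace Cfsg.Agent.Lib.Helper73.FStarMin

open Subgroup Cfsg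
open scoped commutatorElement

universe u

/-- Transfer: a central element of `X` lying in `X'` and in a Sylow subgroup `Q` lies in `Q'`. -/
theorem mem_commutator_sylow_of_center {X : Type*} [Group X] [Finite X] {p : ℕ} [Fact p.Prime]
    (Q : Sylow p X) {z : X} (hzQ : z ∈ (Q : Subgroup X)) (hzc : z ∈ Subgroup.center X)
    (hzX : z ∈ commutator X) :
    z ∈ (commutator ↥(Q : Subgroup X)).map (Q : Subgroup X).subtype := by
  have key : ∀ (k : ℕ) (g₀ : X), g₀⁻¹ * z ^ k * g₀ ∈ (Q : Subgroup X) →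
      g₀⁻¹ * z ^ k * g₀ = z ^ k := by
    intro k g₀ _
    have h1 : z ^ k ∈ Subgroup.center X := (Subgroup.center X).pow_mem hzc k
    have h2 := (Subgroup.mem_center_iff.mp h1) g₀
    rw [mul_assoc, ← h2, inv_mul_cancel_left]
  let φ : ↥(Q : Subgroup X) →* Abelianization ↥(Q : Subgroup X) := Abelianization.of
  have h1 := MonoidHom.transfer_eq_pow φ z key
  have h2 : MonoidHom.transfer φ z = 1 :=
    (Abelianization.commutator_subset_ker (MonoidHom.transfer φ)) hzX
  rw [h2] at h1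
  have hmem : z ^ (Q : Subgroup X).index ∈ (Q : Subgroup X) := Subgroup.pow_mem _ hzQ _
  have h3 : (⟨z ^ (Q : Subgroup X).index, hmem⟩ : ↥(Q : Subgroup X)) ∈
      commutator ↥(Q : Subgroup X) := by
    rw [← Abelianization.ker_of, MonoidHom.mem_ker]
    exact h1.symm
  have hcop : ((Q : Subgroup X).index).Coprime (orderOf z) := by
    obtain ⟨k, hk⟩ := (IsPGroup.iff_orderOf.mp Q.isPGroup') ⟨z, hzQ⟩
    rw [Subgroup.orderOf_mk] at hk
    rw [hk]
    apply Nat.Coprime.pow_right
    have hp : p.Prime := Fact.out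
    exact ((Nat.Prime.coprime_iff_not_dvd hp).mpr Q.not_dvd_index).symm
  obtain ⟨m, hm⟩ := exists_pow_eq_self_of_coprime hcop
  refine ⟨⟨z ^ (Q : Subgroup X).index, hmem⟩ ^ m, Subgroup.pow_mem _ h3 m, ?_⟩
  simpa using hm

section
variable {G : Type u} [Group G] [Finite G] {p : ℕ} [hp : Fact p.Prime]

/-- A normal `p`-subgroup which is central in a perfect normal subgroup `E` lies in `Φ(P)`. -/
theorem le_frattini_of_central_perfect (P : Sylow p G) (M E : Subgroup G) [hMn : M.Normal]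
    (hMp : IsPGroup p ↥M) (hME : M ≤ E) (hcent : M ≤ centralizer (E : Set G))
    (hperf : ⁅E, E⁆ = E) :
    M ≤ (frattini ↥(P : Subgroup G)).map (P : Subgroup G).subtype := by
  -- a Sylow subgroup of `E`
  obtain ⟨Q⟩ : Nonempty (Sylow p ↥E) := inferInstance
  have hMEn : (M.subgroupOf E).Normal := Subgroup.normal_subgroupOf
  have hMEp : IsPGroup p ↥(M.subgroupOf E) :=
    hMp.of_equiv (Subgroup.subgroupOfEquivOfLe hME).symm
  have hMQ : M.subgroupOf E ≤ (Q : Subgroup ↥E) := hMEp.le_sylow_of_normal Q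
  have hcommE : commutator ↥E = ⊤ := by
    rw [_root_.commutator_def]
    have h1 : (⁅(⊤ : Subgroup ↥E), (⊤ : Subgroup ↥E)⁆ : Subgroup ↥E).map E.subtype =
        (⊤ : Subgroup ↥E).map E.subtype := by
      rw [Subgroup.map_commutator, ← MonoidHom.range_eq_map, Subgroup.range_subtype, hperf]
    exact Subgroup.map_injective E.subtype_injective h1
  -- the image of `Q` in `G` lies in a conjugate of `P`
  have hQp : IsPGroup p ↥((Q : Subgroup ↥E).map E.subtype) := Q.isPGroup'.map _
  obtain ⟨Q', hQ'⟩ := hQp.exists_le_sylow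
  obtain ⟨g, hg⟩ := MulAction.exists_smul_eq G Q' P
  have hconj : ∀ x ∈ (Q' : Subgroup G), g * x * g⁻¹ ∈ (P : Subgroup G) := by
    intro x hx
    have h := Subgroup.smul_mem_pointwise_smul x (MulAut.conj g) (Q' : Subgroup G) hx
    rw [← Sylow.pointwise_smul_def, ← Sylow.smul_def, hg] at h
    simpa [MulAut.smul_def, MulAut.conj_apply] using h
  let ψ₀ : ↥(Q : Subgroup ↥E) →* G :=
    ((MulAut.conj g).toMonoidHom.comp E.subtype).comp (Q : Subgroup ↥E).subtype
  have hψ₀ : ∀ c, ψ₀ c ∈ (P : Subgroup G) := by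
    intro c
    have hc : ((c : ↥E) : G) ∈ (Q' : Subgroup G) := hQ' ⟨(c : ↥E), c.2, rfl⟩
    exact hconj _ hc
  let ψ : ↥(Q : Subgroup ↥E) →* ↥(P : Subgroup G) := ψ₀.codRestrict (P : Subgroup G) hψ₀
  have hψc : ∀ c ∈ commutator ↥(Q : Subgroup ↥E), ψ c ∈ commutator ↥(P : Subgroup G) := by
    intro c hc
    have h1 : (commutator ↥(Q : Subgroup ↥E)).map ψ ≤ commutator ↥(P : Subgroup G) := by
      rw [_root_.commutator_def, _root_.commutator_def, Subgroup.map_commutator]
      exact Subgroup.commutator_mono le_top le_top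
    exact h1 ⟨c, hc, rfl⟩
  intro m hm
  have hm' : g⁻¹ * m * g ∈ M := by
    have := hMn.conj_mem m hm g⁻¹
    simpa using this
  have hmE : g⁻¹ * m * g ∈ E := hME hm'
  have h1 : (⟨g⁻¹ * m * g, hmE⟩ : ↥E) ∈
      (commutator ↥(Q : Subgroup ↥E)).map (Q : Subgroup ↥E).subtype := by
    apply mem_commutator_sylow_of_center Q
    · exact hMQ (Subgroup.mem_subgroupOf.mpr hm')
    · rw [Subgroup.mem_center_iff]
      intro e
      apply Subtype.ext
      have := hcent hm'
      rw [Subgroup.mem_centralizer_iff] at this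
      exact this e e.2
    · rw [hcommE]; exact Subgroup.mem_top _
  obtain ⟨c, hc, hcm⟩ := h1
  have h2 : ψ c ∈ frattini ↥(P : Subgroup G) :=
    Cfsg.Agent.Lib.Helper24.commutator_le_frattini_of_isPGroup P.isPGroup' (hψc c hc)
  refine ⟨ψ c, h2, ?_⟩
  have h3 : ((c : ↥E) : G) = g⁻¹ * m * g := congrArg Subtype.val hcm
  show g * ((c : ↥E) : G) * g⁻¹ = m
  rw [h3]
  group

end

end Cfsg.Agent.Lib.Helper73.FStarMin
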