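import Cfsg.Agent.Lib.Helper73.FStarMinC
import Cfsg.Agent.S0051

set_option autoImplicit false
set_option linter.style.haveILetI false

/-!
# Two-generated Sylow subgroups with core-free Frattini subgroup: `O_p(G)` is the minimal normal
subgroup (helper73)
-/

namespace Cfsg.Agent.Lib.Helper73.FStarMin

open Subgroup Cfsg
open scoped commutatorElement

universe u

theorem mem_zpowers_of_pow_prime {C : Type*} [Group C] [Finite C] [IsCyclic C] {p : ℕ}
    (hp : p.Prime) {c w : C} (hc : c ^ p = 1) (hw : w ^ p = 1) (hw1 : w ≠ 1) :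
    c ∈ zpowers w := by
  classical
  have : Fintype C := Fintype.ofFinite C
  have h1 : (Finset.univ.filter (fun a : C => a ^ p = 1)).card ≤ p :=
    IsCyclic.card_pow_eq_one_le hp.pos
  haveI : Fact p.Prime := ⟨hp⟩
  have hord : orderOf w = p := orderOf_eq_prime hw hw1
  have h2 : Nat.card (zpowers w) = p := by rw [Nat.card_zpowers, hord]
  by_contra hcw
  let T : Finset C := Finset.univ.filter (fun a : C => a ∈ zpowers w)
  have hT : T.card = p := by
    rw [← h2, Nat.card_eq_fintype_card, Fintype.card_subtype]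
  have hsub : insert c T ⊆ Finset.univ.filter (fun a : C => a ^ p = 1) := by
    intro a ha
    rw [Finset.mem_insert] at ha
    rw [Finset.mem_filter]
    refine ⟨Finset.mem_univ _, ?_⟩
    rcases ha with rfl | ha
    · exact hc
    · have ha' : a ∈ zpowers w := (Finset.mem_filter.mp ha).2
      obtain ⟨k, rfl⟩ := mem_zpowers_iff.mp ha'
      rw [← zpow_natCast, ← zpow_mul, mul_comm, zpow_mul, zpow_natCast, hw, one_zpow]
  have hcT : c ∉ T := by
    intro h
    exact hcw (Finset.mem_filter.mp h).2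
  have h3 := Finset.card_le_card hsub
  rw [Finset.card_insert_of_notMem hcT, hT] at h3
  omega

section
variable {G : Type u} [Group G] [Finite G] {p : ℕ} [hp : Fact p.Prime]

theorem frattini_pCore_eq_bot (P : Sylow p G)
    (hfrat : ((frattini ↥(P : Subgroup G)).map (P : Subgroup G).subtype).normalCore = ⊥) :
    frattini ↥(pCore p G) = ⊥ := by
  haveI hVn : (pCore p G).Normal := Cfsg.Agent.Lib.Helper22.pCore_normal' p G
  have hVp : IsPGroup p ↥(pCore p G) := Cfsg.Agent.Lib.Helper22.pCore_isPGroup' p G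
  have hVP : pCore p G ≤ (P : Subgroup G) := hVp.le_sylow_of_normal P
  have h1 := Cfsg.Agent.Lib.Helper30.frattini_map_subgroupOf_le (pCore p G) (P : Subgroup G) hVP
  haveI hWn : ((frattini ↥(pCore p G)).map (pCore p G).subtype).Normal :=
    ConjAct.normal_of_characteristic_of_normal
  have hWV : (frattini ↥(pCore p G)).map (pCore p G).subtype ≤ pCore p G :=
    Subgroup.map_subtype_le _
  have h2 : (frattini ↥(pCore p G)).map (pCore p G).subtype ≤
      (frattini ↥(P : Subgroup G)).map (P : Subgroup G).subtype := by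
    intro w hw
    have hwP : w ∈ (P : Subgroup G) := hVP (hWV hw)
    exact ⟨⟨w, hwP⟩, h1 (Subgroup.mem_subgroupOf.mpr hw), rfl⟩
  have h3 : (frattini ↥(pCore p G)).map (pCore p G).subtype ≤
      ((frattini ↥(P : Subgroup G)).map (P : Subgroup G).subtype).normalCore :=
    Subgroup.normal_le_normalCore.mpr h2
  rw [hfrat, le_bot_iff] at h3
  exact (Subgroup.map_eq_bot_iff_of_injective _ (pCore p G).subtype_injective).mp h3

theorem pCore_comm (P : Sylow p G)
    (hfrat : ((frattini ↥(P : Subgroup G)).map (P : Subgroup G).subtype).normalCore = ⊥) :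
    ∀ a ∈ pCore p G, ∀ b ∈ pCore p G, a * b = b * a := by
  intro a ha b hb
  have hVp : IsPGroup p ↥(pCore p G) := Cfsg.Agent.Lib.Helper22.pCore_isPGroup' p G
  have h1 := Cfsg.Agent.Lib.Helper24.commutator_le_frattini_of_isPGroup hVp
  rw [frattini_pCore_eq_bot P hfrat] at h1
  have h2 : ⁅(⟨a, ha⟩ : ↥(pCore p G)), ⟨b, hb⟩⁆ ∈ commutator ↥(pCore p G) := by
    rw [_root_.commutator_def]
    exact Subgroup.commutator_mem_commutator (Subgroup.mem_top _) (Subgroup.mem_top _)
  have h3 := h1 h2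
  rw [Subgroup.mem_bot] at h3
  have h4 := commutatorElement_eq_one_iff_mul_comm.mp h3
  exact congrArg Subtype.val h4

theorem pCore_pow (P : Sylow p G)
    (hfrat : ((frattini ↥(P : Subgroup G)).map (P : Subgroup G).subtype).normalCore = ⊥) :
    ∀ a ∈ pCore p G, a ^ p = 1 := by
  intro a ha
  have hVp : IsPGroup p ↥(pCore p G) := Cfsg.Agent.Lib.Helper22.pCore_isPGroup' p G
  have h1 := Cfsg.Agent.Lib.Helper24.pow_mem_frattini_of_isPGroup hVp ⟨a, ha⟩
  rw [frattini_pCore_eq_bot P hfrat, Subgroup.mem_bot] at h1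
  have := congrArg Subtype.val h1
  simpa using this

/-- `O_p(G)` is contained in the unique minimal normal subgroup (Gaschütz). -/
theorem pCore_le_min (P : Sylow p G)
    (hgen : (frattini ↥(P : Subgroup G)).index = p ^ 2) (hcore : pPrimeCore p G = ⊥)
    (hfrat : ((frattini ↥(P : Subgroup G)).map (P : Subgroup G).subtype).normalCore = ⊥)
    (M : Subgroup G) [hMn : M.Normal] (hM0 : M ≠ ⊥)
    (hMmin : ∀ K : Subgroup G, K.Normal → K ≠ ⊥ → M ≤ K) (hMV : M ≤ pCore p G) :
    pCore p G ≤ M := by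
  by_contra hnot
  obtain ⟨v, hvV, hvM⟩ := SetLike.not_le_iff_exists.mp hnot
  have hVn : (pCore p G).Normal := Cfsg.Agent.Lib.Helper22.pCore_normal' p G
  have hVp : IsPGroup p ↥(pCore p G) := Cfsg.Agent.Lib.Helper22.pCore_isPGroup' p G
  have hVP : pCore p G ≤ (P : Subgroup G) := hVp.le_sylow_of_normal P
  have hMP : M ≤ (P : Subgroup G) := hMV.trans hVP
  have hcomm := pCore_comm P hfrat
  have hpow := pCore_pow P hfrat
  haveI : (M.subgroupOf (P : Subgroup G)).Normal := Subgroup.normal_subgroupOf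
  have hcyc := isCyclic_quot_of_not_le P hgen M (not_inf_le_of_normal P hcore hfrat M hM0)
  obtain ⟨q, hq⟩ := hcyc.exists_generator
  obtain ⟨y, rfl⟩ := QuotientGroup.mk_surjective q
  have hdec : ∀ u ∈ (P : Subgroup G), ∃ k : ℤ, ((y : G) ^ k)⁻¹ * u ∈ M := by
    intro u hu
    obtain ⟨k, hk⟩ := Subgroup.mem_zpowers_iff.mp (hq (QuotientGroup.mk ⟨u, hu⟩))
    refine ⟨k, ?_⟩
    rw [← QuotientGroup.mk_zpow, QuotientGroup.eq] at hk
    have := Subgroup.mem_subgroupOf.mp hk
    simpa using this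
  have hAP : zpowers (y : G) ≤ (P : Subgroup G) := by
    rw [Subgroup.zpowers_le]; exact y.2
  have hMA : M ⊔ zpowers (y : G) = (P : Subgroup G) := by
    apply le_antisymm (sup_le hMP hAP)
    intro u hu
    obtain ⟨k, hk⟩ := hdec u hu
    have hu' : u = (y : G) ^ k * (((y : G) ^ k)⁻¹ * u) := by group
    rw [hu']
    exact Subgroup.mul_mem _
      (le_sup_right (a := M) (Subgroup.zpow_mem_zpowers _ k))
      (le_sup_left (b := zpowers (y : G)) hk)
  obtain ⟨k, hk⟩ := hdec v (hVP hvV)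
  have hcA : (y : G) ^ k ∈ zpowers (y : G) := Subgroup.zpow_mem_zpowers _ k
  have hcV : (y : G) ^ k ∈ pCore p G := by
    have h1 : (y : G) ^ k = v * (((y : G) ^ k)⁻¹ * v)⁻¹ := by group
    rw [h1]
    exact Subgroup.mul_mem _ hvV (Subgroup.inv_mem _ (hMV hk))
  have hcM : (y : G) ^ k ∉ M := by
    intro h
    apply hvM
    have h1 : v = (y : G) ^ k * (((y : G) ^ k)⁻¹ * v) := by group
    rw [h1]
    exact Subgroup.mul_mem _ h hk
  have hAM : zpowers (y : G) ⊓ M = ⊥ := by
    rw [eq_bot_iff]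
    rintro w ⟨hwA, hwM⟩
    rw [Subgroup.mem_bot]
    by_contra hw1
    have hwp : w ^ p = 1 := hpow w (hMV hwM)
    have hcp : ((y : G) ^ k) ^ p = 1 := hpow _ hcV
    have h1 : (⟨(y : G) ^ k, hcA⟩ : ↥(zpowers (y : G))) ∈
        zpowers (⟨w, hwA⟩ : ↥(zpowers (y : G))) := by
      apply mem_zpowers_of_pow_prime hp.out
      · apply Subtype.ext
        simpa using hcp
      · apply Subtype.ext
        simpa using hwp
      · intro h
        exact hw1 (congrArg Subtype.val h)
    obtain ⟨j, hj⟩ := Subgroup.mem_zpowers_iff.mp h1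
    have hj' : w ^ j = (y : G) ^ k := by
      have := congrArg Subtype.val hj
      simpa using this
    exact hcM (hj' ▸ Subgroup.zpow_mem _ hwM j)
  haveI : IsMulCommutative ↥M :=
    ⟨⟨fun a b => Subtype.ext (hcomm a (hMV a.2) b (hMV b.2))⟩⟩
  have hcop : (Nat.card ↥M).Coprime (P : Subgroup G).index := by
    have hMp : IsPGroup p ↥M := hVp.to_le hMV
    obtain ⟨n, hn⟩ := IsPGroup.iff_card.mp hMp
    rw [hn]
    apply Nat.Coprime.pow_left
    exact (Nat.Prime.coprime_iff_not_dvd hp.out).mpr P.not_dvd_index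
  obtain ⟨H, hH⟩ := Cfsg.Agent.S0051.result M (P : Subgroup G) hMP hcop (zpowers (y : G))
    hAP hAM hMA
  have hGdec : ∀ g : G, ∃ m ∈ M, ∃ h ∈ H, g = m * h := by
    intro g
    have hg : g ∈ M ⊔ H := by rw [hH.sup_eq_top]; exact Subgroup.mem_top g
    rw [← SetLike.mem_coe, Subgroup.normal_mul] at hg
    obtain ⟨m, hm, h, hh, rfl⟩ := hg
    exact ⟨m, hm, h, hh, rfl⟩
  have hDn : (pCore p G ⊓ H).Normal := by
    constructor
    intro d hd g
    obtain ⟨m, hm, h, hh, rfl⟩ := hGdec g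
    have h1 : h * d * h⁻¹ ∈ pCore p G ⊓ H :=
      ⟨hVn.conj_mem d hd.1 h, H.mul_mem (H.mul_mem hh hd.2) (H.inv_mem hh)⟩
    have h2 : m * h * d * (m * h)⁻¹ = m * (h * d * h⁻¹) * m⁻¹ := by group
    rw [h2]
    have h3 : m * (h * d * h⁻¹) = (h * d * h⁻¹) * m := hcomm m (hMV hm) _ h1.1
    rw [h3, mul_inv_cancel_right]
    exact h1
  have hD0 : pCore p G ⊓ H ≠ ⊥ := by
    intro hbot
    obtain ⟨m, hm, h, hh, hv⟩ := hGdec v
    have hhV : h ∈ pCore p G := by
      have h1 : h = m⁻¹ * v := by rw [hv]; group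
      rw [h1]
      exact Subgroup.mul_mem _ (Subgroup.inv_mem _ (hMV hm)) hvV
    have h2 : h ∈ pCore p G ⊓ H := ⟨hhV, hh⟩
    rw [hbot, Subgroup.mem_bot] at h2
    apply hvM
    rw [hv, h2, mul_one]
    exact hm
  have hMD := hMmin _ hDn hD0
  have hMH : M ≤ M ⊓ H := le_inf le_rfl (hMD.trans inf_le_right)
  rw [hH.disjoint.eq_bot] at hMH
  exact hM0 (le_bot_iff.mp hMH)

end

end Cfsg.Agent.Lib.Helper73.FStarMin
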