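import Cfsg.Agent.Lib.Helper73.FStarMinD
import Cfsg.Agent.Lib.Helper22.LocalCore
import Cfsg.Agent.Lib.Helper21.Components
import Cfsg.Agent.Lib.Helper23.TwoLayer

set_option autoImplicit false
set_option linter.style.haveILetI false

/-!
# Two-generated Sylow subgroups with core-free Frattini subgroup: `F*(G)` is the minimal normal
subgroup, and `P` permutes the components transitively (helper73)
-/

namespace Cfsg.Agent.Lib.Helper73.FStarMin

open Subgroup Cfsg
open Cfsg.Agent.Lib.Helper33 (cj cj_def cj_mul cj_inv_cj)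
open Cfsg.Agent.Lib.Helper22.LocalCore (orbitSup le_orbitSup le_normalizer_orbitSup
  orbitSup_isSubnormal)
open scoped commutatorElement

universe u

section
variable {G : Type u} [Group G] [Finite G] {p : ℕ} [hp : Fact p.Prime]

omit hp in
theorem generalizedFitting_ne_bot (P : Sylow p G) (hna : ¬ IsMulCommutative (P : Subgroup G)) :
    generalizedFittingSubgroup G ≠ ⊥ := by
  intro h
  have h1 := Cfsg.Agent.Lib.Helper22.centralizer_generalizedFitting_le G
  rw [h] at h1
  have hall : ∀ a : G, a = 1 := by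
    intro a
    have ha : a ∈ centralizer (((⊥ : Subgroup G)) : Set G) := by
      rw [Subgroup.mem_centralizer_iff]
      intro x hx
      rw [SetLike.mem_coe, Subgroup.mem_bot] at hx
      rw [hx, one_mul, mul_one]
    have := h1 ha
    rwa [Subgroup.mem_bot] at this
  apply hna
  refine ⟨⟨fun a b => Subtype.ext ?_⟩⟩
  rw [Subgroup.coe_mul, Subgroup.coe_mul, hall (a : G), hall (b : G)]

theorem isCyclic_map_mk (P : Sylow p G)
    (hgen : (frattini ↥(P : Subgroup G)).index = p ^ 2) (N : Subgroup G) [hN : N.Normal]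
    (h : ¬ N ⊓ (P : Subgroup G) ≤ (frattini ↥(P : Subgroup G)).map (P : Subgroup G).subtype) :
    IsCyclic ↥((P : Subgroup G).map (QuotientGroup.mk' N)) := by
  haveI : (N.subgroupOf (P : Subgroup G)).Normal := Subgroup.normal_subgroupOf
  haveI := isCyclic_quot_of_not_le P hgen N h
  let f : ↥(P : Subgroup G) →* ↥((P : Subgroup G).map (QuotientGroup.mk' N)) :=
    (QuotientGroup.mk' N).subgroupMap (P : Subgroup G)
  have hf : Function.Surjective f := MonoidHom.subgroupMap_surjective _ _
  have hker : N.subgroupOf (P : Subgroup G) ≤ f.ker := by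
    intro u hu
    rw [MonoidHom.mem_ker]
    apply Subtype.ext
    show QuotientGroup.mk' N (u : G) = 1
    exact (QuotientGroup.eq_one_iff _).mpr (Subgroup.mem_subgroupOf.mp hu)
  let f' := QuotientGroup.lift (N.subgroupOf (P : Subgroup G)) f hker
  have hf' : Function.Surjective f' := by
    intro z
    obtain ⟨u, rfl⟩ := hf z
    exact ⟨QuotientGroup.mk u, rfl⟩
  exact isCyclic_of_surjective f' hf'

theorem layer_eq_bot_of_pCore_ne_bot (P : Sylow p G) (hcore : pPrimeCore p G = ⊥)
    (hfrat : ((frattini ↥(P : Subgroup G)).map (P : Subgroup G).subtype).normalCore = ⊥)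
    (M : Subgroup G) [hMn : M.Normal] (hM0 : M ≠ ⊥)
    (hMmin : ∀ K : Subgroup G, K.Normal → K ≠ ⊥ → M ≤ K) (hV : pCore p G ≠ ⊥) :
    layer G = ⊥ := by
  by_contra hE
  have hEn : (layer G).Normal := Cfsg.Agent.Lib.Helper22.layer_normal G
  have hVn : (pCore p G).Normal := Cfsg.Agent.Lib.Helper22.pCore_normal' p G
  have hMV : M ≤ pCore p G := hMmin _ hVn hV
  have hME : M ≤ layer G := hMmin _ hEn hE
  have hF := Cfsg.Agent.Lib.Helper91.fittingSubgroup_eq_pCore_of_pPrimeCore_eq_bot (G := G) hcore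
  have hcent : M ≤ centralizer (layer G : Set G) := by
    have h1 := Cfsg.Agent.Lib.Helper22.layer_le_centralizer_fitting G
    rw [hF] at h1
    have h2 : pCore p G ≤ centralizer (layer G : Set G) := Subgroup.le_centralizer_iff.mp h1
    exact hMV.trans h2
  have hMp : IsPGroup p ↥M := (Cfsg.Agent.Lib.Helper22.pCore_isPGroup' p G).to_le hMV
  have h3 := le_frattini_of_central_perfect P M (layer G) hMp hME hcent
    (Cfsg.Agent.Lib.Helper22.layer_perfect G)
  exact not_inf_le_of_normal P hcore hfrat M hM0 (inf_le_left.trans h3)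

theorem layer_le_min_of_pCore_eq_bot (hcore : pPrimeCore p G = ⊥)
    (M : Subgroup G) [hMn : M.Normal] (hM0 : M ≠ ⊥)
    (hMmin : ∀ K : Subgroup G, K.Normal → K ≠ ⊥ → M ≤ K) (hV : pCore p G = ⊥) :
    layer G ≤ M := by
  have hF : fittingSubgroup G = ⊥ := by
    rw [Cfsg.Agent.Lib.Helper91.fittingSubgroup_eq_pCore_of_pPrimeCore_eq_bot (G := G) hcore, hV]
  have hC : centralizer (M : Set G) = ⊥ := by
    by_contra hC
    have hCn : (centralizer (M : Set G)).Normal := inferInstance
    have hMC := hMmin _ hCn hC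
    haveI : IsMulCommutative ↥M := by
      refine ⟨⟨fun a b => Subtype.ext ?_⟩⟩
      have := hMC b.2
      rw [Subgroup.mem_centralizer_iff] at this
      exact this a a.2
    have hnil : Group.IsNilpotent ↥M := Cfsg.Agent.Lib.Helper22.isNilpotent_of_isMulCommutative ↥M
    have h1 := Cfsg.Agent.Lib.Helper22.le_fittingSubgroup hMn hnil
    rw [hF, le_bot_iff] at h1
    exact hM0 h1
  apply sSup_le
  intro L hL
  rcases Cfsg.Agent.Lib.Helper21.component_le_or_commutes_normal hL hMn with h | h
  · exact h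
  · exfalso
    have h1 : L ≤ centralizer (M : Set G) :=
      Subgroup.le_centralizer_iff.mp (Subgroup.commutator_eq_bot_iff_le_centralizer.mp h)
    rw [hC, le_bot_iff] at h1
    exact Cfsg.Agent.Lib.Helper22.component_ne_bot hL h1

/-- `P` permutes the components transitively when `O_p(G) = 1`. -/
theorem exists_conj_component (P : Sylow p G) (hna : ¬ IsMulCommutative (P : Subgroup G))
    (hgen : (frattini ↥(P : Subgroup G)).index = p ^ 2) (hcore : pPrimeCore p G = ⊥)
    (hV : pCore p G = ⊥) {K L : Subgroup G} (hK : IsComponent K) (hL : IsComponent L) :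
    ∃ x ∈ (P : Subgroup G), L = K.map (MulAut.conj x).toMonoidHom := by
  by_contra hno'
  have hno : ∀ x ∈ (P : Subgroup G), L ≠ K.map (MulAut.conj x).toMonoidHom :=
    fun x hx h => hno' ⟨x, hx, h⟩
  have hF : fittingSubgroup G = ⊥ := by
    rw [Cfsg.Agent.Lib.Helper91.fittingSubgroup_eq_pCore_of_pPrimeCore_eq_bot (G := G) hcore, hV]
  have hs₁ : (orbitSup (P : Subgroup G) K).IsSubnormal := orbitSup_isSubnormal hK
  have hs₂ : (orbitSup (P : Subgroup G) L).IsSubnormal := orbitSup_isSubnormal hL
  have hn₁ := le_normalizer_orbitSup (P : Subgroup G) K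
  have hn₂ := le_normalizer_orbitSup (P : Subgroup G) L
  have hne₁ : orbitSup (P : Subgroup G) K ≠ ⊥ := fun h =>
    Cfsg.Agent.Lib.Helper22.component_ne_bot hK (le_bot_iff.mp (h ▸ le_orbitSup (P : Subgroup G) K))
  have hne₂ : orbitSup (P : Subgroup G) L ≠ ⊥ := fun h =>
    Cfsg.Agent.Lib.Helper22.component_ne_bot hL (le_bot_iff.mp (h ▸ le_orbitSup (P : Subgroup G) L))
  have key : ∀ A : Subgroup G, A.IsSubnormal → (P : Subgroup G) ≤ normalizer (A : Set G) → A ≠ ⊥ →
      ¬ A ⊓ (P : Subgroup G) ≤ (frattini ↥(P : Subgroup G)).map (P : Subgroup G).subtype := by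
    intro A hA hPA hA0 h
    have hpA := isPGroup_of_inf_le_frattini P hcore hA hPA h
    have hnil : Group.IsNilpotent ↥A := hpA.isNilpotent
    have h1 := Cfsg.Agent.Lib.Helper22.subnormal_nilpotent_le_fitting A hA hnil
    rw [hF, le_bot_iff] at h1
    exact hA0 h1
  have hcomm : orbitSup (P : Subgroup G) K ≤
      centralizer (orbitSup (P : Subgroup G) L : Set G) := by
    apply iSup_le
    intro u
    rw [Subgroup.le_centralizer_iff]
    apply iSup_le
    intro v
    rw [← Subgroup.commutator_eq_bot_iff_le_centralizer]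
    apply Cfsg.Agent.Lib.Helper22.components_commute
      (Cfsg.Agent.Lib.Helper23.isComponent_cj (v : G) hL)
      (Cfsg.Agent.Lib.Helper23.isComponent_cj (u : G) hK)
    intro heq
    have h1 : L = cj ((v : G)⁻¹ * (u : G)) K := by
      rw [cj_mul, ← heq, cj_inv_cj]
    exact hno ((v : G)⁻¹ * (u : G))
      ((P : Subgroup G).mul_mem ((P : Subgroup G).inv_mem v.2) u.2) h1
  have hD : orbitSup (P : Subgroup G) K ⊓ orbitSup (P : Subgroup G) L = ⊥ := by
    have hDs := hs₁.inf hs₂
    haveI : IsMulCommutative ↥(orbitSup (P : Subgroup G) K ⊓ orbitSup (P : Subgroup G) L) := by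
      refine ⟨⟨fun a b => Subtype.ext ?_⟩⟩
      have := hcomm a.2.1
      rw [Subgroup.mem_centralizer_iff] at this
      exact (this b b.2.2).symm
    have hnil := Cfsg.Agent.Lib.Helper22.isNilpotent_of_isMulCommutative
      ↥(orbitSup (P : Subgroup G) K ⊓ orbitSup (P : Subgroup G) L)
    have h1 := Cfsg.Agent.Lib.Helper22.subnormal_nilpotent_le_fitting _ hDs hnil
    rwa [hF, le_bot_iff] at h1
  apply hna
  haveI : ((orbitSup (P : Subgroup G) K).subgroupOf (P : Subgroup G)).Normal :=
    Subgroup.normal_subgroupOf_of_le_normalizer hn₁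
  haveI : ((orbitSup (P : Subgroup G) L).subgroupOf (P : Subgroup G)).Normal :=
    Subgroup.normal_subgroupOf_of_le_normalizer hn₂
  apply isMulCommutative_of_two P hgen (orbitSup (P : Subgroup G) K) (orbitSup (P : Subgroup G) L)
    (key _ hs₁ hn₁ hne₁) (key _ hs₂ hn₂ hne₂)
  rw [hD, bot_inf_eq]

end

end Cfsg.Agent.Lib.Helper73.FStarMin
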