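import Mathlib
import Cfsg.Agent.Lib.Helper48.CoprimeGen

/-!
# Commuting involutory automorphisms of groups of odd order

* `fixSub T` : the subgroup of fixed points of an automorphism `T`.
* `gen_fix` : a group of odd order is generated by the fixed points of `a`, `b`, `a * b`, for
  commuting involutory automorphisms `a`, `b` (via `Helper48.coprime_gen` in the holomorph).
* `fix_or_inv` : an involutory automorphism of a `p`-group (`p` odd) mapping `g` into `⟨g⟩` fixes or
  inverts `g`.
* `comm_of_fpf` : a subgroup on which an involutory automorphism acts without nontrivial fixed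
  points is abelian.
-/

set_option autoImplicit false
set_option linter.style.haveILetI false

namespace Cfsg.Agent.Lib.Helper73

variable {P : Type*} [Group P]

/-- The subgroup of fixed points of an automorphism. -/
def fixSub (T : MulAut P) : Subgroup P where
  carrier := {x | T x = x}
  mul_mem' := by
    intro a b (ha : T a = a) (hb : T b = b)
    show T (a * b) = a * b
    rw [map_mul, ha, hb]
  one_mem' := by
    show T 1 = 1
    exact map_one T
  inv_mem' := by
    intro a (ha : T a = a)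
    show T a⁻¹ = a⁻¹
    rw [map_inv, ha]

theorem mem_fixSub {T : MulAut P} {x : P} : x ∈ fixSub T ↔ T x = x := Iff.rfl

theorem eq_one_of_eq_inv_of_odd [Finite P] (hodd : Odd (Nat.card P)) {x : P} (h : x = x⁻¹) :
    x = 1 := by
  have h2 : x ^ 2 = 1 := by
    rw [pow_two]
    nth_rewrite 2 [h]
    exact mul_inv_cancel x
  have h1 : orderOf x ∣ 2 := orderOf_dvd_of_pow_eq_one h2
  have h3 : orderOf x ∣ Nat.card P := orderOf_dvd_natCard x
  have h4 : orderOf x ∣ Nat.gcd 2 (Nat.card P) := Nat.dvd_gcd h1 h3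
  rw [Nat.Coprime.gcd_eq_one (Nat.coprime_two_left.2 hodd)] at h4
  exact orderOf_eq_one_iff.1 (Nat.dvd_one.1 h4)

/-- A finite group of odd order is generated by the fixed points of `a`, `b` and `a * b`, for
commuting involutory automorphisms `a` and `b`. -/
theorem gen_fix [Finite P] (hodd : Odd (Nat.card P)) (a b : MulAut P) (ha : a * a = 1)
    (hb : b * b = 1) (hab : a * b = b * a) :
    fixSub a ⊔ fixSub b ⊔ fixSub (a * b) = ⊤ := by
  classical
  haveI : Finite (MulAut P) :=
    Finite.of_injective (fun f : MulAut P => (f : P → P)) (fun f g h => MulEquiv.ext (congrFun h))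
  haveI : Finite (P ⋊[MonoidHom.id (MulAut P)] MulAut P) :=
    Finite.of_equiv _ SemidirectProduct.equivProd.symm
  obtain ⟨K, hKdef⟩ : ∃ K : Subgroup (P ⋊[MonoidHom.id (MulAut P)] MulAut P),
      K = (SemidirectProduct.inl : P →* P ⋊[MonoidHom.id (MulAut P)] MulAut P).range := ⟨_, rfl⟩
  haveI hKn : K.Normal := by
    rw [hKdef, SemidirectProduct.range_inl_eq_ker_rightHom]; infer_instance
  have hKcard : Nat.card K = Nat.card P := by
    rw [hKdef]
    exact (Nat.card_congr (MonoidHom.ofInjective SemidirectProduct.inl_injective).toEquiv).symm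
  have hK2 : ¬ 2 ∣ Nat.card K := by
    rw [hKcard]; exact hodd.not_two_dvd_nat
  have ha' : (SemidirectProduct.inr a : P ⋊[MonoidHom.id (MulAut P)] MulAut P) ^ 2 = 1 := by
    rw [← map_pow, pow_two, ha, map_one]
  have hb' : (SemidirectProduct.inr b : P ⋊[MonoidHom.id (MulAut P)] MulAut P) ^ 2 = 1 := by
    rw [← map_pow, pow_two, hb, map_one]
  have hab' : (SemidirectProduct.inr a : P ⋊[MonoidHom.id (MulAut P)] MulAut P) *
      SemidirectProduct.inr b = SemidirectProduct.inr b * SemidirectProduct.inr a := by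
    rw [← map_mul, ← map_mul, hab]
  have hgen := Cfsg.Agent.Lib.Helper48.coprime_gen (p := 2) K _ _ ha' hb' hab' hK2
  -- each piece lies in the image of the fixed points
  have hpiece : ∀ t : MulAut P, K ⊓ Subgroup.centralizer
      {(SemidirectProduct.inr t : P ⋊[MonoidHom.id (MulAut P)] MulAut P)} ≤
      (fixSub t).map SemidirectProduct.inl := by
    intro t x hx
    obtain ⟨hxK, hxc⟩ := hx
    have hxc : x ∈ Subgroup.centralizer
      {(SemidirectProduct.inr t : P ⋊[MonoidHom.id (MulAut P)] MulAut P)} := hxc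
    rw [hKdef] at hxK
    obtain ⟨y, rfl⟩ := hxK
    rw [Subgroup.mem_centralizer_iff] at hxc
    have h1 := hxc _ (Set.mem_singleton _)
    refine Subgroup.mem_map_of_mem _ ?_
    rw [mem_fixSub]
    apply SemidirectProduct.inl_injective (φ := MonoidHom.id (MulAut P))
    have h2 := SemidirectProduct.inl_aut (φ := MonoidHom.id (MulAut P)) t y
    rw [MonoidHom.id_apply] at h2
    rw [h2, h1, map_inv, mul_assoc, mul_inv_cancel, mul_one]
  have hbpow : ∀ n : ℕ, b ^ n = 1 ∨ b ^ n = b := by
    intro n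
    induction n with
    | zero => left; exact pow_zero b
    | succ n ih =>
      rcases ih with h | h
      · right; rw [pow_succ, h, one_mul]
      · left; rw [pow_succ, h, hb]
  have hle : Cfsg.Agent.Lib.Helper48.genSub K (SemidirectProduct.inr a) (SemidirectProduct.inr b) ≤
      (fixSub a ⊔ fixSub b ⊔ fixSub (a * b)).map
        (SemidirectProduct.inl : P →* P ⋊[MonoidHom.id (MulAut P)] MulAut P) := by
    unfold Cfsg.Agent.Lib.Helper48.genSub
    refine iSup₂_le ?_
    intro c hc
    rcases hc with rfl | ⟨n, rfl⟩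
    · refine le_trans (hpiece b) (Subgroup.map_mono ?_)
      exact le_trans le_sup_right le_sup_left
    · rw [← map_pow, ← map_mul]
      refine le_trans (hpiece _) (Subgroup.map_mono ?_)
      rcases hbpow n with h | h
      · rw [h, mul_one]
        exact le_trans le_sup_left le_sup_left
      · rw [h]
        exact le_sup_right
  rw [eq_top_iff]
  intro y _
  have h1 : (SemidirectProduct.inl y : P ⋊[MonoidHom.id (MulAut P)] MulAut P) ∈ K := by
    rw [hKdef]; exact ⟨y, rfl⟩
  obtain ⟨y', hy', hyy'⟩ := hle (hgen h1)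
  have := SemidirectProduct.inl_injective hyy'
  rwa [this] at hy'

/-- An involutory automorphism of a `p`-group, `p` odd, that maps `g` into `⟨g⟩` fixes or inverts
`g`. -/
theorem fix_or_inv {p : ℕ} (hp : p.Prime) (hp2 : p ≠ 2) (hP : IsPGroup p P) (S : MulAut P)
    (hS : ∀ x, S (S x) = x) (g : P) (hg : S g ∈ Subgroup.zpowers g) : S g = g ∨ S g = g⁻¹ := by
  haveI : Fact p.Prime := ⟨hp⟩
  obtain ⟨k, hk⟩ := Subgroup.mem_zpowers_iff.1 hg
  obtain ⟨n, hn⟩ := (IsPGroup.iff_orderOf.1 hP) g
  have h1 : g ^ (k * k) = g := by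
    rw [zpow_mul, hk, ← map_zpow, hk, hS]
  have h2 : g ^ (k * k - 1) = 1 := by
    rw [zpow_sub, h1, zpow_one, mul_inv_cancel]
  have h3 : ((p ^ n : ℕ) : ℤ) ∣ k * k - 1 := by
    rw [← hn]; exact orderOf_dvd_iff_zpow_eq_one.2 h2
  have h4 : k * k - 1 = (k - 1) * (k + 1) := by ring
  rw [h4] at h3
  have hpi : Prime (p : ℤ) := Nat.prime_iff_prime_int.1 hp
  by_cases hd : (p : ℤ) ∣ k + 1
  · have hnd : ¬ (p : ℤ) ∣ k - 1 := by
      intro h
      have h5 : (p : ℤ) ∣ (k + 1) - (k - 1) := dvd_sub hd h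
      have h2' : (k + 1) - (k - 1) = ((2 : ℕ) : ℤ) := by push_cast; ring
      rw [h2'] at h5
      have h6 : p ∣ 2 := Int.natCast_dvd_natCast.1 h5
      exact hp2 ((Nat.prime_dvd_prime_iff_eq hp Nat.prime_two).1 h6)
    have hcop : IsCoprime ((p ^ n : ℕ) : ℤ) (k - 1) := by
      push_cast
      exact IsCoprime.pow_left (hpi.irreducible.coprime_iff_not_dvd.2 hnd)
    have h5 : ((p ^ n : ℕ) : ℤ) ∣ k + 1 := hcop.dvd_of_dvd_mul_left h3
    right
    have h6 : g ^ (k + 1) = 1 := orderOf_dvd_iff_zpow_eq_one.1 (hn ▸ h5)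
    rw [← hk]
    rw [zpow_add, zpow_one] at h6
    exact eq_inv_of_mul_eq_one_left h6
  · have hcop : IsCoprime ((p ^ n : ℕ) : ℤ) (k + 1) := by
      push_cast
      exact IsCoprime.pow_left (hpi.irreducible.coprime_iff_not_dvd.2 hd)
    have h5 : ((p ^ n : ℕ) : ℤ) ∣ k - 1 := hcop.dvd_of_dvd_mul_right h3
    left
    have h6 : g ^ (k - 1) = 1 := orderOf_dvd_iff_zpow_eq_one.1 (hn ▸ h5)
    rw [← hk]
    rw [zpow_sub, zpow_one] at h6
    exact mul_inv_eq_one.1 h6

/-- A subgroup on which an involutory automorphism acts without nontrivial fixed points is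
abelian. -/
theorem comm_of_fpf [Finite P] (c : MulAut P) (hc : ∀ x, c (c x) = x) (H : Subgroup P)
    (hH : ∀ x ∈ H, c x ∈ H) (hfpf : ∀ x ∈ H, c x = x → x = 1) :
    ∀ x ∈ H, ∀ y ∈ H, x * y = y * x := by
  obtain ⟨f, hf⟩ : ∃ f : H → H, ∀ x : H, ((f x : H) : P) = (x : P)⁻¹ * c x :=
    ⟨fun x => ⟨(x : P)⁻¹ * c x, H.mul_mem (H.inv_mem x.2) (hH x x.2)⟩, fun _ => rfl⟩
  have hinj : Function.Injective f := by
    intro x y hxy
    have h1 : (x : P)⁻¹ * c x = (y : P)⁻¹ * c y := by
      rw [← hf, ← hf, hxy]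
    have h2 : c ((x : P) * (y : P)⁻¹) = (x : P) * (y : P)⁻¹ := by
      rw [map_mul, map_inv]
      have h3 : c (x : P) = (x : P) * ((y : P)⁻¹ * c y) := by rw [← h1]; group
      rw [h3]; group
    have h3 := hfpf _ (H.mul_mem x.2 (H.inv_mem y.2)) h2
    apply Subtype.ext
    exact mul_inv_eq_one.1 h3
  have hsurj : Function.Surjective f := Finite.injective_iff_surjective.1 hinj
  have hinv : ∀ h ∈ H, c h = h⁻¹ := by
    intro h hh
    obtain ⟨x, hx⟩ := hsurj ⟨h, hh⟩
    have h1 : h = (x : P)⁻¹ * c x := by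
      rw [← hf, hx]
    rw [h1, map_mul, map_inv, hc]; group
  intro x hx y hy
  have h1 := hinv (x * y) (H.mul_mem hx hy)
  rw [map_mul, hinv x hx, hinv y hy] at h1
  have h2 : (x⁻¹ * y⁻¹)⁻¹ = ((x * y)⁻¹)⁻¹ := by rw [h1]
  rw [mul_inv_rev, inv_inv, inv_inv, inv_inv] at h2
  exact h2.symm

end Cfsg.Agent.Lib.Helper73
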