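import Mathlib
import Cfsg.Agent.Lib.Helper6.Ls.Defs
import Cfsg.Agent.Lib.Helper13.UnitaryTorus
import Cfsg.Agent.Lib.Helper6.Ls.LinePt

/-! # Ls hive (S2334 + S2335, helper6): leaf C-FIXI, core `cfixi_core` (helper73)
= `exists_isotropic_pt` with the F-DUAL statement as a hypothesis.

Every character of the abelian group `lineGrp e u` attached to a totally isotropic line is trivial on
some root subgroup `Z_p`, `p` on the line. -/

set_option autoImplicit false

namespace Cfsg.Agent.Lib.Helper6.Ls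

open Module Matrix Cfsg.Agent.Lib.Helper99 Cfsg.Agent.Lib.Helper13

section concrete

variable {F : Type*} [Field F] [Fintype F] {q : ℕ}

/-- the Frobenius squares to the identity -/
theorem cfixi_frob_frob (hF : Fintype.card F = q ^ 2) (a : F) : (a ^ q) ^ q = a := by
  have := frobU_frobU hF a
  rwa [frobU_apply, frobU_apply] at this

/-- the norm is fixed by the Frobenius -/
theorem cfixi_norm_frob (hF : Fintype.card F = q ^ 2) (a : F) : (a ^ (q + 1)) ^ q = a ^ (q + 1) := by
  rw [← pow_mul, mul_comm, pow_mul, pow_succ, cfixi_frob_frob hF, pow_succ, mul_comm]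

theorem cfixi_tz_neg (hF : Fintype.card F = q ^ 2) {c : F} (hc : c + c ^ q = 0) :
    -c + (-c) ^ q = 0 := by
  rw [frob_neg hF]
  linear_combination -hc

theorem cfixi_tz_add (hF : Fintype.card F = q ^ 2) {c c' : F} (hc : c + c ^ q = 0)
    (hc' : c' + c' ^ q = 0) : (c + c') + (c + c') ^ q = 0 := by
  rw [frob_add hF]
  linear_combination hc + hc'

theorem cfixi_tz_norm (hF : Fintype.card F = q ^ 2) {c : F} (hc : c + c ^ q = 0) (a : F) :
    c * a ^ (q + 1) + (c * a ^ (q + 1)) ^ q = 0 := by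
  rw [mul_pow, cfixi_norm_frob hF]
  linear_combination a ^ (q + 1) * hc

variable {n : ℕ}

local notation "hh" => Cfsg.hermForm n F q

/-- two unitary transvections with orthogonal isotropic centres -/
theorem cfixi_utv2 (p p' : Fin n → F) (hp : hh p p = 0) (hp' : hh p' p' = 0) (hpp' : hh p' p = 0)
    (c c' : F) (x : Fin n → F) :
    ((utv q p c * utv q p' c' : GL (Fin n) F) : Matrix (Fin n) (Fin n) F) *ᵥ x
      = x + (c * hh x p) • p + (c' * hh x p') • p' := by
  rw [Units.val_mul, ← Matrix.mulVec_mulVec, utv_mulVec p' hp', utv_mulVec p hp,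
    hermForm_add_left, hermForm_smul_left, hpp', mul_zero, add_zero]
  abel

/-- three unitary transvections with pairwise orthogonal isotropic centres -/
theorem cfixi_utv3 (p p' p'' : Fin n → F) (hp : hh p p = 0) (hp' : hh p' p' = 0)
    (hp'' : hh p'' p'' = 0) (h10 : hh p' p = 0) (h20 : hh p'' p = 0) (h21 : hh p'' p' = 0)
    (c c' c'' : F) (x : Fin n → F) :
    ((utv q p c * utv q p' c' * utv q p'' c'' : GL (Fin n) F) : Matrix (Fin n) (Fin n) F) *ᵥ x
      = x + (c * hh x p) • p + (c' * hh x p') • p' + (c'' * hh x p'') • p'' := by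
  rw [Units.val_mul (utv q p c * utv q p' c'), ← Matrix.mulVec_mulVec, utv_mulVec p'' hp'',
    cfixi_utv2 p p' hp hp' h10, hermForm_add_left, hermForm_smul_left, hermForm_add_left,
    hermForm_smul_left]
  simp only [h20, h21, mul_zero, add_zero]
  abel

section line

variable (hF : Fintype.card F = q ^ 2) (e u : Fin n → F)
  (hee : Cfsg.hermForm n F q e e = 0) (huu : Cfsg.hermForm n F q u u = 0)
  (heu : Cfsg.hermForm n F q e u = 0)

include hF hee huu heu

/-- the line `⟨e, u⟩` is totally isotropic -/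
theorem cfixi_line (a b a' b' : F) : hh (a • e + b • u) (a' • e + b' • u) = 0 := by
  have hue : hh u e = 0 := hermForm_eq_zero_comm hF heu
  rw [hermForm_add_left, hermForm_add_right hF, hermForm_add_right hF, hermForm_smul_left,
    hermForm_smul_left, hermForm_smul_left, hermForm_smul_left, hermForm_smul_right,
    hermForm_smul_right, hermForm_smul_right, hermForm_smul_right, hee, huu, heu, hue]
  ring

theorem cfixi_line_e (a b : F) : hh (a • e + b • u) e = 0 := by
  have := cfixi_line hF e u hee huu heu a b 1 0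
  simpa using this

theorem cfixi_line_u (a b : F) : hh (a • e + b • u) u = 0 := by
  have := cfixi_line hF e u hee huu heu a b 0 1
  simpa using this

theorem cfixi_e_line (a b : F) : hh e (a • e + b • u) = 0 :=
  hermForm_eq_zero_comm hF (cfixi_line_e hF e u hee huu heu a b)

theorem cfixi_u_line (a b : F) : hh u (a • e + b • u) = 0 :=
  hermForm_eq_zero_comm hF (cfixi_line_u hF e u hee huu heu a b)

/-- the "Siegel" element `x ↦ x + τ b h(x,e) u + τ b^q h(x,u) e`, as a product of three root elements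
with centres on the line -/
noncomputable def cfixi_S (τ b : F) : GL (Fin n) F :=
  utv q e (-τ) * utv q ((1 : F) • e + b • u) τ * utv q u (-(τ * b ^ (q + 1)))

omit hF hee huu heu in
theorem cfixi_S_def (τ b : F) : (cfixi_S (q := q) e u τ b : GL (Fin n) F)
    = utv q e (-τ) * utv q ((1 : F) • e + b • u) τ * utv q u (-(τ * b ^ (q + 1))) := rfl

theorem cfixi_S_mulVec (τ b : F) (x : Fin n → F) :
    ((cfixi_S (q := q) e u τ b : GL (Fin n) F) : Matrix (Fin n) (Fin n) F) *ᵥ x
      = x + (τ * b * hh x e) • u + (τ * b ^ q * hh x u) • e := by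
  have hue : hh u e = 0 := hermForm_eq_zero_comm hF heu
  rw [cfixi_S_def, cfixi_utv3 e ((1 : F) • e + b • u) u hee
    (cfixi_line hF e u hee huu heu 1 b 1 b) huu
    (cfixi_line_e hF e u hee huu heu 1 b) hue (cfixi_u_line hF e u hee huu heu 1 b),
    hermForm_add_right hF, hermForm_smul_right, hermForm_smul_right, one_pow, one_mul]
  have hb : b ^ (q + 1) = b ^ q * b := pow_succ b q
  rw [hb]
  module

theorem cfixi_S_hh_e (τ b : F) (x : Fin n → F) :
    hh (((cfixi_S (q := q) e u τ b : GL (Fin n) F) : Matrix (Fin n) (Fin n) F) *ᵥ x) e = hh x e := by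
  have hue : hh u e = 0 := hermForm_eq_zero_comm hF heu
  rw [cfixi_S_mulVec hF e u hee huu heu, hermForm_add_left, hermForm_add_left, hermForm_smul_left,
    hermForm_smul_left, hue, hee]
  ring

theorem cfixi_S_hh_u (τ b : F) (x : Fin n → F) :
    hh (((cfixi_S (q := q) e u τ b : GL (Fin n) F) : Matrix (Fin n) (Fin n) F) *ᵥ x) u = hh x u := by
  rw [cfixi_S_mulVec hF e u hee huu heu, hermForm_add_left, hermForm_add_left, hermForm_smul_left,
    hermForm_smul_left, huu, heu]
  ring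

theorem cfixi_S_add (τ b b' : F) :
    cfixi_S (q := q) e u τ (b + b') = cfixi_S (q := q) e u τ b * cfixi_S (q := q) e u τ b' := by
  apply Units.ext
  rw [Matrix.ext_iff_mulVec]
  intro x
  rw [Units.val_mul, ← Matrix.mulVec_mulVec, cfixi_S_mulVec hF e u hee huu heu τ b,
    cfixi_S_hh_e hF e u hee huu heu, cfixi_S_hh_u hF e u hee huu heu,
    cfixi_S_mulVec hF e u hee huu heu τ b', cfixi_S_mulVec hF e u hee huu heu τ (b + b'),
    frob_add hF]
  module

theorem cfixi_S_zero (τ : F) : cfixi_S (q := q) e u τ 0 = 1 := by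
  have h := cfixi_S_add hF e u hee huu heu τ 0 0
  rw [add_zero] at h
  exact (mul_eq_left (a := cfixi_S (q := q) e u τ 0)).mp h.symm

/-- KEY: the root element with centre `a e + b u` is a product of a root element at `e`, a Siegel
element and a root element at `u` -/
theorem cfixi_key {τ : F} (hτ0 : τ ≠ 0) (hτ : τ + τ ^ q = 0) {c : F} (hc : c + c ^ q = 0) (a b : F) :
    utv q (a • e + b • u) c
      = utv q e (c * a ^ (q + 1)) * cfixi_S (q := q) e u τ (c * a ^ q * b / τ)
          * utv q u (c * b ^ (q + 1)) := by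
  have hue : hh u e = 0 := hermForm_eq_zero_comm hF heu
  have hcq : c ^ q = -c := eq_neg_of_add_eq_zero_right hc
  have hτq : τ ^ q = -τ := eq_neg_of_add_eq_zero_right hτ
  have h1 : τ * (c * a ^ q * b / τ) = c * a ^ q * b := by field_simp
  have h2 : τ * (c * a ^ q * b / τ) ^ q = c * a * b ^ q := by
    rw [div_pow, mul_pow, mul_pow, cfixi_frob_frob hF, hcq, hτq]
    field_simp
  apply Units.ext
  rw [Matrix.ext_iff_mulVec]
  intro x
  rw [Units.val_mul, Units.val_mul, ← Matrix.mulVec_mulVec, ← Matrix.mulVec_mulVec,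
    utv_mulVec u huu, cfixi_S_mulVec hF e u hee huu heu, utv_mulVec e hee,
    utv_mulVec _ (cfixi_line hF e u hee huu heu a b a b)]
  simp only [hermForm_add_left, hermForm_smul_left, hermForm_add_right hF, hermForm_smul_right,
    hee, huu, hue, mul_zero, add_zero]
  rw [h1, h2]
  have ha : a ^ (q + 1) = a ^ q * a := pow_succ a q
  have hb : b ^ (q + 1) = b ^ q * b := pow_succ b q
  rw [ha, hb]
  module

end line

/-! ### the elements of `SUg` -/

omit [Fintype F] in
theorem cfixi_toSUg {g : GL (Fin n) F} (h : g ∈ suGL (F := F) n q) :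
    (toSUg g : SUg F n q) = ⟨g, h⟩ := by
  unfold toSUg
  rw [dif_pos h]

/-- the root element `utv p c` in `SUg` -/
noncomputable def cfixi_m (q : ℕ) (p : Fin n → F) (c : F) : SUg F n q := toSUg (utv q p c)

theorem cfixi_coe_m (hF : Fintype.card F = q ^ 2) (p : Fin n → F) (hp : hh p p = 0) {c : F}
    (hc : c + c ^ q = 0) : ((cfixi_m q p c : SUg F n q) : GL (Fin n) F) = utv q p c := by
  unfold cfixi_m
  rw [cfixi_toSUg (utv_mem_suGL hF p hp c hc)]

theorem cfixi_m_mem (hF : Fintype.card F = q ^ 2) (p : Fin n → F) (hp : hh p p = 0) {c : F}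
    (hc : c + c ^ q = 0) : (cfixi_m q p c : SUg F n q) ∈ (Zgrp p : Subgroup (SUg F n q)) :=
  Subgroup.subset_closure ⟨c, hc, cfixi_coe_m hF p hp hc⟩

theorem cfixi_m_zero (p : Fin n → F) (hp : hh p p = 0) : (cfixi_m q p 0 : SUg F n q) = 1 := by
  unfold cfixi_m
  rw [utv_zero p hp, cfixi_toSUg (one_mem _)]
  rfl

theorem cfixi_m_add (hF : Fintype.card F = q ^ 2) (p : Fin n → F) (hp : hh p p = 0) {c c' : F}
    (hc : c + c ^ q = 0) (hc' : c' + c' ^ q = 0) :
    (cfixi_m q p (c + c') : SUg F n q) = cfixi_m q p c * cfixi_m q p c' := by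
  apply Subtype.ext
  rw [Subgroup.coe_mul, cfixi_coe_m hF p hp hc, cfixi_coe_m hF p hp hc',
    cfixi_coe_m hF p hp (cfixi_tz_add hF hc hc'), utv_add p hp]

omit [Fintype F] in
theorem cfixi_Zgrp_le (e u : Fin n → F) (a b : F) :
    (Zgrp (a • e + b • u) : Subgroup (SUg F n q)) ≤ lineGrp e u :=
  le_iSup (fun v : F × F => (Zgrp (v.1 • e + v.2 • u) : Subgroup (SUg F n q))) (a, b)

omit [Fintype F] in
theorem cfixi_Zgrp_e_le (e u : Fin n → F) :
    (Zgrp e : Subgroup (SUg F n q)) ≤ lineGrp e u := by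
  have h := cfixi_Zgrp_le (q := q) e u 1 0
  simpa using h

omit [Fintype F] in
theorem cfixi_Zgrp_u_le (e u : Fin n → F) :
    (Zgrp u : Subgroup (SUg F n q)) ≤ lineGrp e u := by
  have h := cfixi_Zgrp_le (q := q) e u 0 1
  simpa using h

section line2

variable (hF : Fintype.card F = q ^ 2) (e u : Fin n → F)
  (hee : Cfsg.hermForm n F q e e = 0) (huu : Cfsg.hermForm n F q u u = 0)
  (heu : Cfsg.hermForm n F q e u = 0)

/-- the Siegel element in `SUg` -/
noncomputable def cfixi_sS (q : ℕ) (e u : Fin n → F) (τ b : F) : SUg F n q :=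
  cfixi_m q e (-τ) * cfixi_m q ((1 : F) • e + b • u) τ * cfixi_m q u (-(τ * b ^ (q + 1)))

include hF hee huu heu

theorem cfixi_coe_sS {τ : F} (hτ : τ + τ ^ q = 0) (b : F) :
    ((cfixi_sS q e u τ b : SUg F n q) : GL (Fin n) F) = cfixi_S (q := q) e u τ b := by
  unfold cfixi_sS
  rw [Subgroup.coe_mul, Subgroup.coe_mul, cfixi_coe_m hF e hee (cfixi_tz_neg hF hτ),
    cfixi_coe_m hF _ (cfixi_line hF e u hee huu heu 1 b 1 b) hτ,
    cfixi_coe_m hF u huu (cfixi_tz_neg hF (cfixi_tz_norm hF hτ b)), cfixi_S_def]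

theorem cfixi_sS_mem {τ : F} (hτ : τ + τ ^ q = 0) (b : F) :
    (cfixi_sS q e u τ b : SUg F n q) ∈ lineGrp e u := by
  unfold cfixi_sS
  refine mul_mem (mul_mem ?_ ?_) ?_
  · exact cfixi_Zgrp_e_le e u (cfixi_m_mem hF e hee (cfixi_tz_neg hF hτ))
  · exact cfixi_Zgrp_le e u 1 b
      (cfixi_m_mem hF _ (cfixi_line hF e u hee huu heu 1 b 1 b) hτ)
  · exact cfixi_Zgrp_u_le e u (cfixi_m_mem hF u huu (cfixi_tz_neg hF (cfixi_tz_norm hF hτ b)))

theorem cfixi_sS_add {τ : F} (hτ : τ + τ ^ q = 0) (b b' : F) :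
    (cfixi_sS q e u τ (b + b') : SUg F n q) = cfixi_sS q e u τ b * cfixi_sS q e u τ b' := by
  apply Subtype.ext
  rw [Subgroup.coe_mul, cfixi_coe_sS hF e u hee huu heu hτ, cfixi_coe_sS hF e u hee huu heu hτ,
    cfixi_coe_sS hF e u hee huu heu hτ, cfixi_S_add hF e u hee huu heu]

theorem cfixi_sS_zero {τ : F} (hτ : τ + τ ^ q = 0) : (cfixi_sS q e u τ 0 : SUg F n q) = 1 := by
  apply Subtype.ext
  rw [cfixi_coe_sS hF e u hee huu heu hτ, cfixi_S_zero hF e u hee huu heu]
  rfl

end line2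

/-- C-FIXI with F-DUAL as a hypothesis -/
theorem cfixi_core (hF : Fintype.card F = q ^ 2)
    (hdual : ∀ (μ1 μ2 ν : F → ℂ), μ1 0 = 1 →
      (∀ c c', c + c ^ q = 0 → c' + c' ^ q = 0 → μ1 (c + c') = μ1 c * μ1 c') → μ2 0 = 1 →
      (∀ c c', c + c ^ q = 0 → c' + c' ^ q = 0 → μ2 (c + c') = μ2 c * μ2 c') → ν 0 = 1 →
      (∀ t t', ν (t + t') = ν t * ν t') →
      ∃ α β : F, (α ≠ 0 ∨ β ≠ 0) ∧ ∀ c : F, c + c ^ q = 0 →
        μ1 (c * α ^ (q + 1)) * ν (c * α ^ q * β) * μ2 (c * β ^ (q + 1)) = 1)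
    (n : ℕ) (e u : Fin n → F)
    (hee : Cfsg.hermForm n F q e e = 0) (huu : Cfsg.hermForm n F q u u = 0)
    (heu : Cfsg.hermForm n F q e u = 0)
    (μ : SUg F n q → ℂ) (h1 : μ 1 = 1)
    (hmul : ∀ a ∈ (lineGrp e u : Subgroup (SUg F n q)), ∀ b ∈ (lineGrp e u : Subgroup (SUg F n q)),
      μ (a * b) = μ a * μ b) :
    ∃ v : LinePt F, ∀ z ∈ (Zgrp (v.1.1 • e + v.1.2 • u) : Subgroup (SUg F n q)), μ z = 1 := by
  obtain ⟨τ, hτ0, hτ⟩ := exists_trace_zero hF
  have he_mem : ∀ {c : F}, c + c ^ q = 0 → (cfixi_m q e c : SUg F n q) ∈ lineGrp e u :=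
    fun hc => cfixi_Zgrp_e_le e u (cfixi_m_mem hF e hee hc)
  have hu_mem : ∀ {c : F}, c + c ^ q = 0 → (cfixi_m q u c : SUg F n q) ∈ lineGrp e u :=
    fun hc => cfixi_Zgrp_u_le e u (cfixi_m_mem hF u huu hc)
  have hS_mem : ∀ b : F, (cfixi_sS q e u τ b : SUg F n q) ∈ lineGrp e u :=
    fun b => cfixi_sS_mem hF e u hee huu heu hτ b
  obtain ⟨α, β, hαβ, H⟩ := hdual
    (fun c => μ (cfixi_m q e c)) (fun c => μ (cfixi_m q u c))
    (fun t => μ (cfixi_sS q e u τ (t / τ)))
    (by show μ (cfixi_m q e 0) = 1; rw [cfixi_m_zero e hee, h1])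
    (by
      intro c c' hc hc'
      show μ (cfixi_m q e (c + c')) = μ (cfixi_m q e c) * μ (cfixi_m q e c')
      rw [cfixi_m_add hF e hee hc hc']
      exact hmul _ (he_mem hc) _ (he_mem hc'))
    (by show μ (cfixi_m q u 0) = 1; rw [cfixi_m_zero u huu, h1])
    (by
      intro c c' hc hc'
      show μ (cfixi_m q u (c + c')) = μ (cfixi_m q u c) * μ (cfixi_m q u c')
      rw [cfixi_m_add hF u huu hc hc']
      exact hmul _ (hu_mem hc) _ (hu_mem hc'))
    (by
      show μ (cfixi_sS q e u τ (0 / τ)) = 1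
      rw [zero_div, cfixi_sS_zero hF e u hee huu heu hτ, h1])
    (by
      intro t t'
      show μ (cfixi_sS q e u τ ((t + t') / τ))
        = μ (cfixi_sS q e u τ (t / τ)) * μ (cfixi_sS q e u τ (t' / τ))
      rw [add_div, cfixi_sS_add hF e u hee huu heu hτ]
      exact hmul _ (hS_mem _) _ (hS_mem _))
  have hne : ((α, β) : F × F) ≠ 0 := by
    intro h
    rw [Prod.mk_eq_zero] at h
    rcases hαβ with h' | h'
    · exact h' h.1
    · exact h' h.2
  refine ⟨⟨(α, β), hne⟩, ?_⟩
  show ∀ z ∈ (Zgrp (α • e + β • u) : Subgroup (SUg F n q)), μ z = 1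
  have hle : (Zgrp (α • e + β • u) : Subgroup (SUg F n q)) ≤ lineGrp e u := cfixi_Zgrp_le e u α β
  intro z hz
  unfold Zgrp at hz
  induction hz using Subgroup.closure_induction with
  | mem z hz =>
    obtain ⟨c, hc, hzc⟩ := hz
    have hzeq : z = cfixi_m q e (c * α ^ (q + 1)) * cfixi_sS q e u τ (c * α ^ q * β / τ)
        * cfixi_m q u (c * β ^ (q + 1)) := by
      apply Subtype.ext
      rw [Subgroup.coe_mul, Subgroup.coe_mul, cfixi_coe_m hF e hee (cfixi_tz_norm hF hc α),
        cfixi_coe_sS hF e u hee huu heu hτ, cfixi_coe_m hF u huu (cfixi_tz_norm hF hc β), hzc]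
      exact cfixi_key hF e u hee huu heu hτ0 hτ hc α β
    rw [hzeq, hmul _ (mul_mem (he_mem (cfixi_tz_norm hF hc α)) (hS_mem _)) _
      (hu_mem (cfixi_tz_norm hF hc β)), hmul _ (he_mem (cfixi_tz_norm hF hc α)) _ (hS_mem _)]
    exact H c hc
  | one => exact h1
  | mul x y hx hy ihx ihy =>
    rw [hmul x (hle hx) y (hle hy), ihx, ihy, one_mul]
  | inv x hx ihx =>
    have h := hmul x⁻¹ (inv_mem (hle hx)) x (hle hx)
    rw [inv_mul_cancel, h1, ihx, mul_one] at h
    exact h.symm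

end concrete

end Cfsg.Agent.Lib.Helper6.Ls
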