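import Mathlib
import Cfsg.Agent.Lib.Helper45.LtCore

/-! # S2363 hive "Lt" (helper45): leaf LT-2E6 `lt_2e6` (helper73) -/

set_option autoImplicit false

namespace Cfsg.Agent.Lib.Helper45.Lt

/-- `(x - 1) (y + 1) < x y` for `1 ≤ x ≤ y` -/
theorem te6_twist (x y : ℕ) (hx : 1 ≤ x) (hxy : x ≤ y) : (x - 1) * (y + 1) < x * y := by
  obtain ⟨r, rfl⟩ : ∃ r, x = r + 1 := ⟨x - 1, by omega⟩
  rw [Nat.add_sub_cancel]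
  nlinarith

/-- `(q^a - 1) (q^b + 1) < q^(a+b)` for `a ≤ b`, `1 ≤ q` -/
theorem te6_twist_pow (q a b : ℕ) (hq : 1 ≤ q) (hab : a ≤ b) :
    (q ^ a - 1) * (q ^ b + 1) < q ^ (a + b) := by
  rw [pow_add]
  exact te6_twist _ _ (Nat.one_le_pow _ _ hq) (Nat.pow_le_pow_right hq hab)

/-- LT-2E6 (S1066): `N = 36`, `l = 6`, `d = gcd(3, q+1)`; `(q^5 + 1)(q^2 - 1) < q^7`,
`(q^9 + 1)(q^6 - 1) < q^15`. -/
theorem lt_2e6 {p f g : ℕ} (hp : p.Prime) (hf : 1 ≤ f) (hg : 0 < g)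
    (hcard : Nat.gcd 3 (p ^ f + 1) * g = (p ^ f) ^ 36 * ((p ^ f) ^ 2 - 1) * ((p ^ f) ^ 5 + 1) *
      ((p ^ f) ^ 6 - 1) * ((p ^ f) ^ 8 - 1) * ((p ^ f) ^ 9 + 1) * ((p ^ f) ^ 12 - 1)) :
    g < p ^ (3 * g.factorization p) ∧ g ^ 3 < p ^ (8 * g.factorization p) := by
  have hq : 1 ≤ p ^ f := Nat.one_le_pow _ _ hp.pos
  have hd : Nat.gcd 3 (p ^ f + 1) * g = (p ^ f) ^ 36 *
      (((((p ^ f) ^ 2 - 1) * ((p ^ f) ^ 5 + 1)) * (((p ^ f) ^ 6 - 1) * ((p ^ f) ^ 9 + 1))) *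
        (((p ^ f) ^ 8 - 1) * ((p ^ f) ^ 12 - 1))) := by
    rw [hcard]; ring
  have h1 : ¬ p ∣ p ^ f + 1 := by
    have := lt_not_dvd_add_one (a := 1) hp hf le_rfl
    rwa [pow_one] at this
  have hpd : ¬ p ∣ Nat.gcd 3 (p ^ f + 1) := lt_not_dvd_of_dvd (Nat.gcd_dvd_right _ _) h1
  have hd1 : 1 ≤ Nat.gcd 3 (p ^ f + 1) := Nat.gcd_pos_of_pos_left _ (by norm_num)
  have hpM : ¬ p ∣ ((((p ^ f) ^ 2 - 1) * ((p ^ f) ^ 5 + 1)) *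
      (((p ^ f) ^ 6 - 1) * ((p ^ f) ^ 9 + 1))) * (((p ^ f) ^ 8 - 1) * ((p ^ f) ^ 12 - 1)) :=
    lt_not_dvd_mul hp
      (lt_not_dvd_mul hp
        (lt_not_dvd_mul hp (lt_not_dvd_sub_one hp hf (by norm_num))
          (lt_not_dvd_add_one hp hf (by norm_num)))
        (lt_not_dvd_mul hp (lt_not_dvd_sub_one hp hf (by norm_num))
          (lt_not_dvd_add_one hp hf (by norm_num))))
      (lt_not_dvd_mul hp (lt_not_dvd_sub_one hp hf (by norm_num))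
        (lt_not_dvd_sub_one hp hf (by norm_num)))
  have hA : ((p ^ f) ^ 2 - 1) * ((p ^ f) ^ 5 + 1) < (p ^ f) ^ 7 :=
    te6_twist_pow (p ^ f) 2 5 hq (by norm_num)
  have hB : ((p ^ f) ^ 6 - 1) * ((p ^ f) ^ 9 + 1) < (p ^ f) ^ 15 :=
    te6_twist_pow (p ^ f) 6 9 hq (by norm_num)
  have hC : ((p ^ f) ^ 8 - 1) * ((p ^ f) ^ 12 - 1) ≤ (p ^ f) ^ 20 := by
    rw [show 20 = 8 + 12 from rfl, pow_add]
    exact Nat.mul_le_mul (Nat.sub_le _ _) (Nat.sub_le _ _)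
  have hM0 : ((((p ^ f) ^ 2 - 1) * ((p ^ f) ^ 5 + 1)) * (((p ^ f) ^ 6 - 1) * ((p ^ f) ^ 9 + 1))) *
      (((p ^ f) ^ 8 - 1) * ((p ^ f) ^ 12 - 1)) < (p ^ f) ^ (36 + 6) := by
    rw [show 36 + 6 = (7 + 15) + 20 from rfl, pow_add, pow_add]
    exact Nat.mul_lt_mul_of_lt_of_le (Nat.mul_lt_mul'' hA hB) hC (pow_pos hq 20)
  have hM : ((((p ^ f) ^ 2 - 1) * ((p ^ f) ^ 5 + 1)) * (((p ^ f) ^ 6 - 1) * ((p ^ f) ^ 9 + 1))) *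
      (((p ^ f) ^ 8 - 1) * ((p ^ f) ^ 12 - 1)) < Nat.gcd 3 (p ^ f + 1) * (p ^ f) ^ (36 + 6) :=
    lt_of_lt_of_le hM0 (Nat.le_mul_of_pos_left _ hd1)
  obtain ⟨-, h2, h3⟩ := lt_core (N := 36) (l := 6) hp hf hg hd hpd hpM hM (by norm_num)
  exact ⟨h2, h3 (by norm_num)⟩

end Cfsg.Agent.Lib.Helper45.Lt
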