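import Cfsg.Agent.S1896
import Cfsg.Agent.Lib.Helper73.MaxClass
import Cfsg.Agent.Lib.Helper53.MetaAutA

/-!
Group-theoretic core for the resistance of metacyclic `2`-groups: a metacyclic `2`-group `G` that is
not dihedral, semidihedral or generalized quaternion has no proper subgroup `E` with a non-`2`-group
automorphism group on which every element of `N_G(E) \ E` acts nontrivially modulo squares.
-/

set_option autoImplicit false

namespace Cfsg.Agent.Lib.Helper73.MetaFus

open Cfsg Subgroup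

universe u

/-- A metacyclic group has all elementary abelian quotients of order at most four. -/
theorem quotRankTwo_of_metacyclic {G : Type*} [Group G] (hm : Cfsg.IsMetacyclic G) :
    QuotRankTwo G := by
  obtain ⟨K, hKn, hKc, hQc⟩ := hm
  obtain ⟨a, ha⟩ := hKc.exists_generator
  obtain ⟨bq, hbq⟩ := hQc.exists_generator
  obtain ⟨b, rfl⟩ := QuotientGroup.mk'_surjective K bq
  intro N hN hsq
  have hx2 : ∀ g : G, (QuotientGroup.mk' N g) ^ (2 : ℤ) = 1 := by
    intro g
    have : (QuotientGroup.mk' N g) ^ 2 = 1 := by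
      rw [← map_pow]
      exact (QuotientGroup.eq_one_iff _).2 (hsq g)
    exact_mod_cast this
  obtain ⟨x, hx⟩ : ∃ x : G ⧸ N, x = QuotientGroup.mk' N b := ⟨_, rfl⟩
  obtain ⟨y, hy⟩ : ∃ y : G ⧸ N, y = QuotientGroup.mk' N (a : G) := ⟨_, rfl⟩
  let f : Bool × Bool → G ⧸ N := fun st =>
    (if st.1 then x else 1) * (if st.2 then y else 1)
  have hf : Function.Surjective f := by
    intro q
    obtain ⟨g, rfl⟩ := QuotientGroup.mk'_surjective N q
    obtain ⟨i, hi⟩ := Subgroup.mem_zpowers_iff.1 (hbq (QuotientGroup.mk' K g))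
    have h1 : (b ^ i)⁻¹ * g ∈ K := by
      rw [← QuotientGroup.eq_one_iff, QuotientGroup.mk_mul, QuotientGroup.mk_inv,
        QuotientGroup.mk_zpow]
      have : (QuotientGroup.mk' K b) ^ i = QuotientGroup.mk' K g := hi
      simp only [QuotientGroup.mk'_apply] at this
      rw [this, inv_mul_cancel]
    obtain ⟨j, hj⟩ := Subgroup.mem_zpowers_iff.1 (ha ⟨_, h1⟩)
    have hj' : (a : G) ^ j = (b ^ i)⁻¹ * g := by
      have := congrArg Subtype.val hj
      simpa using this
    have hg : g = b ^ i * (a : G) ^ j := by rw [hj']; group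
    have hq : QuotientGroup.mk' N g = x ^ i * y ^ j := by
      rw [hg, hx, hy]; simp
    rw [hq, hx, hy, zpow_eq_zpow_emod i (hx2 b), zpow_eq_zpow_emod j (hx2 (a : G)), ← hx, ← hy]
    rcases Int.emod_two_eq_zero_or_one i with h0 | h0 <;>
    rcases Int.emod_two_eq_zero_or_one j with h1' | h1'
    · exact ⟨(false, false), by simp [f, h0, h1']⟩
    · exact ⟨(false, true), by simp [f, h0, h1']⟩
    · exact ⟨(true, false), by simp [f, h0, h1']⟩
    · exact ⟨(true, true), by simp [f, h0, h1']⟩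
  have hcard := Nat.card_le_card_of_surjective f hf
  rw [Subgroup.index_eq_card]
  have h4 : Nat.card (Bool × Bool) = 4 := by
    rw [Nat.card_eq_fintype_card]; rfl
  omega

theorem quotRankTwo_subgroup_of_metacyclic {G : Type*} [Group G] (hm : Cfsg.IsMetacyclic G)
    (M : Subgroup G) : QuotRankTwo ↥M :=
  quotRankTwo_of_metacyclic
    (Cfsg.Agent.Lib.Helper53.ma_isMetacyclic_of_injective M.subtype M.subtype_injective hm)

/-- In a finite `2`-group, an element outside a subgroup has a `2`-power power outside the subgroup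
whose square lies inside. -/
theorem exists_pow_not_mem_sq_mem {G : Type*} [Group G] [Finite G] (hG : IsPGroup 2 G)
    (H : Subgroup G) (g : G) (hg : g ∉ H) :
    ∃ i : ℕ, g ^ (2 ^ i) ∉ H ∧ g ^ (2 ^ i) * g ^ (2 ^ i) ∈ H := by
  classical
  obtain ⟨k, hk⟩ := hG g
  have hex : ∃ i : ℕ, g ^ (2 ^ i) ∈ H := ⟨k, by rw [hk]; exact H.one_mem⟩
  have hpos : Nat.find hex ≠ 0 := by
    intro h0
    have := Nat.find_spec hex
    rw [h0, pow_zero, pow_one] at this
    exact hg this
  obtain ⟨i, hi⟩ := Nat.exists_eq_succ_of_ne_zero hpos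
  refine ⟨i, ?_, ?_⟩
  · exact Nat.find_min hex (by omega)
  · have := Nat.find_spec hex
    rw [hi, Nat.succ_eq_add_one, pow_succ, pow_mul, pow_two] at this
    exact this

/-- Key contradiction: a metacyclic `2`-group `U` cannot have a proper normal abelian subgroup `E`
whose involutions lie in a normal subgroup `Φ` containing all squares of `E`, if every element
outside `E` acts nontrivially on `E` modulo `Φ`. -/
theorem no_normal_abelian_of_metacyclic {U : Type*} [Group U] [Finite U] (hU : IsPGroup 2 U)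
    (hm : Cfsg.IsMetacyclic U) (E : Subgroup U) [hEn : E.Normal]
    (hEab : ∀ x ∈ E, ∀ y ∈ E, x * y = y * x) (hEne : E ≠ ⊤)
    (Φ : Subgroup U) [hΦn : Φ.Normal] (hsq : ∀ e ∈ E, e * e ∈ Φ)
    (hinv : ∀ e ∈ E, e * e = 1 → e ∈ Φ)
    (hP : ∀ u : U, u ∉ E → ∃ e ∈ E, u * e * u⁻¹ * e⁻¹ ∉ Φ) : False := by
  obtain ⟨N, hNn, hNc, hQc⟩ := hm
  obtain ⟨c0, hc0⟩ := hNc.exists_generator
  set c : U := (c0 : U) with hc
  have hcN : c ∈ N := c0.2
  have hNz : ∀ n ∈ N, ∃ l : ℤ, c ^ l = n := by
    intro n hn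
    obtain ⟨l, hl⟩ := Subgroup.mem_zpowers_iff.1 (hc0 ⟨n, hn⟩)
    refine ⟨l, ?_⟩
    have := congrArg Subtype.val hl
    simpa using this
  have hNcomm : ∀ n ∈ N, ∀ n' ∈ N, n * n' = n' * n := by
    intro n hn n' hn'
    obtain ⟨l, rfl⟩ := hNz n hn
    obtain ⟨l', rfl⟩ := hNz n' hn'
    rw [← zpow_add, ← zpow_add, add_comm]
  by_cases hNE : N ≤ E
  · -- Case B
    obtain ⟨uq, huq⟩ := hQc.exists_generator
    obtain ⟨u, rfl⟩ := QuotientGroup.mk'_surjective N uq
    have hdecomp : ∀ g : U, ∃ i : ℤ, ∃ n ∈ N, g = u ^ i * n := by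
      intro g
      obtain ⟨i, hi⟩ := Subgroup.mem_zpowers_iff.1 (huq (QuotientGroup.mk' N g))
      have h1 : (u ^ i)⁻¹ * g ∈ N := by
        rw [← QuotientGroup.eq_one_iff, QuotientGroup.mk_mul, QuotientGroup.mk_inv,
          QuotientGroup.mk_zpow]
        have : (QuotientGroup.mk' N u) ^ i = QuotientGroup.mk' N g := hi
        simp only [QuotientGroup.mk'_apply] at this
        rw [this, inv_mul_cancel]
      exact ⟨i, _, h1, by group⟩
    have huE : u ∉ E := by
      intro hu
      apply hEne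
      rw [eq_top_iff]
      intro g _
      obtain ⟨i, n, hn, rfl⟩ := hdecomp g
      exact E.mul_mem (E.zpow_mem hu i) (hNE hn)
    obtain ⟨e, heE, hne⟩ := hP u huE
    apply hne
    obtain ⟨i, n, hn, rfl⟩ := hdecomp e
    -- the commutator of `u` with `n` lies in `Φ`
    have hkey : u * n * u⁻¹ * n⁻¹ ∈ Φ := by
      have hconj : u * c * u⁻¹ ∈ N := hNn.conj_mem c hcN u
      obtain ⟨j, hj⟩ := hNz _ hconj
      obtain ⟨l, rfl⟩ := hNz n hn
      have h1 : u * c ^ l * u⁻¹ = (c ^ j) ^ l := by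
        rw [hj, conj_zpow]
      rcases Int.even_or_odd j with ⟨m, hm⟩ | ⟨m, hm⟩
      · -- `j` even forces `c = 1`
        have hd : u⁻¹ * c ^ m * u ∈ N := by
          have := hNn.conj_mem (c ^ m) (N.zpow_mem hcN m) u⁻¹
          simpa using this
        obtain ⟨i', hi'⟩ := hNz _ hd
        have hc1 : c = c ^ (i' + i') := by
          have e1 : u * c * u⁻¹ = c ^ m * c ^ m := by rw [← hj, hm, zpow_add]
          have e2 : c = u⁻¹ * (u * c * u⁻¹) * u := by group
          calc c = u⁻¹ * (u * c * u⁻¹) * u := e2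
            _ = u⁻¹ * (c ^ m * c ^ m) * u := by rw [e1]
            _ = (u⁻¹ * c ^ m * u) * (u⁻¹ * c ^ m * u) := by group
            _ = c ^ i' * c ^ i' := by rw [← hi']
            _ = c ^ (i' + i') := by rw [zpow_add]
        have hc2 : c ^ (i' + i' - 1) = 1 := by
          rw [zpow_sub, zpow_one, ← hc1, mul_inv_cancel]
        obtain ⟨k, hk⟩ := (IsPGroup.iff_orderOf.1 hU) c
        have hdvd : (orderOf c : ℤ) ∣ i' + i' - 1 := orderOf_dvd_iff_zpow_eq_one.2 hc2
        have hk0 : k = 0 := by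
          by_contra hk0
          have h2 : (2 : ℤ) ∣ i' + i' - 1 := by
            refine dvd_trans ?_ hdvd
            rw [hk]
            exact_mod_cast dvd_pow_self 2 hk0
          omega
        rw [hk0, pow_zero, orderOf_eq_one_iff] at hk
        rw [hk]
        simp
      · -- `j` odd
        have h2 : u * c ^ l * u⁻¹ * (c ^ l)⁻¹ = (c ^ l) ^ m * (c ^ l) ^ m := by
          rw [h1, hm]
          rw [← zpow_mul, ← zpow_mul, ← zpow_neg, ← zpow_add, ← zpow_add]
          congr 1
          ring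
        rw [h2]
        exact hsq _ (E.zpow_mem (hNE (N.zpow_mem hcN l)) m)
    have h3 : u * (u ^ i * n) * u⁻¹ * (u ^ i * n)⁻¹ = u ^ i * (u * n * u⁻¹ * n⁻¹) * (u ^ i)⁻¹ := by
      have hcomm : u * u ^ i = u ^ i * u := by
        rw [← zpow_one_add, ← zpow_add_one, add_comm]
      calc u * (u ^ i * n) * u⁻¹ * (u ^ i * n)⁻¹
          = (u * u ^ i) * n * u⁻¹ * n⁻¹ * (u ^ i)⁻¹ := by group
        _ = (u ^ i * u) * n * u⁻¹ * n⁻¹ * (u ^ i)⁻¹ := by rw [hcomm]
        _ = u ^ i * (u * n * u⁻¹ * n⁻¹) * (u ^ i)⁻¹ := by group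
    rw [h3]
    exact hΦn.conj_mem _ hkey _
  · -- Case A
    have hcE : c ∉ E := by
      intro hcE
      apply hNE
      intro n hn
      obtain ⟨l, rfl⟩ := hNz n hn
      exact E.zpow_mem hcE l
    obtain ⟨i, hi1, hi2⟩ := exists_pow_not_mem_sq_mem hU E c hcE
    set a : U := c ^ (2 ^ i) with ha
    have haN : a ∈ N := N.pow_mem hcN _
    obtain ⟨e, heE, hw⟩ := hP a hi1
    set w : U := a * e * a⁻¹ * e⁻¹ with hwdef
    have hwN : w ∈ N := by
      have : w = a * (e * a⁻¹ * e⁻¹) := by rw [hwdef]; group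
      rw [this]
      exact N.mul_mem haN (hNn.conj_mem _ (N.inv_mem haN) e)
    have hwE : w ∈ E := E.mul_mem (hEn.conj_mem e heE a) (E.inv_mem heE)
    have haw : a * w = w * a := hNcomm a haN w hwN
    have h1 : a * e * a⁻¹ = w * e := by rw [hwdef]; group
    have h2 : (a * a) * e * (a * a)⁻¹ = w * w * e := by
      calc (a * a) * e * (a * a)⁻¹ = a * (a * e * a⁻¹) * a⁻¹ := by group
        _ = a * (w * e) * a⁻¹ := by rw [h1]
        _ = (a * w) * e * a⁻¹ := by group
        _ = (w * a) * e * a⁻¹ := by rw [haw]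
        _ = w * (a * e * a⁻¹) := by group
        _ = w * (w * e) := by rw [h1]
        _ = w * w * e := by group
    have h3 : (a * a) * e * (a * a)⁻¹ = e := by
      rw [hEab _ hi2 e heE]; group
    have hww : w * w = 1 := by
      have : w * w * e = e := by rw [← h2, h3]
      exact mul_eq_right.1 this |> fun h => h
    exact hw (hinv w hwE hww)

/-- Adjoining to `E` an element `u` normalizing `E` with `u ∉ E`, `u² ∈ E` doubles the order. -/
theorem card_sup_zpowers {G : Type*} [Group G] [Finite G] (E : Subgroup G) (u : G)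
    (hu : u ∈ normalizer (E : Set G)) (huE : u ∉ E) (hu2 : u * u ∈ E) :
    Nat.card ↥(E ⊔ zpowers u) = 2 * Nat.card ↥E := by
  have hconj : ∀ e ∈ E, u * e * u⁻¹ ∈ E := fun e he => (mem_normalizer_iff.1 hu e).1 he
  have hconj' : ∀ e ∈ E, u⁻¹ * e * u ∈ E := by
    intro e he
    have := (mem_normalizer_iff.1 ((normalizer (E : Set G)).inv_mem hu) e).1 he
    simpa using this
  let T : Subgroup G :=
    { carrier := {b | b ∈ E ∨ b * u ∈ E}
      one_mem' := Or.inl E.one_mem
      mul_mem' := by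
        rintro b1 b2 (h1 | h1) (h2 | h2)
        · exact Or.inl (E.mul_mem h1 h2)
        · right
          have : b1 * b2 * u = b1 * (b2 * u) := by group
          rw [this]; exact E.mul_mem h1 h2
        · right
          have : b1 * b2 * u = (b1 * u) * (u⁻¹ * b2 * u) := by group
          rw [this]; exact E.mul_mem h1 (hconj' _ h2)
        · left
          have : b1 * b2 = (b1 * u) * (u⁻¹ * (b2 * u) * u) * (u * u)⁻¹ := by group
          rw [this]; exact E.mul_mem (E.mul_mem h1 (hconj' _ h2)) (E.inv_mem hu2)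
      inv_mem' := by
        rintro b (h | h)
        · exact Or.inl (E.inv_mem h)
        · right
          have : b⁻¹ * u = (u * (b * u)⁻¹ * u⁻¹) * (u * u) := by group
          rw [this]; exact E.mul_mem (hconj _ (E.inv_mem h)) hu2 }
  have hWT : E ⊔ zpowers u ≤ T := by
    apply sup_le
    · intro e he; exact Or.inl he
    · rw [zpowers_le]; exact Or.inr hu2
  have hrel : E.relIndex (E ⊔ zpowers u) = 2 := by
    rw [relIndex_eq_two_iff]
    refine ⟨u, mem_sup_right (mem_zpowers u), fun b hb => ?_⟩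
    rcases hWT hb with h | h
    · right
      refine ⟨h, fun h' => huE ?_⟩
      have : u = b⁻¹ * (b * u) := by group
      rw [this]; exact E.mul_mem (E.inv_mem h) h'
    · left
      refine ⟨h, fun h' => huE ?_⟩
      have : u = b⁻¹ * (b * u) := by group
      rw [this]; exact E.mul_mem (E.inv_mem h') h
  have h1 := Subgroup.card_mul_index (E.subgroupOf (E ⊔ zpowers u))
  have h2 : (E.subgroupOf (E ⊔ zpowers u)).index = 2 := hrel
  have h3 : Nat.card ↥(E.subgroupOf (E ⊔ zpowers u)) = Nat.card ↥E :=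
    Nat.card_congr (Subgroup.subgroupOfEquivOfLe le_sup_left).toEquiv
  rw [h2, h3] at h1
  omega

theorem zmod_exists_double {n : ℕ} (hn : 2 ≤ n) (a : ZMod (2 ^ n)) (ha : a + a = 0) :
    ∃ b : ZMod (2 ^ n), a = b + b := by
  haveI : NeZero (2 ^ n) := ⟨by positivity⟩
  have h1 : ((a.val + a.val : ℕ) : ZMod (2 ^ n)) = 0 := by
    push_cast
    rw [ZMod.natCast_zmod_val]
    exact ha
  rw [ZMod.natCast_eq_zero_iff] at h1
  have hp : 2 ^ n = 2 * 2 ^ (n - 1) := by
    rw [← pow_succ']; congr 1; omega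
  have hp' : 2 ^ (n - 1) = 2 * 2 ^ (n - 2) := by
    rw [← pow_succ']; congr 1; omega
  obtain ⟨k, hk⟩ : 2 ^ (n - 1) ∣ a.val := by
    have h1' : 2 * 2 ^ (n - 1) ∣ 2 * a.val := by
      rw [← hp, two_mul]; exact h1
    exact (Nat.mul_dvd_mul_iff_left (by norm_num)).1 h1'
  refine ⟨((2 ^ (n - 2) * k : ℕ) : ZMod (2 ^ n)), ?_⟩
  rw [← Nat.cast_add]
  conv_lhs => rw [← ZMod.natCast_zmod_val a]
  congr 1
  rw [hk, hp']
  ring

theorem mult_exists_sq {n : ℕ} (hn : 2 ≤ n) (x : Multiplicative (ZMod (2 ^ n))) (hx : x * x = 1) :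
    ∃ y : Multiplicative (ZMod (2 ^ n)), x = y * y := by
  obtain ⟨b, hb⟩ := zmod_exists_double hn (Multiplicative.toAdd x) (by
    rw [← toAdd_mul, hx, toAdd_one])
  refine ⟨Multiplicative.ofAdd b, ?_⟩
  apply Multiplicative.toAdd.injective
  rw [toAdd_mul, toAdd_ofAdd]
  exact hb

/-- **Core lemma.** A metacyclic `2`-group which is not dihedral, semidihedral or generalized
quaternion has no proper subgroup `E` whose automorphism group is not a `2`-group and such that every
element of `N_G(E) \ E` acts nontrivially on `E` modulo squares. -/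
theorem false_of_aut_not_two_group {G : Type u} [Group G] [Finite G] (hG : IsPGroup 2 G)
    (hm : Cfsg.IsMetacyclic G)
    (hd : ¬ ∃ m : ℕ, Nonempty (G ≃* DihedralGroup m))
    (hq : ¬ ∃ m : ℕ, Nonempty (G ≃* QuaternionGroup m)) (hsd : ¬ Cfsg.IsQuasiDihedral G)
    (E : Subgroup G) (hE : E ≠ ⊤) (hA : ¬ IsPGroup 2 (MulAut ↥E))
    (hP : ∀ u ∈ normalizer (E : Set G), u ∉ E →
      ∃ e ∈ E, ∀ f ∈ E, u * e * u⁻¹ * e⁻¹ ≠ f * f) :
    False := by
  have : Fact (Nat.Prime 2) := ⟨Nat.prime_two⟩
  have hr : ∀ M : Subgroup G, QuotRankTwo ↥M := quotRankTwo_subgroup_of_metacyclic hm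
  have hmax : ∀ H : Subgroup G, MC ↥H → False := by
    intro H hH
    rcases maxClass_of_MC_le hG hr H hH with ⟨k, ⟨e⟩⟩ | ⟨k, hc, a, b, ha, hb, hab⟩ | ⟨k, ⟨e⟩⟩
    · exact hd ⟨_, ⟨e⟩⟩
    · exact hsd ⟨k + 3, by omega, hc, a, b, ha, hb, hab⟩
    · exact hq ⟨_, ⟨e⟩⟩
  have hEm : Cfsg.IsMetacyclic ↥E :=
    Cfsg.Agent.Lib.Helper53.ma_isMetacyclic_of_injective E.subtype E.subtype_injective hm
  haveI : Group.IsNilpotent G := hG.isNilpotent
  obtain ⟨v, hvN, hvE⟩ : ∃ v ∈ normalizer (E : Set G), v ∉ E := by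
    have hlt := Group.normalizerCondition_of_isNilpotent (G := G) E (lt_top_iff_ne_top.2 hE)
    exact SetLike.exists_of_lt hlt
  obtain ⟨i, hu1, hu2⟩ := exists_pow_not_mem_sq_mem hG E v hvE
  obtain ⟨u, hu⟩ : ∃ u : G, u = v ^ (2 ^ i) := ⟨_, rfl⟩
  rw [← hu] at hu1 hu2
  have huN : u ∈ normalizer (E : Set G) := by rw [hu]; exact pow_mem hvN _
  obtain ⟨e0, he0E, he0⟩ := hP u huN hu1
  have hne1 : u * e0 * u⁻¹ * e0⁻¹ ≠ 1 := by
    have := he0 1 E.one_mem
    simpa using this
  rcases Cfsg.Agent.S1896.result (hG.to_subgroup E) hEm hA with ⟨⟨e⟩⟩ | ⟨n, ⟨e⟩⟩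
  · exact hmax E (MC.congr e.symm MC_quaternion_two)
  · have hEab : ∀ x ∈ E, ∀ y ∈ E, x * y = y * x := by
      intro x hx y hy
      have h1 : (⟨x, hx⟩ : E) * ⟨y, hy⟩ = ⟨y, hy⟩ * ⟨x, hx⟩ := by
        apply e.injective
        rw [map_mul, map_mul, mul_comm]
      exact congrArg Subtype.val h1
    have hcardE : Nat.card ↥E = 2 ^ n * 2 ^ n := by
      rw [Nat.card_congr e.toEquiv, Nat.card_prod]
      have : Nat.card (Multiplicative (ZMod (2 ^ n))) = 2 ^ n := by
        rw [Nat.card_congr Multiplicative.toAdd, Nat.card_zmod]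
      rw [this]
    rcases Nat.lt_or_ge n 2 with hn | hn
    · interval_cases n
      · -- `E` trivial
        have hE1 : Nat.card ↥E = 1 := by rw [hcardE]; norm_num
        have hbot : E = ⊥ := Subgroup.card_eq_one.1 hE1
        rw [hbot, Subgroup.mem_bot] at he0E
        apply hne1
        rw [he0E]; group
      · -- `E` a four-group
        have h8 : Nat.card ↥(E ⊔ zpowers u) = 8 := by
          rw [card_sup_zpowers E u huN hu1 hu2, hcardE]; norm_num
        apply hmax (E ⊔ zpowers u)
        apply MC_of_card_eight h8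
        refine ⟨⟨u, mem_sup_right (mem_zpowers u)⟩, ⟨e0, mem_sup_left he0E⟩, ?_⟩
        intro h
        apply hne1
        have h' : u * e0 = e0 * u := congrArg Subtype.val h
        rw [h']; group
    · -- `n ≥ 2`
      have hUm : Cfsg.IsMetacyclic ↥(normalizer (E : Set G)) :=
        Cfsg.Agent.Lib.Helper53.ma_isMetacyclic_of_injective (normalizer (E : Set G)).subtype
          (normalizer (E : Set G)).subtype_injective hm
      haveI hEn' : (E.subgroupOf (normalizer (E : Set G))).Normal := Subgroup.normal_in_normalizer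
      have hEab' : ∀ x ∈ E.subgroupOf (normalizer (E : Set G)),
          ∀ y ∈ E.subgroupOf (normalizer (E : Set G)), x * y = y * x := by
        intro x hx y hy
        apply Subtype.ext
        exact hEab _ (mem_subgroupOf.1 hx) _ (mem_subgroupOf.1 hy)
      let Φ : Subgroup ↥(normalizer (E : Set G)) :=
        { carrier := {x | ∃ f ∈ E.subgroupOf (normalizer (E : Set G)), x = f * f}
          one_mem' := ⟨1, Subgroup.one_mem _, by simp⟩
          mul_mem' := by
            rintro x y ⟨f, hf, rfl⟩ ⟨g, hg, rfl⟩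
            refine ⟨f * g, Subgroup.mul_mem _ hf hg, ?_⟩
            have := hEab' f hf g hg
            calc f * f * (g * g) = f * (f * g) * g := by group
              _ = f * (g * f) * g := by rw [this]
              _ = f * g * (f * g) := by group
          inv_mem' := by
            rintro x ⟨f, hf, rfl⟩
            exact ⟨f⁻¹, Subgroup.inv_mem _ hf, by group⟩ }
      haveI hΦn : Φ.Normal := ⟨by
        rintro x ⟨f, hf, rfl⟩ g
        exact ⟨g * f * g⁻¹, hEn'.conj_mem f hf g, by group⟩⟩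
      apply no_normal_abelian_of_metacyclic (hG.to_subgroup (normalizer (E : Set G))) hUm
        (E.subgroupOf (normalizer (E : Set G))) hEab' ?_ Φ ?_ ?_ ?_
      · intro htop
        apply hu1
        have : (⟨u, huN⟩ : ↥(normalizer (E : Set G))) ∈ E.subgroupOf (normalizer (E : Set G)) := by
          rw [htop]; exact Subgroup.mem_top _
        exact mem_subgroupOf.1 this
      · intro x hx
        exact ⟨x, hx, rfl⟩
      · intro x hx hxx
        have hxE : (x : G) ∈ E := mem_subgroupOf.1 hx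
        have h1 : (⟨x, hxE⟩ : ↥E) * ⟨x, hxE⟩ = 1 := by
          apply Subtype.ext
          have := congrArg Subtype.val hxx
          simpa using this
        have h2 : e ⟨x, hxE⟩ * e ⟨x, hxE⟩ = 1 := by rw [← map_mul, h1, map_one]
        obtain ⟨a', ha'⟩ := mult_exists_sq hn (e ⟨x, hxE⟩).1 (by
          have := congrArg Prod.fst h2; simpa using this)
        obtain ⟨b', hb'⟩ := mult_exists_sq hn (e ⟨x, hxE⟩).2 (by
          have := congrArg Prod.snd h2; simpa using this)
        have h3 : (⟨x, hxE⟩ : ↥E) = e.symm (a', b') * e.symm (a', b') := by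
          apply e.injective
          rw [map_mul, MulEquiv.apply_symm_apply]
          exact Prod.ext ha' hb'
        refine ⟨⟨(e.symm (a', b') : G), le_normalizer (e.symm (a', b')).2⟩,
          mem_subgroupOf.2 (e.symm (a', b')).2, ?_⟩
        apply Subtype.ext
        have := congrArg Subtype.val h3
        simpa using this
      · intro w hw
        have hwE : (w : G) ∉ E := fun h => hw (mem_subgroupOf.2 h)
        obtain ⟨e1, he1E, he1⟩ := hP w w.2 hwE
        refine ⟨⟨e1, le_normalizer he1E⟩, mem_subgroupOf.2 he1E, ?_⟩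
        rintro ⟨f, hf, hff⟩
        apply he1 (f : G) (mem_subgroupOf.1 hf)
        have := congrArg Subtype.val hff
        simpa using this

end Cfsg.Agent.Lib.Helper73.MetaFus
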