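import Cfsg.Agent.Lib.Helper73.MetaFusA
import Cfsg.Agent.Lib.Helper87.Essential
import Cfsg.Agent.Lib.Helper88.EssOut
import Cfsg.Agent.Lib.Helper48.StronglyEmbedded
import Cfsg.Agent.Lib.Helper32.Rank2Ker
import Cfsg.Agent.Lib.Helper24.Omega1

/-!
Fusion-system side of the resistance of metacyclic `2`-groups: consequences of the existence of a
strongly `p`-embedded subgroup in `Out_F(E)` for an essential subgroup `E`.
-/

set_option autoImplicit false

namespace Cfsg.Agent.Lib.Helper73.MetaFus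

open Cfsg Cfsg.FusionSystem Cfsg.Agent.Lib.Helper87

/-- Normal `p`-subgroups die in a quotient which has a strongly `p`-embedded subgroup. -/
theorem le_of_normal_pgroup_of_se {A : Type*} [Group A] [Finite A] {p : ℕ} [Fact p.Prime]
    (N : Subgroup A) [N.Normal] (M : Subgroup (A ⧸ N)) (hM : Cfsg.IsStronglyPEmbedded p M)
    (K : Subgroup A) [K.Normal] (hK : IsPGroup p K) : K ≤ N := by
  obtain ⟨hdvd, hMtop, P, hΓ⟩ := hM
  have hKbar : IsPGroup p (K.map (QuotientGroup.mk' N)) := hK.map _
  haveI : (K.map (QuotientGroup.mk' N)).Normal :=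
    Subgroup.Normal.map inferInstance _ (QuotientGroup.mk'_surjective N)
  have hle : K.map (QuotientGroup.mk' N) ≤ P := hKbar.le_sylow_of_normal P
  by_contra hKN
  have hne : K.map (QuotientGroup.mk' N) ≠ ⊥ := by
    intro h0
    apply hKN
    intro k hk
    have : QuotientGroup.mk' N k ∈ K.map (QuotientGroup.mk' N) := Subgroup.mem_map_of_mem _ hk
    rw [h0, Subgroup.mem_bot] at this
    exact (QuotientGroup.eq_one_iff k).1 this
  have h1 := (Cfsg.Agent.Lib.Helper48.normalizer_le_kGeneratedCore P.2 hle hne).trans hΓ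
  rw [Subgroup.normalizer_eq_top] at h1
  exact hMtop (top_le_iff.1 h1)

/-- A group with a quotient having a strongly `p`-embedded subgroup is not a `p`-group. -/
theorem not_isPGroup_of_se {A : Type*} [Group A] [Finite A] {p : ℕ} [hp : Fact p.Prime]
    (N : Subgroup A) [N.Normal] (M : Subgroup (A ⧸ N)) (hM : Cfsg.IsStronglyPEmbedded p M) :
    ¬ IsPGroup p A := by
  intro hA
  have h := le_of_normal_pgroup_of_se N M hM ⊤ (hA.to_subgroup ⊤)
  have hN : N = ⊤ := top_le_iff.1 h
  have hd := hM.1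
  rw [← Subgroup.index_eq_card, hN, Subgroup.index_top] at hd
  exact hp.out.one_lt.ne' (Nat.dvd_one.1 hd)

variable {Ω : Type*} [Group Ω] {S : Subgroup Ω}

/-- For an essential subgroup `E`, every element of `N_S(E) \ E` acts nontrivially on
`E / Φ(E)`. -/
theorem essential_act_nontrivial [Finite S] (hS : IsPGroup 2 S) (F : FusionSystem S)
    {E : Subgroup Ω} (hE : F.IsEssential 2 E) (u : Ω) (huS : u ∈ S)
    (huN : u ∈ Subgroup.normalizer (E : Set Ω)) (huE : u ∉ E) :
    ∃ x : ↥E, conjAut E u huN x * x⁻¹ ∉ frattini ↥E := by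
  have : Fact (Nat.Prime 2) := ⟨Nat.prime_two⟩
  obtain ⟨hcen, hfn, hN, M, hM⟩ := hE
  have hES : E ≤ S := hfn.1
  haveI : Finite ↥E := finite_of_le hES
  have hEp : IsPGroup 2 ↥E := hS.to_le hES
  by_contra hcon
  push Not at hcon
  haveI := hN
  let θ : ↥(F.autGroup E) →* MulAut (↥E ⧸ frattini ↥E) :=
    (Cfsg.Agent.Lib.Helper32.Rank2.autQuot (frattini ↥E)).comp (F.autGroup E).subtype
  have hKp : IsPGroup 2 θ.ker := by
    intro z
    have hz : Cfsg.Agent.Lib.Helper32.Rank2.autQuot (frattini ↥E) ((z : ↥(F.autGroup E)) : MulAut ↥E)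
        = 1 := z.2
    obtain ⟨k, hk⟩ := Cfsg.Agent.Lib.Helper32.Rank2.pKer_autQuot_frattini hEp _ hz
    refine ⟨k, ?_⟩
    apply Subtype.ext
    apply Subtype.ext
    simpa using hk
  have hle := le_of_normal_pgroup_of_se ((Inn ↥E).subgroupOf (F.autGroup E)) M hM θ.ker hKp
  have hcA : conjAut E u huN ∈ F.autGroup E :=
    autInducedBy_le_autGroup F hES (conjAut_mem_autInducedBy huS huN)
  have hker : (⟨conjAut E u huN, hcA⟩ : ↥(F.autGroup E)) ∈ θ.ker := by
    rw [MonoidHom.mem_ker]
    ext q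
    obtain ⟨x, rfl⟩ := QuotientGroup.mk'_surjective (frattini ↥E) q
    show Cfsg.Agent.Lib.Helper32.Rank2.autQuot (frattini ↥E) (conjAut E u huN)
      (QuotientGroup.mk x) = QuotientGroup.mk x
    rw [Cfsg.Agent.Lib.Helper32.Rank2.autQuot_mk]
    have h1 := (QuotientGroup.eq_one_iff (N := frattini ↥E) _).2 (hcon x)
    rw [QuotientGroup.mk_mul, QuotientGroup.mk_inv, mul_inv_eq_one] at h1
    exact h1
  have hinn : conjAut E u huN ∈ Inn ↥E := Subgroup.mem_subgroupOf.1 (hle hker)
  exact not_mem_inn_of_conj hES (hcen.2 E (isConj_refl F hES)) huS huE (fun x => rfl) hinn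

/-- If `Aut(S)` is a `2`-group then every `F`-automorphism of `S` is induced by an element of
`S`. -/
theorem autGroup_top_induced [Finite S] (hS : IsPGroup 2 S) (F : FusionSystem S)
    (hF : F.IsSaturated 2) (hA : IsPGroup 2 (MulAut ↥S)) :
    ∀ α ∈ F.autGroup S, ∃ g ∈ S, ∀ x : S, ((α x : S) : Ω) = g * x * g⁻¹ := by
  have : Fact (Nat.Prime 2) := ⟨Nat.prime_two⟩
  have hfn : F.IsFullyNormalized S := by
    refine ⟨le_rfl, fun Q _ => ?_⟩
    haveI : Finite ↥(normalizerIn S S) := finite_of_le inf_le_left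
    apply Subgroup.card_le_of_le
    intro x hx
    exact ⟨hx.1, Subgroup.le_normalizer hx.1⟩
  obtain ⟨-, R, hR⟩ := (fc_fa_of_fullyNormalized hS F hF hfn).2
  have hAp : IsPGroup 2 ↥(F.autGroup S) := hA.to_subgroup _
  have htop : (R : Subgroup ↥(F.autGroup S)) = ⊤ :=
    (R.is_maximal' (hAp.to_subgroup ⊤) le_top).symm
  intro α hα
  have h1 : (⟨α, hα⟩ : ↥(F.autGroup S)) ∈ (autInducedBy S S).subgroupOf (F.autGroup S) := by
    rw [← hR, htop]; exact Subgroup.mem_top _
  exact (mem_autInducedBy_iff S S α).1 (Subgroup.mem_subgroupOf.1 h1)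

/-- The product of two copies of `Multiplicative (ZMod m)` as functions on `Fin 2`. -/
def prodEquivFinTwo (m : ℕ) :
    Multiplicative (ZMod m) × Multiplicative (ZMod m) ≃* Multiplicative (Fin 2 → ZMod m) where
  toFun p := Multiplicative.ofAdd ![Multiplicative.toAdd p.1, Multiplicative.toAdd p.2]
  invFun f := (Multiplicative.ofAdd (Multiplicative.toAdd f 0),
    Multiplicative.ofAdd (Multiplicative.toAdd f 1))
  left_inv := by intro p; simp
  right_inv := by
    intro f
    apply Multiplicative.toAdd.injective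
    funext i
    fin_cases i <;> simp
  map_mul' := by
    intro p q
    apply Multiplicative.toAdd.injective
    funext i
    fin_cases i <;> simp

end Cfsg.Agent.Lib.Helper73.MetaFus
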