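import Cfsg.Agent.Lib.Helper73.MetaFusB

/-!
A generalisation of the core lemma of `MetaFusA` (the normalizer replaced by any subgroup `T` with
`E < T ≤ N_G(E)`), and the analysis of the automorphisms of `E` acting trivially on `E / Q` for an
invariant subgroup `Q`.
-/

set_option autoImplicit false

namespace Cfsg.Agent.Lib.Helper73.MetaFus

open Cfsg Subgroup

universe u

/-- **Core lemma.** A metacyclic `2`-group which is not dihedral, semidihedral or generalized
quaternion has no proper subgroup `E` whose automorphism group is not a `2`-group and such that every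
element of `N_G(E) \ E` acts nontrivially on `E` modulo squares. -/
theorem false_of_aut_not_two_group' {G : Type u} [Group G] [Finite G] (hG : IsPGroup 2 G)
    (hm : Cfsg.IsMetacyclic G)
    (hd : ¬ ∃ m : ℕ, Nonempty (G ≃* DihedralGroup m))
    (hq : ¬ ∃ m : ℕ, Nonempty (G ≃* QuaternionGroup m)) (hsd : ¬ Cfsg.IsQuasiDihedral G)
    (E T : Subgroup G) (hET : E ≤ T) (hTN : T ≤ normalizer (E : Set G)) (hTE : ¬ T ≤ E)
    (hA : ¬ IsPGroup 2 (MulAut ↥E))
    (hP : ∀ u ∈ T, u ∉ E → ∃ e ∈ E, ∀ f ∈ E, u * e * u⁻¹ * e⁻¹ ≠ f * f) :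
    False := by
  have : Fact (Nat.Prime 2) := ⟨Nat.prime_two⟩
  have hr : ∀ M : Subgroup G, QuotRankTwo ↥M := quotRankTwo_subgroup_of_metacyclic hm
  have hmax : ∀ H : Subgroup G, MC ↥H → False := by
    intro H hH
    rcases maxClass_of_MC_le hG hr H hH with ⟨k, ⟨e⟩⟩ | ⟨k, hc, a, b, ha, hb, hab⟩ | ⟨k, ⟨e⟩⟩
    · exact hd ⟨_, ⟨e⟩⟩
    · exact hsd ⟨k + 3, by omega, hc, a, b, ha, hb, hab⟩
    · exact hq ⟨_, ⟨e⟩⟩
  have hEm : Cfsg.IsMetacyclic ↥E :=
    Cfsg.Agent.Lib.Helper53.ma_isMetacyclic_of_injective E.subtype E.subtype_injective hm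
  obtain ⟨v, hvT, hvE⟩ : ∃ v ∈ T, v ∉ E := SetLike.not_le_iff_exists.1 hTE
  have hvN : v ∈ normalizer (E : Set G) := hTN hvT
  obtain ⟨i, hu1, hu2⟩ := exists_pow_not_mem_sq_mem hG E v hvE
  obtain ⟨u, hu⟩ : ∃ u : G, u = v ^ (2 ^ i) := ⟨_, rfl⟩
  rw [← hu] at hu1 hu2
  have huN : u ∈ normalizer (E : Set G) := by rw [hu]; exact pow_mem hvN _
  have huT : u ∈ T := by rw [hu]; exact pow_mem hvT _
  obtain ⟨e0, he0E, he0⟩ := hP u huT hu1
  have hne1 : u * e0 * u⁻¹ * e0⁻¹ ≠ 1 := by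
    have := he0 1 E.one_mem
    simpa using this
  rcases Cfsg.Agent.S1896.result (hG.to_subgroup E) hEm hA with ⟨⟨e⟩⟩ | ⟨n, ⟨e⟩⟩
  · exact hmax E (MC.congr e.symm MC_quaternion_two)
  · have hEab : ∀ x ∈ E, ∀ y ∈ E, x * y = y * x := by
      intro x hx y hy
      have h1 : (⟨x, hx⟩ : E) * ⟨y, hy⟩ = ⟨y, hy⟩ * ⟨x, hx⟩ := by
        apply e.injective
        rw [map_mul, map_mul, mul_comm]
      exact congrArg Subtype.val h1
    have hcardE : Nat.card ↥E = 2 ^ n * 2 ^ n := by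
      rw [Nat.card_congr e.toEquiv, Nat.card_prod]
      have : Nat.card (Multiplicative (ZMod (2 ^ n))) = 2 ^ n := by
        rw [Nat.card_congr Multiplicative.toAdd, Nat.card_zmod]
      rw [this]
    rcases Nat.lt_or_ge n 2 with hn | hn
    · interval_cases n
      · -- `E` trivial
        have hE1 : Nat.card ↥E = 1 := by rw [hcardE]; norm_num
        have hbot : E = ⊥ := Subgroup.card_eq_one.1 hE1
        rw [hbot, Subgroup.mem_bot] at he0E
        apply hne1
        rw [he0E]; group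
      · -- `E` a four-group
        have h8 : Nat.card ↥(E ⊔ zpowers u) = 8 := by
          rw [card_sup_zpowers E u huN hu1 hu2, hcardE]; norm_num
        apply hmax (E ⊔ zpowers u)
        apply MC_of_card_eight h8
        refine ⟨⟨u, mem_sup_right (mem_zpowers u)⟩, ⟨e0, mem_sup_left he0E⟩, ?_⟩
        intro h
        apply hne1
        have h' : u * e0 = e0 * u := congrArg Subtype.val h
        rw [h']; group
    · -- `n ≥ 2`
      have hUm : Cfsg.IsMetacyclic ↥(T) :=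
        Cfsg.Agent.Lib.Helper53.ma_isMetacyclic_of_injective (T).subtype
          (T).subtype_injective hm
      haveI hEn' : (E.subgroupOf (T)).Normal :=
        (Subgroup.normal_subgroupOf_iff_le_normalizer hET).2 hTN
      have hEab' : ∀ x ∈ E.subgroupOf (T),
          ∀ y ∈ E.subgroupOf (T), x * y = y * x := by
        intro x hx y hy
        apply Subtype.ext
        exact hEab _ (mem_subgroupOf.1 hx) _ (mem_subgroupOf.1 hy)
      let Φ : Subgroup ↥(T) :=
        { carrier := {x | ∃ f ∈ E.subgroupOf (T), x = f * f}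
          one_mem' := ⟨1, Subgroup.one_mem _, by simp⟩
          mul_mem' := by
            rintro x y ⟨f, hf, rfl⟩ ⟨g, hg, rfl⟩
            refine ⟨f * g, Subgroup.mul_mem _ hf hg, ?_⟩
            have := hEab' f hf g hg
            calc f * f * (g * g) = f * (f * g) * g := by group
              _ = f * (g * f) * g := by rw [this]
              _ = f * g * (f * g) := by group
          inv_mem' := by
            rintro x ⟨f, hf, rfl⟩
            exact ⟨f⁻¹, Subgroup.inv_mem _ hf, by group⟩ }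
      haveI hΦn : Φ.Normal := ⟨by
        rintro x ⟨f, hf, rfl⟩ g
        exact ⟨g * f * g⁻¹, hEn'.conj_mem f hf g, by group⟩⟩
      apply no_normal_abelian_of_metacyclic (hG.to_subgroup (T)) hUm
        (E.subgroupOf (T)) hEab' ?_ Φ ?_ ?_ ?_
      · intro htop
        apply hu1
        have : (⟨u, huT⟩ : ↥T) ∈ E.subgroupOf (T) := by
          rw [htop]; exact Subgroup.mem_top _
        exact mem_subgroupOf.1 this
      · intro x hx
        exact ⟨x, hx, rfl⟩
      · intro x hx hxx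
        have hxE : (x : G) ∈ E := mem_subgroupOf.1 hx
        have h1 : (⟨x, hxE⟩ : ↥E) * ⟨x, hxE⟩ = 1 := by
          apply Subtype.ext
          have := congrArg Subtype.val hxx
          simpa using this
        have h2 : e ⟨x, hxE⟩ * e ⟨x, hxE⟩ = 1 := by rw [← map_mul, h1, map_one]
        obtain ⟨a', ha'⟩ := mult_exists_sq hn (e ⟨x, hxE⟩).1 (by
          have := congrArg Prod.fst h2; simpa using this)
        obtain ⟨b', hb'⟩ := mult_exists_sq hn (e ⟨x, hxE⟩).2 (by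
          have := congrArg Prod.snd h2; simpa using this)
        have h3 : (⟨x, hxE⟩ : ↥E) = e.symm (a', b') * e.symm (a', b') := by
          apply e.injective
          rw [map_mul, MulEquiv.apply_symm_apply]
          exact Prod.ext ha' hb'
        refine ⟨⟨(e.symm (a', b') : G), hET (e.symm (a', b')).2⟩,
          mem_subgroupOf.2 (e.symm (a', b')).2, ?_⟩
        apply Subtype.ext
        have := congrArg Subtype.val h3
        simpa using this
      · intro w hw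
        have hwE : (w : G) ∉ E := fun h => hw (mem_subgroupOf.2 h)
        obtain ⟨e1, he1E, he1⟩ := hP w w.2 hwE
        refine ⟨⟨e1, hET he1E⟩, mem_subgroupOf.2 he1E, ?_⟩
        rintro ⟨f, hf, hff⟩
        apply he1 (f : G) (mem_subgroupOf.1 hf)
        have := congrArg Subtype.val hff
        simpa using this


section KQ

variable {Ω : Type*} [Group Ω] {E Q : Subgroup Ω} (hQE : Q ≤ E) (A : Subgroup (MulAut ↥E))
  (hinv : ∀ α ∈ A, ∀ x : ↥E, (x : Ω) ∈ Q → ((α x : ↥E) : Ω) ∈ Q)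

/-- Restriction of the automorphisms in `A` to the invariant subgroup `Q`. -/
def resAutQ : ↥A →* MulAut ↥Q where
  toFun α :=
    { toFun := fun y => ⟨((α : MulAut ↥E) ⟨y, hQE y.2⟩ : ↥E), hinv α α.2 _ y.2⟩
      invFun := fun y => ⟨((α⁻¹ : ↥A) : MulAut ↥E) ⟨y, hQE y.2⟩, hinv _ (α⁻¹).2 _ y.2⟩
      left_inv := by
        intro y
        apply Subtype.ext
        simp
      right_inv := by
        intro y
        apply Subtype.ext
        simp
      map_mul' := by
        intro y z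
        apply Subtype.ext
        show (((α : MulAut ↥E) (⟨y, hQE y.2⟩ * ⟨z, hQE z.2⟩) : ↥E) : Ω) = _
        rw [map_mul]
        rfl }
  map_one' := by
    ext y
    rfl
  map_mul' := by
    intro α β
    ext y
    rfl

theorem resAutQ_coe (α : ↥A) (y : ↥Q) :
    ((resAutQ hQE A hinv α y : ↥Q) : Ω) = (((α : MulAut ↥E) ⟨y, hQE y.2⟩ : ↥E) : Ω) := rfl

/-- The automorphisms in `A` acting trivially on `E / Q` (as left cosets). -/
def KQ : Subgroup ↥A where
  carrier := {α | ∀ x : ↥E, (((α : MulAut ↥E) x * x⁻¹ : ↥E) : Ω) ∈ Q}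
  one_mem' := by
    intro x
    simp
  mul_mem' := by
    intro α β hα hβ x
    have h1 := hα ((β : MulAut ↥E) x)
    have h2 := hβ x
    have : ((α * β : ↥A) : MulAut ↥E) x * x⁻¹ =
        ((α : MulAut ↥E) ((β : MulAut ↥E) x) * ((β : MulAut ↥E) x)⁻¹) *
          ((β : MulAut ↥E) x * x⁻¹) := by
      simp [mul_assoc]
    rw [this, Subgroup.coe_mul]
    exact Q.mul_mem h1 h2
  inv_mem' := by
    intro α hα x
    have h1 := hα (((α⁻¹ : ↥A) : MulAut ↥E) x)
    have h2 : ((α : MulAut ↥E) (((α⁻¹ : ↥A) : MulAut ↥E) x)) = x := by simp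
    rw [h2] at h1
    have : ((α⁻¹ : ↥A) : MulAut ↥E) x * x⁻¹ = (x * (((α⁻¹ : ↥A) : MulAut ↥E) x)⁻¹)⁻¹ := by
      simp
    rw [this, Subgroup.coe_inv]
    exact Q.inv_mem h1

theorem mem_KQ_iff (α : ↥A) :
    α ∈ KQ (Q := Q) A ↔ ∀ x : ↥E, (((α : MulAut ↥E) x * x⁻¹ : ↥E) : Ω) ∈ Q := Iff.rfl

include hinv in
theorem KQ_normal : (KQ (Q := Q) A).Normal := by
  constructor
  intro α hα γ x
  have h1 := hα (((γ⁻¹ : ↥A) : MulAut ↥E) x)
  have h2 := hinv γ γ.2 _ h1
  have : ((γ * α * γ⁻¹ : ↥A) : MulAut ↥E) x * x⁻¹ =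
      (γ : MulAut ↥E) ((α : MulAut ↥E) (((γ⁻¹ : ↥A) : MulAut ↥E) x) *
        (((γ⁻¹ : ↥A) : MulAut ↥E) x)⁻¹) := by
    simp
  rw [this]
  exact h2

/-- An element of `KQ` acting trivially on `Q` has order dividing `|Q|`. -/
theorem pow_card_eq_one_of_mem_KQ [Finite ↥Q] (γ : ↥A) (hγ : γ ∈ KQ (Q := Q) A)
    (hres : resAutQ hQE A hinv γ = 1) : γ ^ Nat.card ↥Q = 1 := by
  have hfix : ∀ y : ↥E, (y : Ω) ∈ Q → (γ : MulAut ↥E) y = y := by
    intro y hy
    have := congrArg (fun f : MulAut ↥Q => ((f ⟨y, hy⟩ : ↥Q) : Ω)) hres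
    apply Subtype.ext
    simpa [resAutQ_coe] using this
  have hpow : ∀ (k : ℕ) (x : ↥E),
      ((γ : MulAut ↥E) ^ k) x = ((γ : MulAut ↥E) x * x⁻¹) ^ k * x := by
    intro k
    induction k with
    | zero => intro x; simp
    | succ k ih =>
      intro x
      rw [pow_succ', MulAut.mul_apply, ih x, map_mul, map_pow, hfix _ (hγ x)]
      rw [pow_succ]
      simp [mul_assoc]
  apply Subtype.ext
  ext x
  rw [Subgroup.coe_pow, hpow, Subgroup.coe_one, MulAut.one_apply]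
  have hq : ((γ : MulAut ↥E) x * x⁻¹) ^ Nat.card ↥Q = 1 := by
    have h1 : (⟨((γ : MulAut ↥E) x * x⁻¹ : ↥E), hγ x⟩ : ↥Q) ^ Nat.card ↥Q = 1 := pow_card_eq_one'
    have h2 := congrArg (fun z : ↥Q => (z : Ω)) h1
    simp only [Subgroup.coe_pow, Subgroup.coe_one] at h2
    apply Subtype.ext
    rw [Subgroup.coe_pow, Subgroup.coe_one]
    exact h2
  rw [hq, one_mul]

include hQE hinv in
/-- If `Aut(Q)` is a `2`-group then so is `KQ`. -/
theorem isPGroup_KQ_of_aut [Finite ↥Q] (hQp : IsPGroup 2 ↥Q) (hAQ : IsPGroup 2 (MulAut ↥Q)) :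
    IsPGroup 2 ↥(KQ (Q := Q) A) := by
  have : Fact (Nat.Prime 2) := ⟨Nat.prime_two⟩
  obtain ⟨b, hb⟩ := IsPGroup.iff_card.1 hQp
  intro γ
  obtain ⟨a, ha⟩ := hAQ (resAutQ hQE A hinv γ)
  rw [← map_pow] at ha
  have h1 := pow_card_eq_one_of_mem_KQ hQE A hinv ((γ : ↥A) ^ 2 ^ a)
    ((KQ (Q := Q) A).pow_mem γ.2 _) ha
  refine ⟨a + b, ?_⟩
  apply Subtype.ext
  rw [Subgroup.coe_pow, pow_add, pow_mul, ← hb]
  exact h1

include hinv in
/-- The elements of `KQ` acting trivially on `Q / Φ(Q)` form a normal `2`-subgroup. -/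
theorem KQ_frattini [Finite ↥Q] (hQp : IsPGroup 2 ↥Q) :
    ∃ K₁ : Subgroup ↥A, K₁.Normal ∧ IsPGroup 2 ↥K₁ ∧
      ∀ γ ∈ KQ (Q := Q) A, (∀ y : ↥Q, resAutQ hQE A hinv γ y * y⁻¹ ∈ frattini ↥Q) → γ ∈ K₁ := by
  have : Fact (Nat.Prime 2) := ⟨Nat.prime_two⟩
  obtain ⟨b, hb⟩ := IsPGroup.iff_card.1 hQp
  let θ : ↥A →* MulAut (↥Q ⧸ frattini ↥Q) :=
    (Cfsg.Agent.Lib.Helper32.Rank2.autQuot (frattini ↥Q)).comp (resAutQ hQE A hinv)
  haveI := KQ_normal (Q := Q) A hinv
  refine ⟨KQ (Q := Q) A ⊓ θ.ker, inferInstance, ?_, ?_⟩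
  · intro γ
    have hγK : (γ : ↥A) ∈ KQ (Q := Q) A := γ.2.1
    have hγθ : Cfsg.Agent.Lib.Helper32.Rank2.autQuot (frattini ↥Q)
        (resAutQ hQE A hinv (γ : ↥A)) = 1 := γ.2.2
    obtain ⟨a, ha⟩ := Cfsg.Agent.Lib.Helper32.Rank2.pKer_autQuot_frattini hQp _ hγθ
    rw [← map_pow] at ha
    have h1 := pow_card_eq_one_of_mem_KQ hQE A hinv ((γ : ↥A) ^ 2 ^ a)
      ((KQ (Q := Q) A).pow_mem hγK _) ha
    refine ⟨a + b, ?_⟩
    apply Subtype.ext
    rw [Subgroup.coe_pow, pow_add, pow_mul, ← hb]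
    exact h1
  · intro γ hγ hfr
    refine ⟨hγ, ?_⟩
    show γ ∈ θ.ker
    rw [MonoidHom.mem_ker]
    ext q
    obtain ⟨y, rfl⟩ := QuotientGroup.mk'_surjective (frattini ↥Q) q
    show Cfsg.Agent.Lib.Helper32.Rank2.autQuot (frattini ↥Q) (resAutQ hQE A hinv γ)
      (QuotientGroup.mk y) = QuotientGroup.mk y
    rw [Cfsg.Agent.Lib.Helper32.Rank2.autQuot_mk]
    have h1 := (QuotientGroup.eq_one_iff (N := frattini ↥Q) _).2 (hfr y)
    rw [QuotientGroup.mk_mul, QuotientGroup.mk_inv, mul_inv_eq_one] at h1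
    exact h1

end KQ

end Cfsg.Agent.Lib.Helper73.MetaFus
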