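import Mathlib
import Cfsg.Prelude.Def_CaseTheorems

set_option autoImplicit false

namespace Cfsg.Agent.Lib.Helper73

/-- Internal form of "sectional `p`-rank at most `k`": for subgroups `N ≤ H` of `G` with `N`
normalized by `H` and `H/N` elementary abelian, `|H : N| ≤ p ^ k`. -/
def IntRankLE (p k : ℕ) (G : Type*) [Group G] : Prop :=
  ∀ H N : Subgroup G, N ≤ H → (∀ h ∈ H, ∀ n ∈ N, h * n * h⁻¹ ∈ N) → (∀ a ∈ H, a ^ p ∈ N) →
    (∀ a ∈ H, ∀ b ∈ H, a * b * a⁻¹ * b⁻¹ ∈ N) → N.relIndex H ≤ p ^ k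

theorem intRankLE_of_sectional {p k : ℕ} {G : Type*} [Group G]
    (hr : Cfsg.SectionalPRankLE p k G) : IntRankLE p k G := by
  intro H N hNH hnorm hpow hcomm
  have hN' : (N.subgroupOf H).Normal := by
    refine ⟨fun n hn h => ?_⟩
    rw [Subgroup.mem_subgroupOf] at hn ⊢
    exact hnorm h h.2 n hn
  have h1 := hr H (N.subgroupOf H)
  have hqpow : ∀ q : ↥H ⧸ N.subgroupOf H, q ^ p = 1 := by
    intro q
    obtain ⟨g, rfl⟩ := QuotientGroup.mk'_surjective (N.subgroupOf H) q
    rw [← map_pow]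
    refine (QuotientGroup.eq_one_iff _).2 ?_
    rw [Subgroup.mem_subgroupOf]
    exact hpow g g.2
  have hqcomm : ∀ a b : ↥H ⧸ N.subgroupOf H, a * b = b * a := by
    intro a b
    obtain ⟨g, rfl⟩ := QuotientGroup.mk'_surjective (N.subgroupOf H) a
    obtain ⟨g', rfl⟩ := QuotientGroup.mk'_surjective (N.subgroupOf H) b
    rw [← map_mul, ← map_mul]
    have h2 : (g * g') * (g' * g)⁻¹ ∈ N.subgroupOf H := by
      rw [Subgroup.mem_subgroupOf]
      have := hcomm g g.2 g' g'.2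
      have e : ((g * g' * (g' * g)⁻¹ : ↥H) : G) = (g : G) * g' * (g : G)⁻¹ * (g' : G)⁻¹ := by
        simp only [Subgroup.coe_mul, Subgroup.coe_inv]
        group
      rw [e]; exact this
    have h3 : QuotientGroup.mk' (N.subgroupOf H) (g * g' * (g' * g)⁻¹) = 1 :=
      (QuotientGroup.eq_one_iff _).2 h2
    rw [map_mul, map_inv, mul_inv_eq_one] at h3
    exact h3
  have h2 := h1 ⊤ ⟨⟨fun a b => Subtype.ext (hqcomm a.1 b.1)⟩⟩ (fun a _ => hqpow a)
  rw [Subgroup.card_top] at h2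
  exact h2

theorem sectional_of_intRankLE {p k : ℕ} {G : Type*} [Group G]
    (hr : IntRankLE p k G) : Cfsg.SectionalPRankLE p k G := by
  intro H N hN A hAc hAp
  have h1 := hr ((A.comap (QuotientGroup.mk' N)).map H.subtype) (N.map H.subtype) ?_ ?_ ?_ ?_
  · rw [Subgroup.relIndex_map_map_of_injective _ _ H.subtype_injective] at h1
    have h2 := Subgroup.relIndex_comap (⊥ : Subgroup (↥H ⧸ N)) (QuotientGroup.mk' N)
      (A.comap (QuotientGroup.mk' N))
    rw [MonoidHom.comap_bot, QuotientGroup.ker_mk',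
      Subgroup.map_comap_eq_self_of_surjective (QuotientGroup.mk'_surjective N),
      Subgroup.relIndex_bot_left] at h2
    rw [← h2]; exact h1
  · apply Subgroup.map_mono
    intro n hn
    rw [Subgroup.mem_comap]
    have : QuotientGroup.mk' N n = 1 := (QuotientGroup.eq_one_iff n).2 hn
    rw [this]; exact A.one_mem
  · rintro _ ⟨h, -, rfl⟩ _ ⟨n, hn, rfl⟩
    exact ⟨h * n * h⁻¹, hN.conj_mem n hn h, by simp⟩
  · rintro _ ⟨a, ha, rfl⟩
    have ha : QuotientGroup.mk' N a ∈ A := ha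
    refine ⟨a ^ p, ?_, by simp⟩
    show a ^ p ∈ N
    rw [← QuotientGroup.eq_one_iff, ← QuotientGroup.mk'_apply, map_pow]
    exact hAp _ ha
  · rintro _ ⟨a, ha, rfl⟩ _ ⟨b, hb, rfl⟩
    have ha : QuotientGroup.mk' N a ∈ A := ha
    have hb : QuotientGroup.mk' N b ∈ A := hb
    refine ⟨a * b * a⁻¹ * b⁻¹, ?_, by simp⟩
    show a * b * a⁻¹ * b⁻¹ ∈ N
    rw [← QuotientGroup.eq_one_iff, ← QuotientGroup.mk'_apply]
    simp only [map_mul, map_inv]
    have hc : QuotientGroup.mk' N a * QuotientGroup.mk' N b =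
        QuotientGroup.mk' N b * QuotientGroup.mk' N a := by
      have := hAc.is_comm.comm ⟨_, ha⟩ ⟨_, hb⟩
      exact congrArg Subtype.val this
    rw [hc]; group

theorem sectional_iff_intRankLE {p k : ℕ} {G : Type*} [Group G] :
    Cfsg.SectionalPRankLE p k G ↔ IntRankLE p k G :=
  ⟨intRankLE_of_sectional, sectional_of_intRankLE⟩

/-- The internal rank condition passes to any group that embeds. -/
theorem IntRankLE.of_injective {p k : ℕ} {G G' : Type*} [Group G] [Group G'] (f : G' →* G)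
    (hf : Function.Injective f) (hr : IntRankLE p k G) : IntRankLE p k G' := by
  intro H N hNH hnorm hpow hcomm
  have h1 := hr (H.map f) (N.map f) (Subgroup.map_mono hNH) ?_ ?_ ?_
  · rw [Subgroup.relIndex_map_map_of_injective _ _ hf] at h1
    exact h1
  · rintro _ ⟨h, hh, rfl⟩ _ ⟨n, hn, rfl⟩
    exact ⟨h * n * h⁻¹, hnorm h hh n hn, by simp⟩
  · rintro _ ⟨a, ha, rfl⟩
    exact ⟨a ^ p, hpow a ha, by simp⟩
  · rintro _ ⟨a, ha, rfl⟩ _ ⟨b, hb, rfl⟩
    exact ⟨a * b * a⁻¹ * b⁻¹, hcomm a ha b hb, by simp⟩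

theorem sectional_of_injective {p k : ℕ} {G G' : Type*} [Group G] [Group G'] (f : G' →* G)
    (hf : Function.Injective f) (hr : Cfsg.SectionalPRankLE p k G) :
    Cfsg.SectionalPRankLE p k G' :=
  sectional_of_intRankLE ((intRankLE_of_sectional hr).of_injective f hf)

theorem sectional_subgroup {p k : ℕ} {G : Type*} [Group G] (hr : Cfsg.SectionalPRankLE p k G)
    (P : Subgroup G) : Cfsg.SectionalPRankLE p k ↥P :=
  sectional_of_injective P.subtype P.subtype_injective hr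

/-- If `G × G` has internal rank at most `2 k` then `G` has internal rank at most `k`. -/
theorem IntRankLE.of_prod_self {p k : ℕ} {G : Type*} [Group G] [Finite G]
    (hr : IntRankLE p (2 * k) (G × G)) : IntRankLE p k G := by
  intro H N hNH hnorm hpow hcomm
  have h1 := hr (H.prod H) (N.prod N) (Subgroup.prod_mono hNH hNH) ?_ ?_ ?_
  · have hc : ∀ X : Subgroup G, Nat.card (X.prod X) = Nat.card X * Nat.card X := by
      intro X
      rw [Nat.card_congr (Subgroup.prodEquiv X X).toEquiv, Nat.card_prod]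
    have hrel : ∀ {Γ : Type _} [Group Γ] [Finite Γ] (X Y : Subgroup Γ), X ≤ Y →
        X.relIndex Y * Nat.card X = Nat.card Y := by
      intro Γ _ _ X Y hXY
      have := Subgroup.card_mul_index (X.subgroupOf Y)
      rw [Nat.card_congr (Subgroup.subgroupOfEquivOfLe hXY).toEquiv, mul_comm] at this
      exact this
    have e1 := hrel N H hNH
    have e2 := hrel (N.prod N) (H.prod H) (Subgroup.prod_mono hNH hNH)
    rw [hc, hc, ← e1] at e2
    have hN0 : 0 < Nat.card N := Nat.card_pos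
    have e3 : (N.prod N).relIndex (H.prod H) = N.relIndex H * N.relIndex H := by
      have : (N.prod N).relIndex (H.prod H) * (Nat.card N * Nat.card N) =
          (N.relIndex H * N.relIndex H) * (Nat.card N * Nat.card N) := by
        rw [e2]; ring
      exact Nat.eq_of_mul_eq_mul_right (Nat.mul_pos hN0 hN0) this
    have e4 : p ^ (2 * k) = p ^ k * p ^ k := by rw [two_mul, pow_add]
    rw [e3, e4] at h1
    by_contra hlt
    push Not at hlt
    have := Nat.mul_lt_mul'' hlt hlt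
    omega
  · rintro ⟨h1, h2⟩ hh ⟨n1, n2⟩ hn
    rw [Subgroup.mem_prod] at hh hn ⊢
    exact ⟨hnorm h1 hh.1 n1 hn.1, hnorm h2 hh.2 n2 hn.2⟩
  · rintro ⟨a1, a2⟩ ha
    rw [Subgroup.mem_prod] at ha ⊢
    exact ⟨hpow a1 ha.1, hpow a2 ha.2⟩
  · rintro ⟨a1, a2⟩ ha ⟨b1, b2⟩ hb
    rw [Subgroup.mem_prod] at ha hb ⊢
    exact ⟨hcomm a1 ha.1 b1 hb.1, hcomm a2 ha.2 b2 hb.2⟩

end Cfsg.Agent.Lib.Helper73
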