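import Mathlib
import Cfsg.Prelude.Def_OddOrderLocal
import Cfsg.Agent.Lib.Helper2.PGroup
import Cfsg.Agent.Lib.Helper32.PGroupCenter
import Cfsg.Agent.Lib.Helper73.CyclicMax
import Cfsg.Agent.Lib.Helper73.MaxClass
import Cfsg.Agent.Lib.Helper73.SectionalRank
import Cfsg.Agent.S4387
import Cfsg.Agent.S4400

set_option autoImplicit false

universe u

namespace Cfsg.Agent.Lib.Helper73

open scoped commutatorElement

section basics

theorem IntRankLE.quotient {p k : ℕ} {G : Type*} [Group G] (N : Subgroup G) [N.Normal]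
    (hr : IntRankLE p k G) : IntRankLE p k (G ⧸ N) := by
  intro H K hKH hnorm hpow hcomm
  have h1 := hr (H.comap (QuotientGroup.mk' N)) (K.comap (QuotientGroup.mk' N))
    (Subgroup.comap_mono hKH) ?_ ?_ ?_
  · rw [Subgroup.relIndex_comap,
      Subgroup.map_comap_eq_self_of_surjective (QuotientGroup.mk'_surjective N)] at h1
    exact h1
  · intro h hh n hn
    rw [Subgroup.mem_comap] at hh hn ⊢
    rw [map_mul, map_mul, map_inv]
    exact hnorm _ hh _ hn
  · intro a ha
    rw [Subgroup.mem_comap] at ha ⊢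
    rw [map_pow]
    exact hpow _ ha
  · intro a ha b hb
    rw [Subgroup.mem_comap] at ha hb ⊢
    rw [map_mul, map_mul, map_mul, map_inv, map_inv]
    exact hcomm _ ha _ hb

theorem isMetacyclic_of_isCyclic {G : Type u} [Group G] (h : IsCyclic G) : Cfsg.IsMetacyclic G :=
  ⟨⊥, inferInstance, isCyclic_of_subsingleton,
    isCyclic_of_surjective (QuotientGroup.mk' (⊥ : Subgroup G)) (QuotientGroup.mk'_surjective _)⟩

/-- third isomorphism theorem, for cyclicity only -/
theorem isCyclic_quotient_comap {G : Type*} [Group G] (N : Subgroup G) [N.Normal]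
    (A : Subgroup (G ⧸ N)) [A.Normal] [hAn : (A.comap (QuotientGroup.mk' N)).Normal]
    (h : IsCyclic ((G ⧸ N) ⧸ A)) : IsCyclic (G ⧸ A.comap (QuotientGroup.mk' N)) := by
  obtain ⟨γ, hγ⟩ := h.exists_generator
  obtain ⟨γ', rfl⟩ := QuotientGroup.mk'_surjective A γ
  obtain ⟨g₀, rfl⟩ := QuotientGroup.mk'_surjective N γ'
  refine ⟨⟨QuotientGroup.mk' _ g₀, fun y => ?_⟩⟩
  obtain ⟨x, rfl⟩ := QuotientGroup.mk'_surjective _ y
  obtain ⟨k, hk⟩ := Subgroup.mem_zpowers_iff.1
    (hγ (QuotientGroup.mk' A (QuotientGroup.mk' N x)))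
  refine ⟨k, ?_⟩
  rw [← map_zpow, ← map_zpow] at hk
  have h1 := (QuotientGroup.eq).1 hk
  show (QuotientGroup.mk' _ g₀) ^ k = _
  rw [← map_zpow]
  apply (QuotientGroup.eq).2
  rw [Subgroup.mem_comap, map_mul, map_inv]
  exact h1

/-- A `2`-group all of whose elementary abelian quotients have order at most two is cyclic. -/
theorem isCyclic_of_index_le_two {G : Type*} [Group G] [Finite G] (hG : IsPGroup 2 G)
    (h : ∀ N : Subgroup G, N.Normal → (∀ g : G, g ^ 2 ∈ N) → N.index ≤ 2) : IsCyclic G := by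
  have : Fact (Nat.Prime 2) := ⟨Nat.prime_two⟩
  by_cases hnt : Nontrivial G
  · have hΦ : (frattini G).index ≤ 2 :=
      h _ inferInstance (fun g => Cfsg.Agent.Lib.Helper2.pow_mem_frattini hG g)
    have key : ∀ M : Subgroup G, IsCoatom M → M = frattini G := by
      intro M hM
      have hle : frattini G ≤ M := frattini_le_coatom hM
      have h1 := Subgroup.relIndex_mul_index hle
      have hMi : M.index ≠ 1 := fun h => hM.1 (Subgroup.index_eq_one.1 h)
      have hMi0 : M.index ≠ 0 := Subgroup.index_ne_zero_of_finite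
      have hΦ0 : (frattini G).index ≠ 0 := Subgroup.index_ne_zero_of_finite
      have hr1 : (frattini G).relIndex M = 1 := by
        by_contra hne
        have hr0 : (frattini G).relIndex M ≠ 0 := by
          intro h0; rw [h0, zero_mul] at h1; exact hΦ0 h1.symm
        have h2 : 2 ≤ (frattini G).relIndex M := by omega
        have h3 : 2 ≤ M.index := by omega
        nlinarith
      exact le_antisymm (Subgroup.relIndex_eq_one.1 hr1) hle
    refine (Cfsg.Agent.S4387.result ?_).1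
    intro M N hM hN
    refine ⟨1, ?_⟩
    rw [map_one, one_smul, key M hM, key N hN]
  · rw [not_nontrivial_iff_subsingleton] at hnt
    exact isCyclic_of_subsingleton

/-- In a commutative `2`-group of rank at most two, the quotient by the cyclic subgroup generated
by an element of maximal order is cyclic. -/
theorem isCyclic_quotient_zpowers {A : Type*} [Group A] [Finite A] (hA : IsPGroup 2 A)
    (hcomm : ∀ a b : A, a * b = b * a) (hr : IntRankLE 2 2 A) (g : A)
    (hg : ∀ x : A, orderOf x ≤ orderOf g) [hn : (Subgroup.zpowers g).Normal] :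
    IsCyclic (A ⧸ Subgroup.zpowers g) := by
  have : Fact (Nat.Prime 2) := ⟨Nat.prime_two⟩
  apply isCyclic_of_index_le_two (hA.to_quotient _)
  intro Nb hNb hsq
  obtain ⟨N, hN⟩ : ∃ N, N = Nb.comap (QuotientGroup.mk' (Subgroup.zpowers g)) := ⟨_, rfl⟩
  have hgN : g ∈ N := by
    rw [hN, Subgroup.mem_comap]
    have : QuotientGroup.mk' (Subgroup.zpowers g) g = 1 :=
      (QuotientGroup.eq_one_iff g).2 (Subgroup.mem_zpowers g)
    rw [this]; exact Nb.one_mem
  have hsqN : ∀ x : A, x ^ 2 ∈ N := by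
    intro x
    rw [hN, Subgroup.mem_comap, map_pow]
    exact hsq _
  have hidx : N.index = Nb.index := by
    rw [hN]; exact Subgroup.index_comap_of_surjective _ (QuotientGroup.mk'_surjective _)
  rw [← hidx]
  obtain ⟨sq, hsqdef⟩ : ∃ sq : A →* A, ∀ x, sq x = x ^ 2 :=
    ⟨⟨⟨fun x => x ^ 2, one_pow 2⟩, fun a b => (show Commute a b from hcomm a b).mul_pow 2⟩,
      fun x => rfl⟩
  have hsqle : sq.range ≤ N := by
    rintro _ ⟨x, rfl⟩; rw [hsqdef]; exact hsqN x
  have h4 : sq.range.index ≤ 4 := by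
    have := hr ⊤ sq.range le_top (fun h _ n hn => ?_) (fun a _ => ⟨a, hsqdef a⟩)
      (fun a _ b _ => ?_)
    · rw [Subgroup.relIndex_top_right] at this; exact this
    · have e : h * n * h⁻¹ = n := by rw [hcomm h n, mul_inv_cancel_right]
      rw [e]; exact hn
    · have e : a * b * a⁻¹ * b⁻¹ = 1 := by rw [hcomm a b]; group
      rw [e]; exact Subgroup.one_mem _
  by_contra hgt
  push Not at hgt
  have hdvd : N.index ∣ sq.range.index := Subgroup.index_dvd_of_le hsqle
  have hpos : sq.range.index ≠ 0 := Subgroup.index_ne_zero_of_finite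
  have hle : N.index ≤ sq.range.index := Nat.le_of_dvd (Nat.pos_of_ne_zero hpos) hdvd
  have hNeq : N = sq.range := by
    symm
    apply Subgroup.eq_of_le_of_card_ge hsqle
    have e1 := Subgroup.card_mul_index N
    have e2 := Subgroup.card_mul_index sq.range
    obtain ⟨j, hj⟩ : ∃ j, N.index = 2 ^ j := by
      obtain ⟨n, hn⟩ := (IsPGroup.iff_card).1 hA
      have hd : N.index ∣ 2 ^ n := hn ▸ Subgroup.index_dvd_card _
      obtain ⟨j, -, hj⟩ := (Nat.dvd_prime_pow Nat.prime_two).1 hd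
      exact ⟨j, hj⟩
    have hj2 : 2 ≤ j := by
      by_contra hlt
      push Not at hlt
      interval_cases j <;> omega
    have h4' : 4 ≤ N.index := by
      rw [hj]
      calc 4 = 2 ^ 2 := by norm_num
        _ ≤ 2 ^ j := Nat.pow_le_pow_right (by norm_num) hj2
    have hidxeq : N.index = sq.range.index := by omega
    rw [hidxeq] at e1
    have hpos' : 0 < sq.range.index := Nat.pos_of_ne_zero hpos
    have : Nat.card N * sq.range.index = Nat.card sq.range * sq.range.index := by rw [e1, e2]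
    exact (Nat.eq_of_mul_eq_mul_right hpos' this).le
  rw [hNeq] at hgN
  obtain ⟨x, hx⟩ := hgN
  rw [hsqdef] at hx
  by_cases hg1 : g = 1
  · -- everything trivial
    have hall : ∀ y : A, y = 1 := by
      intro y
      have := hg y
      rw [hg1, orderOf_one] at this
      have h0 : 0 < orderOf y := orderOf_pos y
      exact orderOf_eq_one_iff.1 (by omega)
    have hNtop : N = ⊤ := by
      rw [eq_top_iff]; intro y _; rw [hall y]; exact N.one_mem
    rw [hNtop, Subgroup.index_top] at hgt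
    omega
  · have hx1 : x ≠ 1 := by
      rintro rfl
      rw [one_pow] at hx
      exact hg1 hx.symm
    obtain ⟨k, hk⟩ := (IsPGroup.iff_orderOf.1 hA) x
    have hk0 : k ≠ 0 := by
      rintro rfl
      rw [pow_zero, orderOf_eq_one_iff] at hk
      exact hx1 hk
    have h2dvd : 2 ∣ orderOf x := by
      rw [hk]; exact dvd_pow_self 2 hk0
    have ho : orderOf g = orderOf x / 2 := by
      rw [← hx, orderOf_pow' x (by norm_num : (2 : ℕ) ≠ 0), Nat.gcd_eq_right h2dvd]
    have hox : 0 < orderOf x := orderOf_pos x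
    have := hg x
    obtain ⟨m, hm⟩ := h2dvd
    rw [ho, hm] at this
    omega

end basics

section tau'

variable {G : Type*} [Group G]

/-- If `G` is generated by the abelian normal subgroup `A` and `b`, then `G' ≤ range τ_b`. -/
theorem commutator_le_range_tauHom' (A : Subgroup G) [hAn : A.Normal]
    (hA : ∀ x ∈ A, ∀ y ∈ A, x * y = y * x) (b : G)
    (hgen : Subgroup.closure ((A : Set G) ∪ {b}) = ⊤) :
    commutator G ≤ (tauHom A hA b).range := by
  have hτA : ∀ x : ↥A, tauHom A hA b x ∈ A := tauHom_mem A hA b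
  have hRA : (tauHom A hA b).range ≤ A := by
    rintro _ ⟨x, rfl⟩; exact hτA x
  have hconjb : ∀ r ∈ (tauHom A hA b).range, b * r * b⁻¹ ∈ (tauHom A hA b).range := by
    rintro _ ⟨x, rfl⟩
    refine ⟨⟨b * (x : G) * b⁻¹, hAn.conj_mem _ x.2 b⟩, ?_⟩
    simp only [tauHom_apply]
    group
  have hconjb' : ∀ r ∈ (tauHom A hA b).range, b⁻¹ * r * b ∈ (tauHom A hA b).range := by
    rintro _ ⟨x, rfl⟩
    refine ⟨⟨b⁻¹ * (x : G) * b, by simpa using hAn.conj_mem _ x.2 b⁻¹⟩, ?_⟩
    simp only [tauHom_apply]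
    group
  have hconjA : ∀ m ∈ A, ∀ r ∈ (tauHom A hA b).range, m * r * m⁻¹ = r := by
    intro m hm r hr
    rw [hA m hm r (hRA hr), mul_inv_cancel_right]
  have hnorm : Subgroup.normalizer ((tauHom A hA b).range : Set G) = ⊤ := by
    rw [eq_top_iff, ← hgen, Subgroup.closure_le]
    rintro g (hg | hg)
    · rw [SetLike.mem_coe, Subgroup.mem_normalizer_iff]
      intro r
      constructor
      · intro hr; rw [hconjA g hg r hr]; exact hr
      · intro hr
        have := hconjA g⁻¹ (A.inv_mem hg) _ hr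
        have e : g⁻¹ * (g * r * g⁻¹) * g⁻¹⁻¹ = r := by group
        rw [e] at this; rw [this]; exact hr
    · rw [Set.mem_singleton_iff] at hg; subst hg
      rw [SetLike.mem_coe, Subgroup.mem_normalizer_iff]
      intro r
      constructor
      · exact hconjb r
      · intro hr
        have := hconjb' _ hr
        have e : g⁻¹ * (g * r * g⁻¹) * g = r := by group
        rwa [e] at this
  have hnormal : (tauHom A hA b).range.Normal := Subgroup.normalizer_eq_top_iff.1 hnorm
  rw [← Subgroup.Normal.quotient_commutative_iff_commutator_le]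
  have hgen' : Subgroup.closure ((QuotientGroup.mk' (tauHom A hA b).range) '' ((A : Set G) ∪ {b}))
      = ⊤ := by
    rw [← MonoidHom.map_closure, hgen, ← MonoidHom.range_eq_map,
      MonoidHom.range_eq_top.2 (QuotientGroup.mk'_surjective _)]
  have hmb : ∀ m ∈ A, (QuotientGroup.mk' (tauHom A hA b).range m) *
      (QuotientGroup.mk' (tauHom A hA b).range b) =
      (QuotientGroup.mk' (tauHom A hA b).range b) * (QuotientGroup.mk' (tauHom A hA b).range m) := by
    intro m hm
    rw [← map_mul, ← map_mul]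
    apply (QuotientGroup.eq).2
    have e : (m * b)⁻¹ * (b * m) = b⁻¹ * (m⁻¹ * b * (m⁻¹)⁻¹ * b⁻¹) * b := by group
    rw [e]
    exact hconjb' _ ⟨⟨m⁻¹, A.inv_mem hm⟩, rfl⟩
  have hcomm : ∀ x ∈ ((QuotientGroup.mk' (tauHom A hA b).range) '' ((A : Set G) ∪ {b})),
      ∀ y ∈ ((QuotientGroup.mk' (tauHom A hA b).range) '' ((A : Set G) ∪ {b})), x * y = y * x := by
    rintro _ ⟨g, hg, rfl⟩ _ ⟨h, hh, rfl⟩
    rcases hg with hg | hg <;> rcases hh with hh | hh
    · rw [← map_mul, ← map_mul, hA g hg h hh]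
    · rw [Set.mem_singleton_iff] at hh; subst hh
      exact hmb g hg
    · rw [Set.mem_singleton_iff] at hg; subst hg
      exact (hmb h hh).symm
    · rw [Set.mem_singleton_iff] at hg hh; subst hg; subst hh; rfl
  have hc := Subgroup.isMulCommutative_closure hcomm
  rw [hgen'] at hc
  refine ⟨⟨fun x y => ?_⟩⟩
  have := (isMulCommutative_iff.1 hc) ⟨x, Subgroup.mem_top x⟩ ⟨y, Subgroup.mem_top y⟩
  exact congrArg Subtype.val this

theorem eq_one_or_eq_of_card_two' (N : Subgroup G) (hN : Nat.card N = 2)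
    (x : G) (hx : x ∈ N) (hx1 : x ≠ 1) (n : G) (hn : n ∈ N) : n = 1 ∨ n = x := by
  rw [Nat.card_eq_two_iff' (1 : N)] at hN
  obtain ⟨y, hy, hyu⟩ := hN
  by_cases h : n = 1
  · exact Or.inl h
  · right
    have h1 : (⟨n, hn⟩ : N) = y := hyu _ (fun h' => h (congrArg Subtype.val h'))
    have h2 : (⟨x, hx⟩ : N) = y := hyu _ (fun h' => hx1 (congrArg Subtype.val h'))
    exact congrArg Subtype.val (h1.trans h2.symm)

theorem exists_mul_of_mem_sup' {A B : Subgroup G} (hcomm : ∀ a ∈ A, ∀ b ∈ B, a * b = b * a)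
    {g : G} (hg : g ∈ A ⊔ B) : ∃ a ∈ A, ∃ b ∈ B, g = a * b := by
  rw [Subgroup.sup_eq_closure] at hg
  induction hg using Subgroup.closure_induction with
  | mem x hx =>
    rcases hx with hx | hx
    · exact ⟨x, hx, 1, Subgroup.one_mem _, (mul_one x).symm⟩
    · exact ⟨1, Subgroup.one_mem _, x, hx, (one_mul x).symm⟩
  | one => exact ⟨1, Subgroup.one_mem _, 1, Subgroup.one_mem _, (mul_one 1).symm⟩
  | mul x y _ _ ihx ihy =>
    obtain ⟨a₁, ha₁, b₁, hb₁, rfl⟩ := ihx
    obtain ⟨a₂, ha₂, b₂, hb₂, rfl⟩ := ihy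
    refine ⟨a₁ * a₂, Subgroup.mul_mem _ ha₁ ha₂, b₁ * b₂, Subgroup.mul_mem _ hb₁ hb₂, ?_⟩
    have := hcomm a₂ ha₂ b₁ hb₁
    calc a₁ * b₁ * (a₂ * b₂) = a₁ * (b₁ * a₂) * b₂ := by group
      _ = a₁ * (a₂ * b₁) * b₂ := by rw [this]
      _ = a₁ * a₂ * (b₁ * b₂) := by group
  | inv x _ ihx =>
    obtain ⟨a₁, ha₁, b₁, hb₁, rfl⟩ := ihx
    refine ⟨a₁⁻¹, Subgroup.inv_mem _ ha₁, b₁⁻¹, Subgroup.inv_mem _ hb₁, ?_⟩
    have := hcomm a₁⁻¹ (Subgroup.inv_mem _ ha₁) b₁⁻¹ (Subgroup.inv_mem _ hb₁)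
    rw [mul_inv_rev, this]

end tau'

section criterion

/-- The subgroup `Φ(G') G₃`, as a normal closure. -/
def KSub (G : Type*) [Group G] : Subgroup G :=
  Subgroup.normalClosure ({x | ∃ g h k : G, x = ⁅⁅g, h⁆, k⁆} ∪ {x | ∃ g h : G, x = ⁅g, h⁆ ^ 2})

instance KSub_normal (G : Type*) [Group G] : (KSub G).Normal := Subgroup.normalClosure_normal

/-- Blackburn's criterion (one step): if `N ≤ Φ(G')G₃` is normal of order two and `G/N` is
metacyclic, then `G` is metacyclic. -/
theorem metacyclic_of_quotient {G : Type u} [Group G] [Finite G] (hG : IsPGroup 2 G)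
    (N : Subgroup G) [hNn : N.Normal] (hN : Nat.card N = 2) (hNK : N ≤ KSub G)
    (hQ : Cfsg.IsMetacyclic (G ⧸ N)) : Cfsg.IsMetacyclic G := by
  have : Fact (Nat.Prime 2) := ⟨Nat.prime_two⟩
  obtain ⟨Ab, hAbn, hAbc, hQc⟩ := hQ
  obtain ⟨A, hAdef⟩ : ∃ A, A = Ab.comap (QuotientGroup.mk' N) := ⟨_, rfl⟩
  have hAn : A.Normal := hAdef ▸ hAbn.comap _
  have hGA : IsCyclic (G ⧸ A) := by
    subst hAdef
    exact isCyclic_quotient_comap N Ab hQc
  by_cases hAc : IsCyclic A
  · exact ⟨A, hAn, hAc, hGA⟩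
  exfalso
  obtain ⟨⟨ab, hab⟩, habgen⟩ := hAbc.exists_generator
  obtain ⟨a, rfl⟩ := QuotientGroup.mk'_surjective N ab
  have haA : a ∈ A := by rw [hAdef]; exact hab
  have hNA : N ≤ A := by
    rw [hAdef]
    intro n hn
    rw [Subgroup.mem_comap]
    have : QuotientGroup.mk' N n = 1 := (QuotientGroup.eq_one_iff n).2 hn
    rw [this]; exact Ab.one_mem
  have hAform : ∀ x ∈ A, ∃ k : ℤ, ∃ n ∈ N, x = a ^ k * n := by
    intro x hx
    have hx' : QuotientGroup.mk' N x ∈ Ab := by rw [hAdef] at hx; exact hx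
    obtain ⟨k, hk⟩ := Subgroup.mem_zpowers_iff.1 (habgen ⟨_, hx'⟩)
    have hk' : (QuotientGroup.mk' N a) ^ k = QuotientGroup.mk' N x := by
      have := congrArg Subtype.val hk
      simpa using this
    rw [← map_zpow] at hk'
    have h1 := (QuotientGroup.eq).1 hk'
    exact ⟨k, _, h1, by group⟩
  have hNc : N ≤ Subgroup.center G := le_center_of_normal_card_two N hN
  have hNcomm : ∀ n ∈ N, ∀ g : G, g * n = n * g := fun n hn g =>
    Subgroup.mem_center_iff.1 (hNc hn) g
  have hNsq : ∀ n ∈ N, n * n = 1 := by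
    intro n hn
    have h5 : (⟨n, hn⟩ : N) ^ Nat.card N = 1 := pow_card_eq_one'
    rw [hN] at h5
    have h6 := congrArg Subtype.val h5
    simpa [pow_two] using h6
  have hAab : ∀ x ∈ A, ∀ y ∈ A, x * y = y * x := by
    intro x hx y hy
    obtain ⟨k, n, hn, rfl⟩ := hAform x hx
    obtain ⟨l, m, hm, rfl⟩ := hAform y hy
    have c1 : Commute (a ^ k) (a ^ l) := (Commute.refl a).zpow_zpow k l
    have cn : ∀ g : G, Commute n g := fun g => (hNcomm n hn g).symm
    have cm : ∀ g : G, Commute m g := fun g => (hNcomm m hm g).symm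
    exact ((c1.mul_right (cm _).symm).mul_left ((cn _).mul_right (cn _))).eq
  have hNa : ∀ n ∈ N, n ∈ Subgroup.zpowers a → n = 1 := by
    intro n hn hna
    by_contra hn1
    apply hAc
    have hNle : N ≤ Subgroup.zpowers a := by
      intro m hm
      rcases eq_one_or_eq_of_card_two' N hN n hn hn1 m hm with rfl | rfl
      · exact Subgroup.one_mem _
      · exact hna
    have hAeq : A = Subgroup.zpowers a := by
      apply le_antisymm
      · intro x hx
        obtain ⟨k, m, hm, rfl⟩ := hAform x hx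
        exact Subgroup.mul_mem _ (Subgroup.zpow_mem _ (Subgroup.mem_zpowers a) k) (hNle hm)
      · rw [Subgroup.zpowers_le]; exact haA
    rw [hAeq]; exact Subgroup.isCyclic_zpowers a
  obtain ⟨B, hB⟩ : ∃ B, B = Subgroup.zpowers (a ^ 2) := ⟨_, rfl⟩
  have hBA : B ≤ A := by
    rw [hB, Subgroup.zpowers_le]; exact Subgroup.pow_mem _ haA 2
  have hBa : B ≤ Subgroup.zpowers a := by
    rw [hB, Subgroup.zpowers_le]; exact Subgroup.pow_mem _ (Subgroup.mem_zpowers a) 2
  have hkey : ∀ x ∈ A, x ^ 2 ∈ B := by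
    intro x hx
    obtain ⟨k, n, hn, rfl⟩ := hAform x hx
    have e : (a ^ k * n) ^ 2 = (a ^ 2) ^ k := by
      rw [pow_two]
      calc a ^ k * n * (a ^ k * n) = a ^ k * (n * a ^ k) * n := by group
        _ = a ^ k * (a ^ k * n) * n := by rw [← hNcomm n hn (a ^ k)]
        _ = a ^ k * a ^ k * (n * n) := by group
        _ = (a ^ 2) ^ k := by
          rw [hNsq n hn, mul_one, pow_two, (Commute.refl a).mul_zpow]
    rw [e, hB]
    exact Subgroup.zpow_mem _ (Subgroup.mem_zpowers _) k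
  have hBn : B.Normal := by
    refine ⟨fun x hx g => ?_⟩
    rw [hB] at hx
    obtain ⟨j, rfl⟩ := Subgroup.mem_zpowers_iff.1 hx
    have h1 : g * a * g⁻¹ ∈ A := hAn.conj_mem a haA g
    have h2 := hkey _ h1
    have e : g * (a ^ 2) ^ j * g⁻¹ = ((g * a * g⁻¹) ^ 2) ^ j := by
      rw [conj_pow, conj_zpow]
    rw [e]
    exact Subgroup.zpow_mem _ h2 j
  -- generator `b` of `G/A`
  obtain ⟨bb, hbb⟩ := hGA.exists_generator
  obtain ⟨b, rfl⟩ := QuotientGroup.mk'_surjective A bb
  have hgen : Subgroup.closure ((A : Set G) ∪ {b}) = ⊤ := by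
    rw [eq_top_iff]
    intro g _
    obtain ⟨k, hk⟩ := Subgroup.mem_zpowers_iff.1 (hbb (QuotientGroup.mk' A g))
    rw [← map_zpow] at hk
    have h1 := (QuotientGroup.eq).1 hk
    have e : g = b ^ k * ((b ^ k)⁻¹ * g) := by group
    rw [e]
    have hbmem : b ∈ Subgroup.closure ((A : Set G) ∪ {b}) :=
      Subgroup.subset_closure (Set.mem_union_right _ rfl)
    have hAmem : (b ^ k)⁻¹ * g ∈ Subgroup.closure ((A : Set G) ∪ {b}) :=
      Subgroup.subset_closure (Set.mem_union_left _ h1)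
    exact Subgroup.mul_mem _ (Subgroup.zpow_mem _ hbmem k) hAmem
  have hcomle := commutator_le_range_tauHom' A hAab b hgen
  -- the subgroup Φ' = B ⊔ N
  have hΦn : (B ⊔ N).Normal := inferInstance
  have hΦA : B ⊔ N ≤ A := sup_le hBA hNA
  have hBNcomm : ∀ y ∈ B, ∀ n ∈ N, y * n = n * y := fun y _ n hn => hNcomm n hn y
  have hα : ∀ x ∈ A, x ∈ B ⊔ N ∨ x * a⁻¹ ∈ B ⊔ N := by
    intro x hx
    obtain ⟨k, n, hn, rfl⟩ := hAform x hx
    rcases Int.even_or_odd k with ⟨j, hj⟩ | ⟨j, hj⟩
    · left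
      refine Subgroup.mul_mem _ (Subgroup.mem_sup_left ?_) (Subgroup.mem_sup_right hn)
      rw [hB, hj, zpow_add, ← (Commute.refl a).mul_zpow, ← pow_two]
      exact Subgroup.zpow_mem _ (Subgroup.mem_zpowers _) j
    · right
      have e : a ^ k * n * a⁻¹ = (a ^ 2) ^ j * n := by
        rw [hj, pow_two, (Commute.refl a).mul_zpow]
        calc a ^ (2 * j + 1) * n * a⁻¹ = a ^ (2 * j + 1) * (n * a⁻¹) := by group
          _ = a ^ (2 * j + 1) * (a⁻¹ * n) := by rw [← hNcomm n hn a⁻¹]
          _ = a ^ j * a ^ j * n := by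
            rw [← mul_assoc, zpow_add, zpow_one, mul_assoc (a ^ (2 * j)), mul_inv_cancel, mul_one,
              two_mul, zpow_add]
      rw [e]
      refine Subgroup.mul_mem _ (Subgroup.mem_sup_left ?_) (Subgroup.mem_sup_right hn)
      rw [hB]
      exact Subgroup.zpow_mem _ (Subgroup.mem_zpowers _) j
  have hτa : tauHom A hAab b ⟨a, haA⟩ ∈ B ⊔ N := by
    rw [tauHom_apply]
    show a * b * a⁻¹ * b⁻¹ ∈ B ⊔ N
    by_cases haΦ : a ∈ B ⊔ N
    · have h1 : b * a⁻¹ * b⁻¹ ∈ B ⊔ N := hΦn.conj_mem _ (Subgroup.inv_mem _ haΦ) b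
      have e : a * b * a⁻¹ * b⁻¹ = a * (b * a⁻¹ * b⁻¹) := by group
      rw [e]; exact Subgroup.mul_mem _ haΦ h1
    · have h1 : b * a * b⁻¹ ∉ B ⊔ N := by
        intro h
        apply haΦ
        have := hΦn.conj_mem _ h b⁻¹
        have e : b⁻¹ * (b * a * b⁻¹) * b⁻¹⁻¹ = a := by group
        rwa [e] at this
      rcases hα _ (hAn.conj_mem a haA b) with h | h
      · exact absurd h h1
      · have e : a * b * a⁻¹ * b⁻¹ = (b * a * b⁻¹ * a⁻¹)⁻¹ := by group
        rw [e]; exact Subgroup.inv_mem _ h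
  have hτN : ∀ n (hn : n ∈ N), tauHom A hAab b ⟨n, hNA hn⟩ = 1 := by
    intro n hn
    rw [tauHom_apply]
    show n * b * n⁻¹ * b⁻¹ = 1
    rw [← hNcomm n hn b]; group
  have hε : ∀ y : ↥A, tauHom A hAab b y ∈ B ⊔ N := by
    intro y
    obtain ⟨k, n, hn, hy⟩ := hAform y y.2
    have e : y = (⟨a, haA⟩ : ↥A) ^ k * ⟨n, hNA hn⟩ := by
      apply Subtype.ext
      rw [hy]; simp
    rw [e, map_mul, map_zpow, hτN n hn, mul_one]
    exact Subgroup.zpow_mem _ hτa k
  have hζ : ∀ x : ↥A, (x : G) ∈ B ⊔ N → tauHom A hAab b x ∈ B := by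
    intro x hx
    obtain ⟨y, hy, n, hn, hxy⟩ := exists_mul_of_mem_sup' hBNcomm hx
    rw [hB] at hy
    obtain ⟨j, rfl⟩ := Subgroup.mem_zpowers_iff.1 hy
    have e : x = ((⟨a, haA⟩ : ↥A) ^ 2) ^ j * ⟨n, hNA hn⟩ := by
      apply Subtype.ext
      rw [hxy]; simp
    rw [e, map_mul, map_zpow, map_pow, hτN n hn, mul_one]
    exact Subgroup.zpow_mem _ (hkey _ (tauHom_mem A hAab b _)) j
  -- commutators with elements of G' land in B
  have hη : ∀ x ∈ commutator G, ∀ k : G, ⁅x, k⁆ ∈ B := by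
    intro x hx k
    obtain ⟨y, rfl⟩ := hcomle hx
    have hxA : tauHom A hAab b y ∈ A := tauHom_mem A hAab b y
    have hk : k ∈ Subgroup.closure ((A : Set G) ∪ {b}) := by rw [hgen]; trivial
    induction hk using Subgroup.closure_induction with
    | mem g hg =>
      rcases hg with hg | hg
      · have : ⁅tauHom A hAab b y, g⁆ = 1 := by
          rw [commutatorElement_eq_one_iff_commute]
          exact hAab _ hxA _ hg
        rw [this]; exact Subgroup.one_mem _
      · rw [Set.mem_singleton_iff] at hg; rw [hg]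
        have h1 := hζ ⟨tauHom A hAab b y, hxA⟩ (hε y)
        rw [tauHom_apply] at h1
        rw [commutatorElement_def]
        exact h1
    | one => rw [commutatorElement_one_right]; exact Subgroup.one_mem _
    | mul k₁ k₂ _ _ ih₁ ih₂ =>
      have e : ⁅tauHom A hAab b y, k₁ * k₂⁆ =
          ⁅tauHom A hAab b y, k₁⁆ * (k₁ * ⁅tauHom A hAab b y, k₂⁆ * k₁⁻¹) := by
        simp only [commutatorElement_def]; group
      rw [e]
      exact Subgroup.mul_mem _ ih₁ (hBn.conj_mem _ ih₂ k₁)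
    | inv k₁ _ ih₁ =>
      have e : ⁅tauHom A hAab b y, k₁⁻¹⁆ = k₁⁻¹ * (⁅tauHom A hAab b y, k₁⁆)⁻¹ * k₁⁻¹⁻¹ := by
        simp only [commutatorElement_def]; group
      rw [e]
      exact hBn.conj_mem _ (Subgroup.inv_mem _ ih₁) k₁⁻¹
  have hKB : KSub G ≤ B := by
    apply Subgroup.normalClosure_le_normal
    rintro x (⟨g, h, k, rfl⟩ | ⟨g, h, rfl⟩)
    · exact hη _ (Subgroup.commutator_mem_commutator (Subgroup.mem_top g) (Subgroup.mem_top h)) k
    · have h1 : ⁅g, h⁆ ∈ commutator G :=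
        Subgroup.commutator_mem_commutator (Subgroup.mem_top g) (Subgroup.mem_top h)
      obtain ⟨y, hy⟩ := hcomle h1
      have h2 : ⁅g, h⁆ ∈ A := hy ▸ tauHom_mem A hAab b y
      exact hkey _ h2
  have hNbot : ∀ n ∈ N, n = 1 := fun n hn => hNa n hn (hBa (hKB (hNK hn)))
  have hNeq : N = ⊥ := by
    rw [eq_bot_iff]; intro n hn; rw [Subgroup.mem_bot]; exact hNbot n hn
  rw [hNeq, Subgroup.card_bot] at hN
  omega

end criterion

section classTwo

variable {S : Type u} [Group S]

theorem two_mul_card_le_of_lt [Finite S] {K H : Subgroup S} (h : K < H) :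
    2 * Nat.card K ≤ Nat.card H := by
  obtain ⟨m, hm⟩ := Subgroup.card_dvd_of_le h.le
  have hK : 0 < Nat.card K := Nat.card_pos
  have hH : 0 < Nat.card H := Nat.card_pos
  have hm1 : m ≠ 1 := by
    rintro rfl
    rw [mul_one] at hm
    exact h.ne (Subgroup.eq_of_le_of_card_ge h.le hm.le)
  have hm0 : m ≠ 0 := by
    rintro rfl
    rw [mul_zero] at hm
    omega
  have : 2 ≤ m := by omega
  rw [hm]
  nlinarith

/-- In a nonabelian `2`-group of class two with involutory commutators and rank at most two, the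
commutator subgroup has order two. -/
theorem commutator_cases [Finite S] (hr : IntRankLE 2 2 S)
    (hcl : ∀ g h k : S, ⁅⁅g, h⁆, k⁆ = 1) (hsq : ∀ g h : S, ⁅g, h⁆ ^ 2 = 1)
    (x₀ y₀ : S) (hxy : x₀ * y₀ ≠ y₀ * x₀) :
    ∀ g h : S, ⁅g, h⁆ = 1 ∨ ⁅g, h⁆ = ⁅x₀, y₀⁆ := by
  have hcc : ∀ g h k : S, Commute ⁅g, h⁆ k := fun g h k =>
    commutatorElement_eq_one_iff_commute.1 (hcl g h k)
  have hsqc : ∀ g h : S, Commute (g ^ 2) h := by
    intro g h
    have := Cfsg.Agent.Lib.Helper2.commutator_pow_left g h (hcc g h g) 2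
    rw [hsq] at this
    exact commutatorElement_eq_one_iff_commute.1 this
  have hc1 : ⁅x₀, y₀⁆ ≠ 1 := by
    intro h
    exact hxy (commutatorElement_eq_one_iff_commute.1 h).eq
  -- the centre has index at most four
  have hZidx : (Subgroup.center S).index ≤ 4 := by
    have := hr ⊤ (Subgroup.center S) le_top
      (fun h _ n hn => (Subgroup.center S).normal_of_characteristic.conj_mem n hn h)
      (fun a _ => ?_) (fun a _ b _ => ?_)
    · rw [Subgroup.relIndex_top_right] at this; exact this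
    · rw [Subgroup.mem_center_iff]
      intro g
      exact ((hsqc a g).eq).symm
    · rw [Subgroup.mem_center_iff]
      intro g
      have := (hcc a b g).eq
      rw [commutatorElement_def] at this
      exact this.symm
  -- the centralizer of x₀
  obtain ⟨M, hM⟩ : ∃ M, M = Subgroup.centralizer ({x₀} : Set S) := ⟨_, rfl⟩
  have hmemM : ∀ u : S, u ∈ M ↔ x₀ * u = u * x₀ := by
    intro u; rw [hM, Subgroup.mem_centralizer_singleton_iff]
    exact ⟨fun h => h.symm, fun h => h.symm⟩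
  have hZM : Subgroup.center S ≤ M := by
    intro z hz
    rw [hmemM]
    exact (Subgroup.mem_center_iff.1 hz x₀)
  have hx₀M : x₀ ∈ M := by rw [hmemM]
  have hy₀M : y₀ ∉ M := by rw [hmemM]; exact hxy
  have hx₀Z : x₀ ∉ Subgroup.center S := by
    intro h
    exact hxy (Subgroup.mem_center_iff.1 h y₀).symm
  have h1 := Subgroup.relIndex_mul_index hZM
  have hMi1 : M.index ≠ 1 := by
    intro h
    rw [Subgroup.index_eq_one] at h
    exact hy₀M (h ▸ Subgroup.mem_top y₀)
  have hr1 : (Subgroup.center S).relIndex M ≠ 1 := by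
    intro h
    exact hx₀Z (Subgroup.relIndex_eq_one.1 h hx₀M)
  have hMi0 : M.index ≠ 0 := Subgroup.index_ne_zero_of_finite
  have hZ0 : (Subgroup.center S).index ≠ 0 := Subgroup.index_ne_zero_of_finite
  have hr0 : (Subgroup.center S).relIndex M ≠ 0 := by
    intro h0; rw [h0, zero_mul] at h1; exact hZ0 h1.symm
  have hboth : (Subgroup.center S).relIndex M = 2 ∧ M.index = 2 := by
    have ha : 2 ≤ (Subgroup.center S).relIndex M := by omega
    have hb : 2 ≤ M.index := by omega
    have hab : (Subgroup.center S).relIndex M * M.index ≤ 4 := h1 ▸ hZidx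
    constructor <;> nlinarith
  obtain ⟨hrel2, hMidx⟩ := hboth
  have hMn : M.Normal := Subgroup.normal_of_index_eq_two hMidx
  -- M is abelian
  have hdecomp : ∀ u ∈ M, u ∈ Subgroup.center S ∨ x₀⁻¹ * u ∈ Subgroup.center S := by
    intro u hu
    by_cases huZ : u ∈ Subgroup.center S
    · exact Or.inl huZ
    · right
      have hidx2 : ((Subgroup.center S).subgroupOf M).index = 2 := hrel2
      have := (Subgroup.mul_mem_iff_of_index_two hidx2 (a := (⟨x₀, hx₀M⟩ : ↥M)⁻¹)
        (b := ⟨u, hu⟩)).2 ?_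
      · exact Subgroup.mem_subgroupOf.1 this
      · rw [Subgroup.inv_mem_iff]
        constructor
        · intro h; exact absurd (Subgroup.mem_subgroupOf.1 h) hx₀Z
        · intro h; exact absurd (Subgroup.mem_subgroupOf.1 h) huZ
  have hMab : ∀ u ∈ M, ∀ v ∈ M, u * v = v * u := by
    intro u hu v hv
    rcases hdecomp u hu with h | h
    · exact (Subgroup.mem_center_iff.1 h v).symm
    · have hv' : x₀ * v = v * x₀ := (hmemM v).1 hv
      have hz := Subgroup.mem_center_iff.1 h
      calc u * v = x₀ * ((x₀⁻¹ * u) * v) := by group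
        _ = x₀ * (v * (x₀⁻¹ * u)) := by rw [hz v]
        _ = (x₀ * v) * (x₀⁻¹ * u) := by group
        _ = (v * x₀) * (x₀⁻¹ * u) := by rw [hv']
        _ = v * u := by group
  have hcomle := commutator_le_range_tauHom M hMab hMidx y₀ hy₀M
  have hker : (Subgroup.center S).subgroupOf M ≤ (tauHom M hMab y₀).ker := by
    intro z hz
    rw [MonoidHom.mem_ker, tauHom_apply]
    have := Subgroup.mem_center_iff.1 (Subgroup.mem_subgroupOf.1 hz) y₀
    rw [← this]; group
  have hcardR : Nat.card (tauHom M hMab y₀).range ≤ 2 := by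
    rw [← Subgroup.index_ker]
    have hd := Subgroup.index_dvd_of_le hker
    have h2' : ((Subgroup.center S).subgroupOf M).index = 2 := hrel2
    rw [h2'] at hd
    exact Nat.le_of_dvd (by norm_num) hd
  have hcardC : Nat.card (commutator S) ≤ 2 := (Subgroup.card_le_of_le hcomle).trans hcardR
  have hcmem : ⁅x₀, y₀⁆ ∈ commutator S :=
    Subgroup.commutator_mem_commutator (Subgroup.mem_top _) (Subgroup.mem_top _)
  have hcard2 : Nat.card (commutator S) = 2 := by
    have : Nontrivial (commutator S) :=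
      ⟨⟨⟨⁅x₀, y₀⁆, hcmem⟩, 1, fun h => hc1 (congrArg Subtype.val h)⟩⟩
    have := Finite.one_lt_card (α := commutator S)
    omega
  intro g h
  exact eq_one_or_eq_of_card_two' _ hcard2 _ hcmem hc1 _
    (Subgroup.commutator_mem_commutator (Subgroup.mem_top _) (Subgroup.mem_top _))

end classTwo

section classTwoMain

variable {S : Type u} [Group S]

theorem pow_two_pow_mul (c : S) (hd : ∀ g h : S, ⁅g, h⁆ = 1 ∨ ⁅g, h⁆ = c) (hc2 : c * c = 1)
    (hcc : ∀ k : S, Commute c k) (hsqc : ∀ g h : S, Commute (g ^ 2) h) (x y : S) :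
    ∀ n : ℕ, 1 ≤ n → ∃ d, (d = 1 ∨ d = c) ∧ (x * y) ^ (2 ^ n) = x ^ (2 ^ n) * y ^ (2 ^ n) * d := by
  intro n hn
  induction n, hn using Nat.le_induction with
  | base =>
    refine ⟨⁅x⁻¹, y⁆, hd _ _, ?_⟩
    have hcen : ∀ k, Commute ⁅x⁻¹, y⁆ k := by
      intro k
      rcases hd x⁻¹ y with h | h <;> rw [h]
      · exact Commute.one_left k
      · exact hcc k
    simp only [pow_one, pow_two]
    have e : x * y * (x * y) = x * x * ⁅x⁻¹, y⁆ * (y * y) := by
      rw [commutatorElement_def]; group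
    rw [e, mul_assoc (x * x), (hcen (y * y)).eq, ← mul_assoc]
  | succ n hn ih =>
    obtain ⟨d, hd', h⟩ := ih
    refine ⟨1, Or.inl rfl, ?_⟩
    obtain ⟨m, rfl⟩ : ∃ m, n = m + 1 := ⟨n - 1, by omega⟩
    have hX : ∀ k, Commute (x ^ (2 ^ (m + 1))) k := by
      intro k; rw [pow_succ 2 m, pow_mul]; exact hsqc _ _
    have hY : ∀ k, Commute (y ^ (2 ^ (m + 1))) k := by
      intro k; rw [pow_succ 2 m, pow_mul]; exact hsqc _ _
    have hdc : ∀ k, Commute d k := by
      intro k
      rcases hd' with h' | h' <;> rw [h']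
      · exact Commute.one_left k
      · exact hcc k
    have hd2 : d ^ 2 = 1 := by
      rcases hd' with h' | h' <;> rw [h']
      · simp
      · rw [pow_two]; exact hc2
    have hcXY : Commute (x ^ (2 ^ (m + 1)) * y ^ (2 ^ (m + 1))) d := (hdc _).symm
    rw [pow_succ 2 (m + 1), pow_mul, h, mul_one, hcXY.mul_pow,
      (hX _).mul_pow, hd2, mul_one, ← pow_mul, ← pow_mul]

/-- A `2`-group of class at most two with involutory commutators and rank at most two is
metacyclic. -/
theorem metacyclic_of_class_two [Finite S] (hS : IsPGroup 2 S) (hr : IntRankLE 2 2 S)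
    (hcl : ∀ g h k : S, ⁅⁅g, h⁆, k⁆ = 1) (hsq : ∀ g h : S, ⁅g, h⁆ ^ 2 = 1) :
    Cfsg.IsMetacyclic S := by
  have : Fact (Nat.Prime 2) := ⟨Nat.prime_two⟩
  have hcc0 : ∀ g h k : S, Commute ⁅g, h⁆ k := fun g h k =>
    commutatorElement_eq_one_iff_commute.1 (hcl g h k)
  have hsqc : ∀ g h : S, Commute (g ^ 2) h := by
    intro g h
    have := Cfsg.Agent.Lib.Helper2.commutator_pow_left g h (hcc0 g h g) 2
    rw [hsq] at this
    exact commutatorElement_eq_one_iff_commute.1 this
  by_cases hab : ∀ a b : S, a * b = b * a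
  · obtain ⟨g, hg⟩ := Finite.exists_max (fun x : S => orderOf x)
    have hn : (Subgroup.zpowers g).Normal :=
      ⟨fun x hx y => by rw [hab y x, mul_inv_cancel_right]; exact hx⟩
    exact ⟨Subgroup.zpowers g, hn, Subgroup.isCyclic_zpowers g,
      isCyclic_quotient_zpowers hS hab hr g hg⟩
  push Not at hab
  obtain ⟨x₀, y₀, hxy⟩ := hab
  obtain ⟨c, hcdef⟩ : ∃ c, c = ⁅x₀, y₀⁆ := ⟨_, rfl⟩
  have hd : ∀ g h : S, ⁅g, h⁆ = 1 ∨ ⁅g, h⁆ = c :=
    hcdef ▸ commutator_cases hr hcl hsq x₀ y₀ hxy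
  have hc1 : c ≠ 1 := by
    intro h
    rw [hcdef] at h
    exact hxy (commutatorElement_eq_one_iff_commute.1 h).eq
  have hc2 : c * c = 1 := by
    have := hsq x₀ y₀
    rw [← hcdef, pow_two] at this; exact this
  have hcc : ∀ k : S, Commute c k := fun k => hcdef ▸ hcc0 x₀ y₀ k
  obtain ⟨C, hC⟩ : ∃ C, C = Subgroup.zpowers c := ⟨_, rfl⟩
  have hCmem : ∀ d, d ∈ C ↔ d = 1 ∨ d = c := by
    intro d
    rw [hC]
    constructor
    · intro h
      obtain ⟨k, rfl⟩ := Subgroup.mem_zpowers_iff.1 h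
      rcases Int.even_or_odd k with ⟨j, hj⟩ | ⟨j, hj⟩
      · left
        rw [hj, zpow_add, ← (Commute.refl c).mul_zpow, hc2, one_zpow]
      · right
        rw [hj, zpow_add, zpow_one, two_mul, zpow_add, ← (Commute.refl c).mul_zpow, hc2, one_zpow,
          one_mul]
    · rintro (rfl | rfl)
      · exact Subgroup.one_mem _
      · exact Subgroup.mem_zpowers _
  have hcC : c ∈ C := (hCmem c).2 (Or.inr rfl)
  have hCcen : ∀ d ∈ C, ∀ k : S, Commute d k := by
    intro d hd' k
    rcases (hCmem d).1 hd' with rfl | rfl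
    · exact Commute.one_left k
    · exact hcc k
  have hCn : C.Normal := by
    refine ⟨fun d hd' g => ?_⟩
    have := (hCcen d hd' g).eq
    have e : g * d * g⁻¹ = d := by rw [← this, mul_inv_cancel_right]
    rw [e]; exact hd'
  have hcomC : commutator S ≤ C := by
    rw [commutator_def, Subgroup.commutator_le]
    intro g _ h _
    rw [hCmem]; exact hd g h
  have hQcomm : ∀ a b : S ⧸ C, a * b = b * a := by
    have h := Subgroup.Normal.quotient_commutative_iff_commutator_le.2 hcomC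
    exact fun a b => h.is_comm.comm a b
  have hQr : IntRankLE 2 2 (S ⧸ C) := hr.quotient C
  have hQp : IsPGroup 2 (S ⧸ C) := hS.to_quotient C
  have hconj : ∀ g h : S, h * g * h⁻¹ = g ∨ h * g * h⁻¹ = c * g := by
    intro g h
    have e : h * g * h⁻¹ = ⁅h, g⁆ * g := by rw [commutatorElement_def]; group
    rcases hd h g with h1 | h1
    · left; rw [e, h1, one_mul]
    · right; rw [e, h1]
  have hnormal_of : ∀ g : S, c ∈ Subgroup.zpowers g → (Subgroup.zpowers g).Normal := by
    intro g hcg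
    refine ⟨fun x hx h => ?_⟩
    obtain ⟨k, rfl⟩ := Subgroup.mem_zpowers_iff.1 hx
    rw [← conj_zpow]
    apply Subgroup.zpow_mem
    rcases hconj g h with e | e <;> rw [e]
    · exact Subgroup.mem_zpowers g
    · exact Subgroup.mul_mem _ hcg (Subgroup.mem_zpowers g)
  have hnQ : ∀ q : S ⧸ C, (Subgroup.zpowers q).Normal := fun q =>
    ⟨fun x hx y => by rw [hQcomm y x, mul_inv_cancel_right]; exact hx⟩
  have hmemN₁ : ∀ (g x : S), x ∈ (Subgroup.zpowers (QuotientGroup.mk' C g)).comap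
      (QuotientGroup.mk' C) ↔ ∃ k : ℤ, (g ^ k)⁻¹ * x ∈ C := by
    intro g x
    rw [Subgroup.mem_comap, Subgroup.mem_zpowers_iff]
    constructor
    · rintro ⟨k, hk⟩
      rw [← map_zpow] at hk
      exact ⟨k, (QuotientGroup.eq).1 hk⟩
    · rintro ⟨k, hk⟩
      refine ⟨k, ?_⟩
      rw [← map_zpow]
      exact (QuotientGroup.eq).2 hk
  have hD1 : ∀ g : S, (∀ x : S ⧸ C, orderOf x ≤ orderOf (QuotientGroup.mk' C g)) →
      c ∈ Subgroup.zpowers g → Cfsg.IsMetacyclic S := by
    intro g hg hcg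
    have hnq := hnQ (QuotientGroup.mk' C g)
    have hcyc := isCyclic_quotient_zpowers hQp hQcomm hQr _ hg
    have hcomap : (Subgroup.zpowers (QuotientGroup.mk' C g)).comap (QuotientGroup.mk' C) =
        Subgroup.zpowers g := by
      ext x
      rw [hmemN₁]
      constructor
      · rintro ⟨k, hk⟩
        have e : x = g ^ k * ((g ^ k)⁻¹ * x) := by group
        rw [e]
        refine Subgroup.mul_mem _ (Subgroup.zpow_mem _ (Subgroup.mem_zpowers g) k) ?_
        rcases (hCmem _).1 hk with h | h <;> rw [h]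
        · exact Subgroup.one_mem _
        · exact hcg
      · intro hx
        obtain ⟨k, rfl⟩ := Subgroup.mem_zpowers_iff.1 hx
        exact ⟨k, by rw [inv_mul_cancel]; exact Subgroup.one_mem _⟩
    have hn' : ((Subgroup.zpowers (QuotientGroup.mk' C g)).comap (QuotientGroup.mk' C)).Normal :=
      hnq.comap _
    have h3 := isCyclic_quotient_comap C (Subgroup.zpowers (QuotientGroup.mk' C g)) hcyc
    refine ⟨_, hn', ?_, h3⟩
    rw [hcomap]; exact Subgroup.isCyclic_zpowers g
  by_cases hex : ∃ g : S, (∀ x : S ⧸ C, orderOf x ≤ orderOf (QuotientGroup.mk' C g)) ∧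
      c ∈ Subgroup.zpowers g
  · obtain ⟨g, hg, hcg⟩ := hex
    exact hD1 g hg hcg
  push Not at hex
  obtain ⟨gb, hgb⟩ := Finite.exists_max (fun x : S ⧸ C => orderOf x)
  obtain ⟨g, rfl⟩ := QuotientGroup.mk'_surjective C gb
  have hcg : c ∉ Subgroup.zpowers g := hex g hgb
  obtain ⟨e, he⟩ := (IsPGroup.iff_orderOf.1 hQp) (QuotientGroup.mk' C g)
  -- exponent
  have hexp : ∀ x : S, x ^ (2 ^ e) = 1 := by
    intro x
    obtain ⟨i, hi⟩ := (IsPGroup.iff_orderOf.1 hQp) (QuotientGroup.mk' C x)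
    have hle := hgb (QuotientGroup.mk' C x)
    have hie : i ≤ e := by
      rw [hi, he] at hle
      exact (Nat.pow_le_pow_iff_right (by norm_num)).1 hle
    by_cases hlt : i < e
    · have h1 : (QuotientGroup.mk' C x) ^ (2 ^ (e - 1)) = 1 := by
        apply orderOf_dvd_iff_pow_eq_one.1
        rw [hi]; exact pow_dvd_pow 2 (by omega)
      rw [← map_pow, QuotientGroup.mk'_apply, QuotientGroup.eq_one_iff, hCmem] at h1
      have hE2 : 2 ^ e = 2 ^ (e - 1) * 2 := by
        rw [← pow_succ]; congr 1; omega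
      rw [hE2, pow_mul]
      rcases h1 with h1 | h1 <;> rw [h1]
      · simp
      · rw [pow_two]; exact hc2
    · have hieq : i = e := by omega
      have h1 : (QuotientGroup.mk' C x) ^ (2 ^ e) = 1 := by
        apply orderOf_dvd_iff_pow_eq_one.1
        rw [hi, hieq]
      rw [← map_pow, QuotientGroup.mk'_apply, QuotientGroup.eq_one_iff, hCmem] at h1
      rcases h1 with h1 | h1
      · exact h1
      · exfalso
        apply hex x
        · intro y; rw [hi, hieq, ← he]; exact hgb y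
        · rw [← h1]; exact Subgroup.pow_mem _ (Subgroup.mem_zpowers x) _
  have hog : orderOf g = 2 ^ e := by
    apply Nat.dvd_antisymm
    · exact orderOf_dvd_iff_pow_eq_one.2 (hexp g)
    · rw [← he]; exact orderOf_map_dvd _ g
  -- the subgroup N₁ and a generator of S / N₁
  obtain ⟨N₁, hN₁⟩ : ∃ N₁, N₁ = (Subgroup.zpowers (QuotientGroup.mk' C g)).comap
      (QuotientGroup.mk' C) := ⟨_, rfl⟩
  have hnq := hnQ (QuotientGroup.mk' C g)
  have hN₁n : N₁.Normal := hN₁ ▸ hnq.comap _
  have hcycQ := isCyclic_quotient_zpowers hQp hQcomm hQr _ hgb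
  have h3 : IsCyclic (S ⧸ N₁) := by
    subst hN₁
    exact isCyclic_quotient_comap C (Subgroup.zpowers (QuotientGroup.mk' C g)) hcycQ
  have hmem₁ : ∀ x : S, x ∈ N₁ ↔ ∃ k : ℤ, (g ^ k)⁻¹ * x ∈ C := by
    intro x; rw [hN₁]; exact hmemN₁ g x
  have hgN₁ : ∀ k : ℤ, g ^ k ∈ N₁ := by
    intro k
    rw [hmem₁]
    exact ⟨k, by rw [inv_mul_cancel]; exact Subgroup.one_mem _⟩
  have hCN₁ : C ≤ N₁ := by
    intro d hd'
    rw [hmem₁]
    exact ⟨0, by simpa using hd'⟩
  have hN₁ab : ∀ x ∈ N₁, ∀ y ∈ N₁, x * y = y * x := by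
    intro x hx y hy
    obtain ⟨k, hk⟩ := (hmem₁ x).1 hx
    obtain ⟨l, hl⟩ := (hmem₁ y).1 hy
    have ex : x = g ^ k * ((g ^ k)⁻¹ * x) := by group
    have ey : y = g ^ l * ((g ^ l)⁻¹ * y) := by group
    rw [ex, ey]
    have c1 : Commute (g ^ k) (g ^ l) := (Commute.refl g).zpow_zpow k l
    exact ((c1.mul_right (hCcen _ hl _).symm).mul_left
      ((hCcen _ hk _).mul_right (hCcen _ hk _))).eq
  obtain ⟨vb, hvb⟩ := h3.exists_generator
  obtain ⟨v, rfl⟩ := QuotientGroup.mk'_surjective N₁ vb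
  obtain ⟨F, hF⟩ : ∃ F, F = orderOf (QuotientGroup.mk' N₁ v) := ⟨_, rfl⟩
  have hFE : F ∣ 2 ^ e := by
    rw [hF]
    apply orderOf_dvd_iff_pow_eq_one.2
    rw [← map_pow, hexp, map_one]
  obtain ⟨n, hne, hFn⟩ := (Nat.dvd_prime_pow Nat.prime_two).1 hFE
  have hn1 : 1 ≤ n := by
    by_contra hn0
    have hn0' : n = 0 := by omega
    rw [hn0', pow_zero] at hFn
    rw [hFn] at hF
    have hv1 : QuotientGroup.mk' N₁ v = 1 := orderOf_eq_one_iff.1 hF.symm
    have hall : ∀ x : S, x ∈ N₁ := by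
      intro x
      obtain ⟨k, hk⟩ := Subgroup.mem_zpowers_iff.1 (hvb (QuotientGroup.mk' N₁ x))
      rw [hv1, one_zpow] at hk
      exact (QuotientGroup.eq_one_iff x).1 hk.symm
    exact hxy (hN₁ab _ (hall x₀) _ (hall y₀))
  have hvF : v ^ F ∈ N₁ := by
    rw [← QuotientGroup.eq_one_iff, ← QuotientGroup.mk'_apply, map_pow, hF]
    exact pow_orderOf_eq_one _
  obtain ⟨k, hk⟩ := (hmem₁ _).1 hvF
  obtain ⟨dd, hdd⟩ : ∃ dd, dd = (g ^ k)⁻¹ * v ^ F := ⟨_, rfl⟩
  rw [← hdd] at hk
  have hvFeq : v ^ F = g ^ k * dd := by rw [hdd]; group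
  -- F divides k
  obtain ⟨m, hm⟩ := hFE
  have hm0 : m ≠ 0 := by
    rintro rfl
    rw [mul_zero] at hm
    exact (pow_pos (by norm_num : 0 < 2) e).ne' hm
  have hFk : (F : ℤ) ∣ k := by
    have h1 : (v ^ F) ^ m = 1 := by rw [← pow_mul, ← hm]; exact hexp v
    rw [hvFeq, (hCcen dd hk (g ^ k)).symm.mul_pow] at h1
    have hdm : dd ^ m ∈ C := Subgroup.pow_mem _ hk m
    have hgk : (g ^ k) ^ m = (dd ^ m)⁻¹ := eq_inv_of_mul_eq_one_left h1
    have hgkC : (g ^ k) ^ m ∈ C := by rw [hgk]; exact Subgroup.inv_mem _ hdm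
    have hgk1 : (g ^ k) ^ m = 1 := by
      rcases (hCmem _).1 hgkC with h | h
      · exact h
      · exfalso
        apply hcg
        rw [← h]
        exact Subgroup.pow_mem _ (Subgroup.zpow_mem _ (Subgroup.mem_zpowers g) k) m
    rw [← zpow_natCast, ← zpow_mul] at hgk1
    have h2 := orderOf_dvd_iff_zpow_eq_one.2 hgk1
    rw [hog, hm] at h2
    push_cast at h2
    exact Int.dvd_of_mul_dvd_mul_right (by exact_mod_cast hm0) h2
  obtain ⟨k', hk'⟩ := hFk
  obtain ⟨v', hv'⟩ : ∃ v', v' = v * g ^ (-k') := ⟨_, rfl⟩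
  have hv'F : v' ^ F ∈ C := by
    obtain ⟨d', hd'1, hd'2⟩ := pow_two_pow_mul c hd hc2 hcc hsqc v (g ^ (-k')) n hn1
    rw [hv', hFn, hd'2, ← hFn, hvFeq]
    have e1 : (g ^ (-k')) ^ F = (g ^ k)⁻¹ := by
      rw [← zpow_natCast, ← zpow_mul, hk', ← zpow_neg]
      congr 1; ring
    rw [e1]
    have hd'C : d' ∈ C := (hCmem d').2 hd'1
    have e2 : g ^ k * dd * (g ^ k)⁻¹ * d' = dd * d' := by
      rw [(hCcen dd hk (g ^ k)).symm.eq]; group
    rw [e2]
    exact Subgroup.mul_mem _ hk hd'C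
  have hmkv' : QuotientGroup.mk' N₁ v' = QuotientGroup.mk' N₁ v := by
    have h0 : QuotientGroup.mk' N₁ (g ^ (-k')) = 1 :=
      (QuotientGroup.eq_one_iff _).2 (hgN₁ (-k'))
    rw [hv', map_mul, h0, mul_one]
  rcases (hCmem _).1 hv'F with hv'1 | hv'c
  swap
  · -- v' ^ F = c : take N = ⟨v'⟩
    have hcv' : c ∈ Subgroup.zpowers v' := by
      rw [← hv'c]; exact Subgroup.pow_mem _ (Subgroup.mem_zpowers v') F
    have hNn := hnormal_of v' hcv'
    refine ⟨Subgroup.zpowers v', hNn, Subgroup.isCyclic_zpowers v', ?_⟩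
    refine ⟨⟨QuotientGroup.mk' _ g, fun y => ?_⟩⟩
    obtain ⟨x, rfl⟩ := QuotientGroup.mk'_surjective _ y
    obtain ⟨j, hj⟩ := Subgroup.mem_zpowers_iff.1 (hvb (QuotientGroup.mk' N₁ x))
    rw [← map_zpow] at hj
    have h1 := (QuotientGroup.eq).1 hj
    obtain ⟨i, hi⟩ := (hmem₁ _).1 h1
    -- x = v^j * g^i * d
    have hCN : C ≤ Subgroup.zpowers v' := by
      intro d hd'
      rcases (hCmem d).1 hd' with rfl | rfl
      · exact Subgroup.one_mem _
      · exact hcv'
    have hx : x = v ^ j * g ^ i * ((g ^ i)⁻¹ * ((v ^ j)⁻¹ * x)) := by group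
    have hmkd : QuotientGroup.mk' (Subgroup.zpowers v') ((g ^ i)⁻¹ * ((v ^ j)⁻¹ * x)) = 1 :=
      (QuotientGroup.eq_one_iff _).2 (hCN hi)
    have hmkv : QuotientGroup.mk' (Subgroup.zpowers v') v =
        (QuotientGroup.mk' (Subgroup.zpowers v') g) ^ k' := by
      have e : v = v' * g ^ k' := by rw [hv', zpow_neg]; group
      have h0 : QuotientGroup.mk' (Subgroup.zpowers v') v' = 1 :=
        (QuotientGroup.eq_one_iff _).2 (Subgroup.mem_zpowers v')
      rw [e, map_mul, h0, one_mul, map_zpow]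
    refine ⟨k' * j + i, ?_⟩
    show (QuotientGroup.mk' _ g) ^ (k' * j + i) = _
    rw [hx, map_mul, map_mul, hmkd, mul_one, map_zpow, map_zpow, hmkv, zpow_add, zpow_mul]
  · -- v' ^ F = 1 : contradiction with the rank
    exfalso
    by_cases he1 : e ≤ 1
    · -- exponent two, so abelian
      have hx2 : ∀ x : S, x * x = 1 := by
        intro x
        have := hexp x
        have h2e : 2 ^ e ∣ 2 := by
          calc 2 ^ e ∣ 2 ^ 1 := pow_dvd_pow 2 he1
            _ = 2 := by norm_num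
        have : x ^ 2 = 1 := by
          obtain ⟨t, ht⟩ := h2e
          rw [ht, pow_mul, this, one_pow]
        rwa [pow_two] at this
      apply hxy
      have hinv : ∀ x : S, x⁻¹ = x := fun x => inv_eq_of_mul_eq_one_right (hx2 x)
      calc x₀ * y₀ = (x₀ * y₀)⁻¹ := (hinv _).symm
        _ = y₀⁻¹ * x₀⁻¹ := mul_inv_rev _ _
        _ = y₀ * x₀ := by rw [hinv, hinv]
    · push Not at he1
      obtain ⟨e', rfl⟩ : ∃ e', e = e' + 2 := ⟨e - 2, by omega⟩
      obtain ⟨n', rfl⟩ : ∃ n', n = n' + 1 := ⟨n - 1, by omega⟩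
      obtain ⟨u₁, hu₁⟩ : ∃ u₁, u₁ = g ^ (2 ^ (e' + 1)) := ⟨_, rfl⟩
      obtain ⟨u₂, hu₂⟩ : ∃ u₂, u₂ = v' ^ (2 ^ n') := ⟨_, rfl⟩
      have hu₁sq : u₁ * u₁ = 1 := by
        rw [hu₁, ← pow_two, ← pow_mul, ← pow_succ]; exact hexp g
      have hu₂sq : u₂ * u₂ = 1 := by
        rw [hu₂, ← pow_two, ← pow_mul, ← pow_succ, ← hFn]; exact hv'1
      have hu₁cen : ∀ k : S, Commute u₁ k := by
        intro k; rw [hu₁, pow_succ 2 e', pow_mul]; exact hsqc _ _
      have hu₁ne : u₁ ≠ 1 := by
        rw [hu₁]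
        apply pow_ne_one_of_lt_orderOf (pow_pos (by norm_num) _).ne'
        rw [hog]
        exact Nat.pow_lt_pow_right (by norm_num) (by omega)
      have hu₁C : u₁ ∉ C := by
        intro h
        rcases (hCmem _).1 h with h | h
        · exact hu₁ne h
        · apply hcg
          rw [← h, hu₁]; exact Subgroup.pow_mem _ (Subgroup.mem_zpowers g) _
      have hu₂N₁ : u₂ ∉ N₁ := by
        intro h
        rw [← QuotientGroup.eq_one_iff, ← QuotientGroup.mk'_apply, hu₂, map_pow, hmkv'] at h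
        refine pow_ne_one_of_lt_orderOf (pow_pos (by norm_num) _).ne' ?_ h
        rw [← hF, hFn]
        exact Nat.pow_lt_pow_right (by norm_num) (by omega)
      have hu₁N₁ : u₁ ∈ N₁ := by
        rw [hu₁, ← zpow_natCast]; exact hgN₁ _
      -- the elementary abelian subgroup
      have hE1 := (Cfsg.Agent.S4400.Elem2.zpowers u₁ hu₁sq).sup
        (Cfsg.Agent.S4400.Elem2.zpowers c hc2) (by
          intro a _ b hb
          rw [← hC] at hb
          exact (hCcen b hb a).eq.symm)
      have hsup1cen : ∀ a ∈ Subgroup.zpowers u₁ ⊔ Subgroup.zpowers c, ∀ k : S, Commute a k := by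
        intro a ha k
        have hle : Subgroup.zpowers u₁ ⊔ Subgroup.zpowers c ≤ Subgroup.center S := by
          rw [sup_le_iff, Subgroup.zpowers_le, Subgroup.zpowers_le]
          exact ⟨Subgroup.mem_center_iff.2 (fun k => (hu₁cen k).eq.symm),
            Subgroup.mem_center_iff.2 (fun k => (hcc k).eq.symm)⟩
        exact (Subgroup.mem_center_iff.1 (hle ha) k).symm
      have hE2 := hE1.sup (Cfsg.Agent.S4400.Elem2.zpowers u₂ hu₂sq)
        (fun a ha b _ => (hsup1cen a ha b).eq)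
      have hlt1 : Subgroup.zpowers c < Subgroup.zpowers u₁ ⊔ Subgroup.zpowers c := by
        refine lt_of_le_of_ne le_sup_right ?_
        intro h
        apply hu₁C
        rw [hC, h]
        exact Subgroup.mem_sup_left (Subgroup.mem_zpowers u₁)
      have hsup1N₁ : Subgroup.zpowers u₁ ⊔ Subgroup.zpowers c ≤ N₁ := by
        rw [sup_le_iff, Subgroup.zpowers_le, Subgroup.zpowers_le]
        exact ⟨hu₁N₁, hCN₁ hcC⟩
      have hlt2 : Subgroup.zpowers u₁ ⊔ Subgroup.zpowers c <
          Subgroup.zpowers u₁ ⊔ Subgroup.zpowers c ⊔ Subgroup.zpowers u₂ := by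
        refine lt_of_le_of_ne le_sup_left ?_
        intro h
        apply hu₂N₁
        apply hsup1N₁
        rw [h]
        exact Subgroup.mem_sup_right (Subgroup.mem_zpowers u₂)
      have hcardc : Nat.card (Subgroup.zpowers c) = 2 := by
        rw [Nat.card_zpowers]
        exact orderOf_eq_prime (by rw [pow_two]; exact hc2) hc1
      have hc4 := two_mul_card_le_of_lt hlt1
      have hc8 := two_mul_card_le_of_lt hlt2
      have hle4 := hr (Subgroup.zpowers u₁ ⊔ Subgroup.zpowers c ⊔ Subgroup.zpowers u₂) ⊥ bot_le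
        (fun h _ n hn => by
          rw [Subgroup.mem_bot] at hn ⊢
          rw [hn]; group)
        (fun a ha => by
          rw [Subgroup.mem_bot, pow_two]; exact hE2.2 a ha)
        (fun a ha b hb => by
          rw [Subgroup.mem_bot, hE2.1 a ha b hb]; group)
      rw [Subgroup.relIndex_bot_left] at hle4
      omega

end classTwoMain

section finalInduction

/-- A finite `2`-group all of whose elementary abelian sections have order at most four is
metacyclic (Blackburn). -/
theorem metacyclic_of_rank_two : ∀ (n : ℕ) (S : Type u) [Group S] [Finite S], Nat.card S = n →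
    IsPGroup 2 S → IntRankLE 2 2 S → Cfsg.IsMetacyclic S := by
  intro n
  induction n using Nat.strong_induction_on with
  | _ n ih =>
    intro S _ _ hcard hS hr
    have : Fact (Nat.Prime 2) := ⟨Nat.prime_two⟩
    by_cases hK : KSub S = ⊥
    · apply metacyclic_of_class_two hS hr
      · intro g h k
        have h1 : ⁅⁅g, h⁆, k⁆ ∈ KSub S :=
          Subgroup.subset_normalClosure (Or.inl ⟨g, h, k, rfl⟩)
        rw [hK, Subgroup.mem_bot] at h1
        exact h1
      · intro g h
        have h1 : ⁅g, h⁆ ^ 2 ∈ KSub S :=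
          Subgroup.subset_normalClosure (Or.inr ⟨g, h, rfl⟩)
        rw [hK, Subgroup.mem_bot] at h1
        exact h1
    · obtain ⟨z, hzN, hzc, hz1⟩ :=
        Cfsg.Agent.Lib.Helper32.exists_ne_one_mem_normal_inf_center hS (KSub S) hK
      obtain ⟨k, hk⟩ := (IsPGroup.iff_orderOf.1 hS) z
      have hk0 : k ≠ 0 := by
        rintro rfl
        rw [pow_zero, orderOf_eq_one_iff] at hk
        exact hz1 hk
      obtain ⟨j, rfl⟩ : ∃ j, k = j + 1 := ⟨k - 1, by omega⟩
      obtain ⟨w, hw⟩ : ∃ w, w = z ^ (2 ^ j) := ⟨_, rfl⟩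
      have hwo : orderOf w = 2 := by
        rw [hw, orderOf_pow_of_dvd (pow_ne_zero _ (by norm_num))
          (by rw [hk]; exact pow_dvd_pow 2 (by omega)),
          hk, pow_succ, Nat.mul_div_cancel_left _ (pow_pos (by norm_num) j)]
      have hwN : w ∈ KSub S := hw ▸ Subgroup.pow_mem _ hzN _
      have hwc : w ∈ Subgroup.center S := hw ▸ Subgroup.pow_mem _ hzc _
      have hZc : Subgroup.zpowers w ≤ Subgroup.center S := by
        rw [Subgroup.zpowers_le]; exact hwc
      have hZN : Subgroup.zpowers w ≤ KSub S := by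
        rw [Subgroup.zpowers_le]; exact hwN
      have hZn : (Subgroup.zpowers w).Normal := by
        refine ⟨fun x hx g => ?_⟩
        have := Subgroup.mem_center_iff.1 (hZc hx) g
        have e : g * x * g⁻¹ = x := by rw [this, mul_assoc, mul_inv_cancel, mul_one]
        rw [e]; exact hx
      have hZcard : Nat.card (Subgroup.zpowers w) = 2 := by rw [Nat.card_zpowers, hwo]
      have hQcard : Nat.card (S ⧸ Subgroup.zpowers w) < n := by
        have h1 := Subgroup.card_eq_card_quotient_mul_card_subgroup (Subgroup.zpowers w)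
        rw [hZcard, hcard] at h1
        have hpos : 0 < Nat.card (S ⧸ Subgroup.zpowers w) := Nat.card_pos
        omega
      have hQ := ih _ hQcard (S ⧸ Subgroup.zpowers w) rfl (hS.to_quotient _)
        (IntRankLE.quotient _ hr)
      exact metacyclic_of_quotient hS (Subgroup.zpowers w) hZcard hZN hQ

end finalInduction

end Cfsg.Agent.Lib.Helper73
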