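import Cfsg.Agent.Lib.Helper81.Mi.Defs

set_option autoImplicit false

/-! Definitions for the MI-KS sub-hive (owner helper73) of the `Mi` hive (S2140, owner helper81). -/

namespace Cfsg.Agent.Lib.Helper81.Mi

open Matrix

variable {F : Type*} [Field F] {n : ℕ}

/-- `x` spans, together with `v`, the line `l_v` attached to `v` by `CaseS H v` (coset `g = 1`):
`x ∉ F v` and for `φ ⊥ v`: `T(v, φ) ∈ H ↔ φ ⊥ x`. -/
def IsX (H : Subgroup (SLn n F)) (v x : Fin n → F) : Prop :=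
  (∀ c : F, x ≠ c • v) ∧ ∀ φ : Fin n → F, φ ⬝ᵥ v = 0 → (tv v φ ∈ H ↔ φ ⬝ᵥ x = 0)

end Cfsg.Agent.Lib.Helper81.Mi
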