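import Mathlib
import Cfsg.Agent.Lib.Helper1.R3Core
import Cfsg.Agent.Lib.Helper60.SzLieBridge
import Cfsg.Agent.Lib.Helper6.SzSylow

/-! # S1788 hive "R3" (helper1): leaf R3-SZ `r3_sz` (helper73)

The centre `{T(0,b)}` of the Sylow 2-subgroup of `Sz(q)` is elementary abelian of order `q ≥ 8`. -/

set_option autoImplicit false

namespace Cfsg.Agent.Lib.Helper1.R3

open Cfsg.Agent.Lib.Helper6.Sz Cfsg.Agent.Lib.Helper60.SzLie

/-- R3-SZ -/
theorem r3_sz (F : Type) [Field F] [Fintype F] (m : ℕ) (hm : 1 ≤ m)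
    (hF : Fintype.card F = 2 ^ (2 * m + 1)) : Cfsg.PRankAtLeast 2 3 (Cfsg.Lie.Sz F (2 ^ (m + 1))) := by
  have : CharP F 2 := charP_two hF
  refine r3_of_iso (szEquiv hm hF) ?_
  have hs : ∀ x, sig F m (sig F m x) = x ^ 2 := sig_sig hF
  have hV2 : ∀ v : F, v + v = 0 := fun v => CharTwo.add_self_eq_zero v
  have hV : 8 ≤ Nat.card F := by
    rw [Nat.card_eq_fintype_card, hF]
    calc 8 = 2 ^ 3 := by norm_num
      _ ≤ 2 ^ (2 * m + 1) := Nat.pow_le_pow_right (by norm_num) (by omega)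
  let f : Multiplicative F →* ↥(G (sig F m)) :=
    { toFun := fun b => Tg (sig F m) hs 0 (Multiplicative.toAdd b)
      map_one' := by
        show Tg (sig F m) hs 0 0 = 1
        exact Tg_zero (sig F m) hs
      map_mul' := fun b c => by
        show Tg (sig F m) hs 0 (Multiplicative.toAdd b + Multiplicative.toAdd c) =
          Tg (sig F m) hs 0 (Multiplicative.toAdd b) * Tg (sig F m) hs 0 (Multiplicative.toAdd c)
        rw [Tg_mul]
        simp }
  refine r3_of_hom hV2 hV f ?_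
  intro b c hbc
  have h := (Tg_inj (sig F m) hs hbc).2
  exact Multiplicative.toAdd.injective h

end Cfsg.Agent.Lib.Helper1.R3
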