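import Cfsg.Agent.Lib.Helper73.SlK5Defs
import Cfsg.Agent.Lib.Helper3.CharOps
import Cfsg.Agent.Lib.Helper78.SlK5ABS
import Cfsg.Agent.Lib.Helper61.SlK5QGRP
import Cfsg.Agent.Lib.Helper90.SlK5NORM
import Cfsg.Agent.Lib.Helper8.SlK5IOTA
import Cfsg.Agent.Lib.Helper24.SlK5QCARD
import Cfsg.Agent.Lib.Helper8.SlK5SMEM
import Cfsg.Agent.Lib.Helper34.SlK5SFAC

set_option autoImplicit false

/-! SL-K5 sub-hive (owner helper73) of the `Sl` hive (S2332, owner helper76): assembly of `exists_defl`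
(the character of `L = SL_{m+2}` on the `Q`-fixed points of a character of `SL_{m+3}`).
Leaves: ABS helper78, QGRP helper61, NORM helper90, IOTA helper8, QCARD helper24, SMEM helper8, SFAC helper34. -/

namespace Cfsg.Agent.Lib.Helper76.Sl

open Matrix Cfsg

variable {F : Type*} [Field F] [Fintype F] [DecidableEq F]

/-! ## Assembly (helper73) -/

/-- `Q` as a subgroup. -/
def k5Qsub (m : ℕ) : Subgroup (Gm F m) where
  carrier := Qset F m
  mul_mem' := fun hx hy => k5_Q_mul m hx hy
  one_mem' := k5_Q_one m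
  inv_mem' := fun hx => k5_Q_inv m hx

open Classical in
/-- the sum over `S` as a double sum over `L` and `Q`. -/
theorem k5_sum_S (m : ℕ) (ι : Gm F m →* Gm F (m + 1)) (hι : ∀ l, (ι l).1 = k5Mat F m l.1)
    (f : Gm F (m + 1) → ℂ) :
    ∑ s ∈ Finset.univ.filter (fun s : Gm F (m + 1) => s ∈ Sset F (m + 1)), f s =
      ∑ l : Gm F m, ∑ x ∈ Finset.univ.filter (fun x : Gm F (m + 1) => x ∈ Qset F (m + 1)), f (x * ι l) := by
  rw [← Finset.sum_product']
  symm
  refine Finset.sum_bij (fun p _ => p.2 * ι p.1) ?_ ?_ ?_ ?_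
  · intro p hp
    simp only [Finset.mem_product, Finset.mem_univ, Finset.mem_filter, true_and] at hp ⊢
    exact k5_mul_mem_S m p.1 (ι p.1) p.2 (hι p.1) hp
  · intro p hp p' hp' h
    simp only [Finset.mem_product, Finset.mem_univ, Finset.mem_filter, true_and] at hp hp'
    have h1 : p.1 = p'.1 := by
      apply Subtype.ext
      ext i j
      rw [← k5_mul_block m p.1 (ι p.1) p.2 (hι p.1) hp i j, ← k5_mul_block m p'.1 (ι p'.1) p'.2 (hι p'.1) hp' i j, h]
    have h2 : p.2 = p'.2 := by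
      rw [h1] at h
      exact mul_right_cancel h
    exact Prod.ext h1 h2
  · intro s hs
    simp only [Finset.mem_univ, Finset.mem_filter, true_and] at hs
    obtain ⟨l, y, x, hy, hx, rfl⟩ := k5_S_factor m s hs
    refine ⟨(l, x), ?_, ?_⟩
    · simp only [Finset.mem_product, Finset.mem_univ, Finset.mem_filter, true_and]
      exact hx
    · have : ι l = y := Subtype.ext ((hι l).trans hy.symm)
      simp [this]
  · intro p _
    rfl

open Classical in
theorem k5_S_card (m : ℕ) :
    (Finset.univ.filter (fun s : Gm F (m + 1) => s ∈ Sset F (m + 1))).card =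
      Fintype.card (Gm F m) * Fintype.card F ^ (m + 2) := by
  obtain ⟨ι, hι⟩ := k5_exists_iota (F := F) m
  have h := k5_sum_S m ι hι (fun _ => (1 : ℂ))
  simp only [Finset.sum_const, nsmul_eq_mul, mul_one, Finset.card_univ] at h
  rw [k5_Q_card (F := F) (m + 1)] at h
  exact_mod_cast h

/-- K5 DEFL -/
theorem exists_defl (m : ℕ) (χ : Gm F (m + 1) → ℂ) (hχ : IsCharacter (Gm F (m + 1)) χ) :
    ∃ φ : Gm F m → ℂ, IsCharacter (Gm F m) φ ∧ φ 1 = avgQ F (m + 1) χ 1 ∧
      φ (tv F m) = avgQ F (m + 1) χ (tvS F m) ∧ classInner φ (fun _ => 1) = avgS F (m + 1) χ := by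
  classical
  obtain ⟨ι, hι⟩ := k5_exists_iota (F := F) m
  refine ⟨fun l => avgQ F (m + 1) χ (ι l), ?_, ?_, ?_, ?_⟩
  · have h := k5_abs (k5Qsub (F := F) (m + 1))
      (Finset.univ.filter (fun x : Gm F (m + 1) => x ∈ Qset F (m + 1)))
      (by intro x; simp [k5Qsub]) ι
      (fun l x hx => k5_norm m l (ι l) x (hι l) hx) χ hχ
    rw [k5_Q_card (F := F) (m + 1)] at h
    convert h using 2
    unfold avgQ
    push_cast
    congr 1
  · simp only [map_one]
  · have : ι (tv F m) = tvS F m := Subtype.ext ((hι _).trans (k5Mat_tv m))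
    simp only [this]
  · unfold classInner avgS
    simp only [map_one, mul_one]
    rw [k5_sum_S m ι hι χ, k5_S_card (F := F) m]
    unfold avgQ
    rw [← Finset.mul_sum, Nat.card_eq_fintype_card]
    push_cast
    have h1 : (Fintype.card (Gm F m) : ℂ) ≠ 0 := by
      exact_mod_cast Fintype.card_ne_zero
    have h2 : (Fintype.card F : ℂ) ^ (m + 1 + 1) ≠ 0 := by
      apply pow_ne_zero
      exact_mod_cast Fintype.card_ne_zero
    field_simp

end Cfsg.Agent.Lib.Helper76.Sl
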