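import Cfsg.Agent.Lib.Helper76.SlDefs

set_option autoImplicit false

/-! Definitions for the SL-K5 sub-hive (owner helper73) of the `Sl` hive (S2332, owner helper76):
the lower-right block embedding `SL_{m+2} → SL_{m+3}`, `A ↦ diag(1, A)`, on the level of matrices. -/

namespace Cfsg.Agent.Lib.Helper76.Sl

open Matrix

variable (F : Type*) [Field F] [Fintype F] [DecidableEq F]

/-- the block matrix `diag(1, A)` of size `m + 3` built from `A` of size `m + 2`. -/
def k5Mat (m : ℕ) (A : Matrix (Fin (m + 2)) (Fin (m + 2)) F) : Matrix (Fin (m + 3)) (Fin (m + 3)) F :=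
  Matrix.of fun i j =>
    Fin.cases (Fin.cases (1 : F) (fun _ => 0) j) (fun i' => Fin.cases (0 : F) (fun j' => A i' j') j) i

end Cfsg.Agent.Lib.Helper76.Sl
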