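import Cfsg.Agent.Lib.Helper73.TpSYL

set_option autoImplicit false

namespace Cfsg.Agent.Lib.Helper66.Tp

variable {p : ℕ} {G : Type*} [Group G] [Finite G]

/-- elements of `Q` commute (exponent 2). -/
theorem tpcu_comm (s : Setup p G) {u v : G} (hu : u ∈ (s.Q : Subgroup G)) (hv : v ∈ (s.Q : Subgroup G)) :
    u * v = v * u := by
  have h1 := s.hexp u hu
  have h2 := s.hexp v hv
  have h3 := s.hexp (u * v) (mul_mem hu hv)
  have hui : u⁻¹ = u := inv_eq_of_mul_eq_one_right h1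
  have hvi : v⁻¹ = v := inv_eq_of_mul_eq_one_right h2
  have : u * v = (u * v)⁻¹ := (inv_eq_of_mul_eq_one_right h3).symm
  rw [this, mul_inv_rev, hui, hvi]

theorem tpcu_Q_le (s : Setup p G) {u : G} (hu : u ∈ (s.Q : Subgroup G)) :
    (s.Q : Subgroup G) ≤ Subgroup.centralizer ({u} : Set G) := by
  intro v hv
  rw [Subgroup.mem_centralizer_iff]
  intro h hh
  rw [Set.mem_singleton_iff.1 hh]
  exact tpcu_comm s hu hv

theorem tpcu_p_odd (s : Setup p G) : ¬ 2 ∣ p := by
  intro h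
  rcases (Nat.dvd_prime s.ctx.hp).1 h with h | h
  · omega
  · exact s.ctx.hp2 h.symm

theorem tpcu_ne_top (s : Setup p G) {u : G} (hu : u ∈ (s.Q : Subgroup G)) (hu1 : u ≠ 1) :
    Subgroup.centralizer ({u} : Set G) ≠ ⊤ := by
  intro htop
  have hcen : u ∈ Subgroup.center G := by
    rw [Subgroup.mem_center_iff]
    intro g
    have hg : g ∈ Subgroup.centralizer ({u} : Set G) := htop ▸ Subgroup.mem_top g
    rw [Subgroup.mem_centralizer_iff] at hg
    exact (hg u rfl).symm
  have := s.ctx.simple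
  rcases (inferInstance : (Subgroup.center G).Normal).eq_bot_or_eq_top with h | h
  · rw [h, Subgroup.mem_bot] at hcen
    exact hu1 hcen
  · -- G commutative, so Q is normal
    have hn : (s.Q : Subgroup G).Normal := by
      refine ⟨fun n hn g => ?_⟩
      have hg : g ∈ Subgroup.center G := h ▸ Subgroup.mem_top g
      rw [Subgroup.mem_center_iff] at hg
      rw [← hg n, mul_inv_cancel_right]
      exact hn
    have hc := tpsyl_card_sylow s.ctx s.Q
    rcases hn.eq_bot_or_eq_top with h' | h'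
    · rw [h', Subgroup.card_bot] at hc
      have := s.ctx.hp.pos
      omega
    · rw [h', Subgroup.card_top] at hc
      exact tpsyl_card_ne s.ctx hc

/-- a bad pair inside `C(u)` is impossible: the Frobenius condition for the prime `2` holds in `↥C(u)`. -/
theorem tpcu_frob (s : Setup p G) {u : G} (hu : u ∈ (s.Q : Subgroup G)) (hu1 : u ≠ 1)
    (C : Subgroup G) (hC : C = Subgroup.centralizer ({u} : Set G))
    (hQC : (s.Q : Subgroup G) ≤ C) :
    ∀ Q₁ : Subgroup ↥C, Q₁ ≤ ((s.Q.subtype hQC : Sylow 2 ↥C) : Subgroup ↥C) →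
      ∀ g ∈ Subgroup.normalizer (Q₁ : Set ↥C), Nat.Coprime (orderOf g) 2 →
        g ∈ Subgroup.centralizer (Q₁ : Set ↥C) := by
  intro Q₁ hQ₁ g hg hco
  by_contra hgc
  set Q₀ : Subgroup G := Q₁.map C.subtype with hQ₀def
  have hQ₀ : Q₀ ≤ (s.Q : Subgroup G) := by
    rintro _ ⟨x, hx, rfl⟩
    have := hQ₁ hx
    exact this
  have hgN : (g : G) ∈ Subgroup.normalizer (Q₀ : Set G) := by
    have := Subgroup.le_normalizer_map (H := Q₁) C.subtype
    exact this ⟨g, hg, rfl⟩
  have hco' : Nat.Coprime (orderOf (g : G)) 2 := by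
    rwa [Subgroup.orderOf_coe]
  have hgc' : (g : G) ∉ Subgroup.centralizer (Q₀ : Set G) := by
    intro hcen
    apply hgc
    rw [Subgroup.mem_centralizer_iff] at hcen ⊢
    intro h hh
    have := hcen (h : G) ⟨h, hh, rfl⟩
    exact Subtype.ext this
  have hgp := tpsyl_order s.ctx s.Q Q₀ hQ₀ (g : G) hgN hco' hgc'
  obtain ⟨hQeq, htr⟩ := tpsyl_main s.ctx s.Q Q₀ hQ₀ (g : G) hgN hgp hgc'
  -- every `v ∈ Q \ {1}` equals `u`
  have hgu : ∀ k : ℕ, (g : G) ^ k * u * ((g : G) ^ k)⁻¹ = u := by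
    intro k
    have hgk : (g : G) ^ k ∈ Subgroup.centralizer ({u} : Set G) := hC ▸ pow_mem g.2 k
    rw [Subgroup.mem_centralizer_iff] at hgk
    rw [← hgk u rfl, mul_inv_cancel_right]
  have hall : ∀ v ∈ (s.Q : Subgroup G), v ≠ 1 → v = u := by
    intro v hv hv1
    obtain ⟨k, hk⟩ := htr u hu v hv hu1 hv1
    rw [← hk, hgu k]
  have hle : (s.Q : Subgroup G) ≤ Subgroup.zpowers u := by
    intro v hv
    by_cases hv1 : v = 1
    · rw [hv1]; exact one_mem _
    · rw [hall v hv hv1]; exact Subgroup.mem_zpowers u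
  have h1 := Subgroup.card_le_of_le hle
  rw [tpsyl_card_sylow s.ctx s.Q, Nat.card_zpowers] at h1
  have h2 : orderOf u ∣ 2 := orderOf_dvd_of_pow_eq_one (by rw [pow_two]; exact s.hexp u hu)
  have h3 := Nat.le_of_dvd (by norm_num) h2
  have h4 := s.ctx.hp.two_le
  omega

/-- **TP-CU** (twin of `Helper33.TpCU.card_centralizer_eq`, renamed so that both files can be imported together) -/
theorem tpcu73_card_centralizer_eq (s : Setup p G) {u : G} (hu : u ∈ (s.Q : Subgroup G)) (hu1 : u ≠ 1) :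
    IsPGroup p (Yof p u) ∧
      Nat.card (Subgroup.centralizer ({u} : Set G)) = Nat.card (Yof p u) * (p + 1) := by
  have h2 : Fact (Nat.Prime 2) := ⟨Nat.prime_two⟩
  have hp := s.ctx.hp
  have hpf : Fact p.Prime := ⟨hp⟩
  set C := Subgroup.centralizer ({u} : Set G) with hC
  have hQC : (s.Q : Subgroup G) ≤ C := tpcu_Q_le s hu
  have hCtop : C ≠ ⊤ := tpcu_ne_top s hu hu1
  set Q' : Sylow 2 ↥C := s.Q.subtype hQC with hQ'
  obtain ⟨N, hNn, hNc⟩ := (Cfsg.Agent.S0071.result Q').2 (tpcu_frob s hu hu1 C hC hQC)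
  have hQ'card : Nat.card (Q' : Subgroup ↥C) = p + 1 := by
    rw [← tpsyl_card_sylow s.ctx s.Q]
    exact Nat.card_congr (Subgroup.subgroupOfEquivOfLe hQC).toEquiv
  have hcard : Nat.card N * (p + 1) = Nat.card C := by
    rw [← hQ'card]; exact hNc.card_mul_card
  have h2C : 2 ∣ Nat.card C := by
    rw [← hcard]
    have := tpcu_p_odd s
    exact Dvd.dvd.mul_left (by omega) _
  have hstar := s.ctx.star C hCtop h2C
  have hNodd : ¬ 2 ∣ Nat.card N := by
    have h1 : (Q' : Subgroup ↥C).index = Nat.card N := hNc.index_eq_card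
    rw [← h1]
    exact Q'.not_dvd_index
  have hNp : IsPGroup p N := by
    have hpos : Nat.card N ≠ 0 := Nat.card_pos.ne'
    have key : ∀ {d : ℕ}, d.Prime → d ∣ Nat.card N → d = p := by
      intro d hd hdN
      rcases hstar d hd (hdN.trans (hcard ▸ Dvd.intro _ rfl)) with h | h
      · subst h; exact absurd hdN hNodd
      · exact h
    exact IsPGroup.of_card (Nat.eq_prime_pow_of_unique_prime_dvd (p := p) hpos key)
  have hquot : IsPGroup 2 (↥C ⧸ N) := by
    obtain ⟨k, hk⟩ := Q'.2.exists_card_eq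
    apply IsPGroup.of_card (n := k)
    rw [← hk, ← Subgroup.index_eq_card]
    exact hNc.symm.index_eq_card
  have hY : Yof p u = N.map C.subtype := by
    apply le_antisymm
    · rw [Yof, Subgroup.closure_le]
      rintro g ⟨hgC, k, hk⟩
      have hgC' : g ∈ C := hgC
      have hco : Nat.Coprime (orderOf (⟨g, hgC'⟩ : ↥C)) 2 := by
        rw [Subgroup.orderOf_mk, hk]
        apply Nat.Coprime.pow_left
        exact (Nat.coprime_primes hp Nat.prime_two).2 s.ctx.hp2
      exact ⟨⟨g, hgC'⟩, Cfsg.Agent.Lib.Helper2.mem_of_coprime_of_isPGroup_quotient N hquot hco, rfl⟩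
    · rintro _ ⟨n, hn, rfl⟩
      obtain ⟨k, hk⟩ := (IsPGroup.iff_orderOf.1 hNp) ⟨n, hn⟩
      refine mem_Yof n.2 ⟨k, ?_⟩
      rw [← hk]
      show orderOf ((n : ↥C) : G) = orderOf (⟨n, hn⟩ : ↥N)
      rw [Subgroup.orderOf_coe, ← Subgroup.orderOf_coe (⟨n, hn⟩ : ↥N)]
  constructor
  · rw [hY]
    exact hNp.map C.subtype
  · rw [hY, Subgroup.card_subtype, hcard]

end Cfsg.Agent.Lib.Helper66.Tp
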