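import Mathlib
import Cfsg.Prelude.Def_Local
import Cfsg.Prelude.Def_Transfer
import Cfsg.Agent.Lib.Helper76.PSolvable
import Cfsg.Agent.Lib.Helper54.PSolvExt

set_option autoImplicit false

/-! Trs hive (S5156), leaf TRS-G3. -/

namespace Cfsg.Agent.Lib.Helper88.Trs

open Cfsg

variable {p : ℕ} [Fact p.Prime]

/-- **TRS-G3**: a finite group mapping to a `p`-solvable group with kernel a `p`-group is `p`-solvable. -/
theorem isPSolvable_of_ker {A : Type*} {B : Type*} [Group A] [Finite A] [Group B] (f : A →* B)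
    (hB : IsPSolvable p B) (hk : IsPGroup p f.ker) : IsPSolvable p A := by
  have h1 : IsPSolvable p ↥f.ker := Cfsg.Agent.Lib.Helper54.isPSolvable_of_isPGroup p hk
  have h2 : IsPSolvable p ↥f.range := Cfsg.Agent.Lib.Helper76.isPSolvable_subgroup f.range hB
  have h3 : IsPSolvable p (A ⧸ f.ker) :=
    Cfsg.Agent.Lib.Helper76.isPSolvable_of_mulEquiv (QuotientGroup.quotientKerEquivRange f).symm h2
  exact Cfsg.Agent.Lib.Helper54.isPSolvable_ext p f.ker h1 h3

end Cfsg.Agent.Lib.Helper88.Trs
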