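import Mathlib
import Cfsg.Prelude.Def_Local
import Cfsg.Prelude.Def_Transfer

set_option autoImplicit false
set_option linter.style.haveILetI false
set_option linter.unusedSectionVars false

/-! Trs hive (S5156), leaf TRS-G6. -/

namespace Cfsg.Agent.Lib.Helper88.Trs

open Cfsg

variable {p : ℕ} [Fact p.Prime]

/-- a normal subgroup of `p`-power index contains `O^p(A)` -/
theorem g6_pResidual_le {A : Type*} [Group A] [Finite A] (M : Subgroup A) [M.Normal] (m : ℕ)
    (hM : M.index = p ^ m) : pResidual p A ≤ M := by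
  unfold pResidual
  rw [Subgroup.closure_le]
  intro a ha
  have ha' : (orderOf a).Coprime p := ha
  have h1 : ((a : A) : A ⧸ M) ^ (p ^ m) = 1 := by
    rw [← hM, Subgroup.index_eq_card]
    exact pow_card_eq_one'
  have h2 : ((a : A) : A ⧸ M) ^ (orderOf a) = 1 := by
    rw [← QuotientGroup.mk_pow, pow_orderOf_eq_one]
    rfl
  have h3 : orderOf ((a : A) : A ⧸ M) ∣ Nat.gcd (orderOf a) (p ^ m) :=
    Nat.dvd_gcd (orderOf_dvd_of_pow_eq_one h2) (orderOf_dvd_of_pow_eq_one h1)
  rw [Nat.Coprime.pow_right m ha', Nat.dvd_one, orderOf_eq_one_iff] at h3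
  exact (QuotientGroup.eq_one_iff a).1 h3

/-- a normal subgroup of index prime to `p` contains all elements of `p`-power order -/
theorem g6_pElements_le {A : Type*} [Group A] [Finite A] (M : Subgroup A) [M.Normal]
    (hM : M.index.Coprime p) :
    Subgroup.closure {a : A | ∃ k : ℕ, orderOf a = p ^ k} ≤ M := by
  rw [Subgroup.closure_le]
  rintro a ⟨k, hk⟩
  have h1 : ((a : A) : A ⧸ M) ^ M.index = 1 := by
    rw [Subgroup.index_eq_card]
    exact pow_card_eq_one'
  have h2 : ((a : A) : A ⧸ M) ^ (p ^ k) = 1 := by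
    rw [← QuotientGroup.mk_pow, ← hk, pow_orderOf_eq_one]
    rfl
  have h3 : orderOf ((a : A) : A ⧸ M) ∣ Nat.gcd M.index (p ^ k) :=
    Nat.dvd_gcd (orderOf_dvd_of_pow_eq_one h1) (orderOf_dvd_of_pow_eq_one h2)
  rw [Nat.Coprime.pow_right k hM, Nat.dvd_one, orderOf_eq_one_iff] at h3
  exact (QuotientGroup.eq_one_iff a).1 h3

/-- **TRS-G6**: a finite `p`-solvable group generated by its `p'`-elements and also by its `p`-elements is trivial. -/
theorem subsingleton_of_perfect {A : Type*} [Group A] [Finite A] (hA : IsPSolvable p A)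
    (h1 : pResidual p A = ⊤) (h2 : Subgroup.closure {a : A | ∃ k : ℕ, orderOf a = p ^ k} = ⊤) :
    Subsingleton A := by
  obtain ⟨n, H, h0, hl, -, hnorm, hfac⟩ := hA
  have key : ∀ i : Fin (n + 1), H i = ⊤ := by
    intro i
    induction i using Fin.reverseInduction with
    | last => exact hl
    | cast i ih =>
      haveI := hnorm i.castSucc
      have hidx : (H i.castSucc).relIndex (H i.succ) = (H i.castSucc).index := by
        rw [ih, Subgroup.relIndex_top_right]
      rcases hfac i with ⟨m, hm⟩ | hc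
      · rw [hidx] at hm
        exact top_le_iff.1 (h1 ▸ g6_pResidual_le (H i.castSucc) m hm)
      · rw [hidx] at hc
        exact top_le_iff.1 (h2 ▸ g6_pElements_le (H i.castSucc) hc)
  have hbt : (⊥ : Subgroup A) = ⊤ := by rw [← h0]; exact key 0
  refine ⟨fun a b => ?_⟩
  have ha : a ∈ (⊥ : Subgroup A) := hbt ▸ Subgroup.mem_top a
  have hb : b ∈ (⊥ : Subgroup A) := hbt ▸ Subgroup.mem_top b
  rw [Subgroup.mem_bot] at ha hb
  rw [ha, hb]

end Cfsg.Agent.Lib.Helper88.Trs
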